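import Groth.Agent.ResProp20.AffinePush

/-! Generating families pull back along affine morphisms of the base. -/

set_option autoImplicit false
set_option backward.isDefEq.respectTransparency false
set_option backward.isDefEq.respectTransparency.types false
set_option linter.style.haveILetI false

universe u

open CategoryTheory CategoryTheory.Limits AlgebraicGeometry Opposite TopologicalSpace FibCat Groth.Agent.Desc19 Groth.Agent.Stk19
open Groth.Agent.Coherent Groth.Agent.PicLib Groth.Agent.TameGood19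
open StMod

noncomputable section

namespace Groth.Agent.ResProp20

/-- A morphism of quasi-coherent modules killed by an affine pushforward is zero. -/
theorem eq_zero_of_push {A B : Scheme.{u}} (π : A ⟶ B) [IsAffineHom π] {M N : A.Modules} [Coh.IsQCoh M] (v : M ⟶ N)
    (h : (Scheme.Modules.pushforward π).map v = 0) : v = 0 := by
  apply Scheme.Modules.hom_ext
  intro V
  refine CategoryTheory.ConcreteCategory.hom_ext _ _ fun a => ?_
  have loc : ∀ z : V, ∃ (D : A.Opens) (hD : D ≤ V), z.1 ∈ D ∧ resM N hD (v.app V a) = 0 := fun z => by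
    obtain ⟨U, hU, hzU, -⟩ := exists_isAffineOpen_mem_and_subset (x := π z.1) (U := (⊤ : B.Opens)) trivial
    have hW : IsAffineOpen (π ⁻¹ᵁ U) := hU.preimage π
    obtain ⟨r, hrV, hzr⟩ := hW.exists_basicOpen_le ⟨z.1, z.2⟩ (show z.1 ∈ π ⁻¹ᵁ U from hzU)
    obtain ⟨n, t, ht⟩ := qcoh_exists_pow_smul hW M r (resM M hrV a)
    obtain ⟨c, hc⟩ := (isUnit_res_pow r (A.basicOpen_le r) le_rfl n).exists_left_inv
    have h0 : v.app (π ⁻¹ᵁ U) t = 0 := congrArg (fun k => Scheme.Modules.Hom.app k U t) h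
    have e : resM M hrV a = c • resM M (A.basicOpen_le r) t := by rw [ht, smul_smul, hc, one_smul]
    refine ⟨A.basicOpen r, hrV, hzr, ?_⟩
    rw [← app_resM v, e, Scheme.Modules.Hom.app_smul, app_resM v, h0, map_zero, smul_zero]
  choose D hD hzD hD0 using loc
  show v.app V a = 0
  refine TopCat.Sheaf.eq_of_locally_eq' (⟨N.presheaf, N.isSheaf⟩ : TopCat.Sheaf Ab A) D V (fun z => homOfLE (hD z))
    (fun z hz => Opens.mem_iSup.2 ⟨⟨z, hz⟩, hzD ⟨z, hz⟩⟩) _ _ fun z => ?_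
  exact (hD0 z).trans (map_zero _).symm

variable {S : Scheme.{u}} {𝒳 𝒴 : AlgSt.Cat S}

theorem sqMap_evMap_eq_id {A B A' : Scheme.{u}} {π : A ⟶ B} {π' : A' ⟶ A} {g' : A' ⟶ A} (w : g' ≫ π = π' ≫ π)
    {σ : A ⟶ A'} (e : σ ≫ π' = 𝟙 A) (eσ : σ ≫ g' = 𝟙 A) {M : A.Modules} {M' : A'.Modules}
    (m : M ⟶ (Scheme.Modules.pushforward g').obj M') (n : M' ⟶ (Scheme.Modules.pushforward σ).obj M)
    (H : m ≫ (Scheme.Modules.pushforward g').map n ≫ (Scheme.Modules.pushforwardComp σ g').hom.app M ≫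
      (Scheme.Modules.pushforwardCongr eσ).hom.app M ≫ (Scheme.Modules.pushforwardId A).hom.app M = 𝟙 M) :
    sqMap w m ≫ (Scheme.Modules.pushforward π).map (evMap e n) = 𝟙 _ := by
  apply Scheme.Modules.hom_ext
  intro U
  refine CategoryTheory.ConcreteCategory.hom_ext _ _ fun s => ?_
  let V := π ⁻¹ᵁ U
  have e1 : π' ⁻¹ᵁ V ≤ g' ⁻¹ᵁ V := le_of_eq (congrArg (· ⁻¹ᵁ U) w).symm
  have e2 : V ≤ σ ⁻¹ᵁ (π' ⁻¹ᵁ V) := le_of_eq (congrArg (· ⁻¹ᵁ V) e).symm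
  have e5 : V ≤ σ ⁻¹ᵁ (g' ⁻¹ᵁ V) := le_of_eq (congrArg (· ⁻¹ᵁ V) eσ).symm
  have e6 : σ ⁻¹ᵁ (π' ⁻¹ᵁ V) ≤ σ ⁻¹ᵁ (g' ⁻¹ᵁ V) := fun _ hx => e1 hx
  let t : Γ(M', g' ⁻¹ᵁ V) := m.app V s
  let a : Γ(M, σ ⁻¹ᵁ (g' ⁻¹ᵁ V)) := n.app (g' ⁻¹ᵁ V) t
  let r : Γ(M', π' ⁻¹ᵁ V) := resM M' e1 t
  let b : Γ(M, σ ⁻¹ᵁ (π' ⁻¹ᵁ V)) := n.app (π' ⁻¹ᵁ V) r
  have hb : b = resM M e6 a := app_resM' n e1 t
  have hH : resM M e5 a = (s : Γ(M, V)) := congrArg (fun k => Scheme.Modules.Hom.app k V s) H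
  have hs : ((sqMap w m).app U s : Γ(M', π' ⁻¹ᵁ V)) = r := sqMap_app w m U s
  have hev : ((evMap e n).app V (show Γ((Scheme.Modules.pushforward π').obj M', V) from r) : Γ(M, V)) = resM M e2 b :=
    evMap_app e n V r
  have key : resM M e2 b = resM M e5 a := by rw [hb, resM_resM]
  exact (congrArg ((evMap e n).app V) hs).trans (hev.trans (key.trans hH))

variable (f : 𝒳 ⥤ᵇ 𝒴) {T Z₀ : Over S} (y : overCat T ⥤ᵇ 𝒴) (o : Z₀ ⟶ T) [IsAffineHom o.left]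

/-- A generating family pulls back to a generating family along an affine morphism of the base. -/
theorem isGenFam_bcCat (h𝒳 : IsFibGrpd 𝒳.p) (h𝒴 : IsFibGrpd 𝒴.p) {ι : Type u} (E : ι → QCoh (fp f y))
    (hgen : IsGenFam E) :
    IsGenFam (fun i => (comapQ (fibFst (fpSnd f y) (Over.mk o : (overCat T).obj))).obj (E i)) := by
  rw [isGenFam_iff] at hgen ⊢
  intro M N u hu
  have hpush : pushHom f y o h𝒳 h𝒴 u = 0 := by
    refine hgen _ fun i ψ => ?_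
    ext1 x
    let F := fibFst (fpSnd f y) (Over.mk o : (overCat T).obj)
    let r := radj f y o h𝒳 h𝒴 x
    let ε := counit f y o h𝒳 h𝒴 x
    let φ : ((comapQ F).obj (E i)).obj ⟶ M.obj :=
      ((comapQ F).map (ObjectProperty.homMk ψ : E i ⟶ pushQ f y o h𝒳 h𝒴 M)).hom ≫ evalHom f y o h𝒳 h𝒴 M
    have h0 : (ψ.app r.left ≫ evMap (sect_pr f y o h𝒳 h𝒴 r) (M.obj.map (sect f y o h𝒳 h𝒴 r) rfl)) ≫
        u.hom.app r = 0 := congrArg (fun k => k.app r) (hu i φ)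
    have eσ : bmap (bcCat f y o) (sect f y o h𝒳 h𝒴 r) ≫ bmap (bcCat f y o) (radjMap f y o h𝒳 h𝒴 ε) = 𝟙 _ := by
      rw [← bmap_comp, sect_radjMap_counit, bmap_id]
    have hid : sqMap (radjMap_pr f y o h𝒳 h𝒴 ε rfl) (M.obj.map (radjMap f y o h𝒳 h𝒴 ε) rfl) ≫
        (Scheme.Modules.pushforward (bmap (fp f y) ε)).map
          (evMap (sect_pr f y o h𝒳 h𝒴 r) (M.obj.map (sect f y o h𝒳 h𝒴 r) rfl)) = 𝟙 _ := by
      refine sqMap_evMap_eq_id _ _ eσ _ _ ?_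
      rw [← reassoc_of% (M.obj.map_comp (sect f y o h𝒳 h𝒴 r) (radjMap f y o h𝒳 h𝒴 ε) rfl rfl),
        ← Category.assoc, Mod.map_comp_pushforwardCongr, M.obj.map_congr (sect_radjMap_counit f y o h𝒳 h𝒴 x)]
      exact M.obj.map_id r
    have hc : (E i).obj.map ε rfl ≫ (Scheme.Modules.pushforward (bmap (fp f y) ε)).map (ψ.app r.left) =
        ψ.app x ≫ sqMap (radjMap_pr f y o h𝒳 h𝒴 ε rfl) (M.obj.map (radjMap f y o h𝒳 h𝒴 ε) rfl) := ψ.comm ε rfl
    show ψ.app x ≫ (Scheme.Modules.pushforward (bmap (fp f y) ε)).map (u.hom.app r) = 0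
    have h1 : ψ.app x = (E i).obj.map ε rfl ≫ (Scheme.Modules.pushforward (bmap (fp f y) ε)).map
        (ψ.app r.left ≫ evMap (sect_pr f y o h𝒳 h𝒴 r) (M.obj.map (sect f y o h𝒳 h𝒴 r) rfl)) := by
      rw [Functor.map_comp, reassoc_of% hc]
      exact ((congrArg (ψ.app x ≫ ·) hid).trans (Category.comp_id _)).symm
    have h2 := congrArg (fun k => (Scheme.Modules.pushforward (bmap (fp f y) ε)).map k) h0
    refine (congrArg (fun k => k ≫ (Scheme.Modules.pushforward (bmap (fp f y) ε)).map (u.hom.app r)) h1).trans ?_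
    refine (Category.assoc _ _ _).trans ((congrArg ((E i).obj.map ε rfl ≫ ·)
      ((Functor.map_comp _ _ _).symm.trans (h2.trans (Functor.map_zero _ _ _)))).trans comp_zero)
  refine ObjectProperty.hom_ext _ ?_
  ext1 z
  have hR : u.hom.app (radj f y o h𝒳 h𝒴 z.left) = 0 := by
    haveI : Coh.IsQCoh (M.obj.obj (radj f y o h𝒳 h𝒴 z.left)) := M.property.2 _
    haveI := isAffineHom_prT f y o h𝒳 h𝒴 z.left
    exact eq_zero_of_push (prT f y o h𝒳 h𝒴 z.left) _ (congrArg (fun k => k.hom.app z.left) hpush)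
  exact rel_right_unique (rel_of_hom u.hom (sect f y o h𝒳 h𝒴 z)) (hR ▸ rel_zero _ _ _)

omit f y o in
/-- Flat representable charts from affine schemes give flat affine pieces. -/
theorem exists_affine_piece (h𝒴 : AlgSt.IsAlgStack Scheme.fppfPrecoverage 𝒴) {T : Over S} [IsAffine T.left]
    (y : overCat T ⥤ᵇ 𝒴) (hfl : AlgSt.RepByAlgSpWith (AlgSp.LocP @Flat) y) {η : 𝒴.obj}
    (yη : overCat (𝒴.p.obj η) ⥤ᵇ 𝒴) (iη : yη.obj (Over.mk (𝟙 (𝒴.p.obj η))) ≅ η)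
    (hiη : 𝒴.p.IsHomLift (𝟙 (𝒴.p.obj η)) iη.hom) (t : (𝒴.p.obj η).left)
    (ht : ∃ s, AlgSt.Points.ofChart y s = AlgSt.Points.ofChart yη t) :
    ∃ (Z : Over S) (o : Z ⟶ T) (β : y.obj (Over.mk o) ⟶ η), IsAffine Z.left ∧ Flat (baseMap β).left ∧
      t ∈ Set.range (baseMap β).left := by
  obtain ⟨W, p, q, ⟨J⟩, hq, -, hsurj⟩ :=
    exists_chart_fp h𝒴.isStack.1 (x := y) yη (repByAlgSp1_of_with hfl)
  obtain ⟨s, hs⟩ := ht
  obtain ⟨v, -, hv₂⟩ := hsurj _ _ hs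
  haveI : Flat q.left := hq AlgSpLib.etLocal_flat hfl
  obtain ⟨O, hO, hvO, -⟩ := exists_isAffineOpen_mem_and_subset (x := v) (U := (⊤ : W.left.Opens)) trivial
  let Z : Over S := Over.mk (O.ι ≫ W.hom)
  let b : Z ⟶ W := Over.homMk O.ι rfl
  let b' : (overCat W).obj := Over.mk b
  let β : y.obj (Over.mk (b ≫ p)) ⟶ η :=
    (Stk19.appIso J b').hom ≫ yη.map (toId ((AlgSt.overMap q).obj b')) ≫ iη.hom
  have hb : baseMap β = b ≫ q := by
    haveI := hiη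
    have h2 : 𝒴.p.map (Stk19.appIso J b').hom = _ := based_app_map J.hom b'
    have h3 := map_eq_of_vert 𝒴.p (R := 𝒴.p.obj η) iη.hom
    simp only [baseMap, StMod.baseOver, β, Functor.map_comp, h2, h3, based_map yη]
    simp [eqToHom_map]
    rfl
  refine ⟨Z, b ≫ p, β, hO, ?_, ?_⟩
  · rw [hb]
    show Flat (O.ι ≫ q.left)
    infer_instance
  · rw [hb]
    exact ⟨(⟨v, hvO⟩ : O), hv₂⟩

end Groth.Agent.ResProp20
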