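import Groth.Agent.ResProp20.LocalBase
import Groth.Agent.CohExch.AffineBC0

/-! Direct image along an affine base change of the category of a morphism to a representable category. -/

set_option autoImplicit false
set_option backward.isDefEq.respectTransparency false
set_option backward.isDefEq.respectTransparency.types false
set_option linter.style.haveILetI false

universe u

open CategoryTheory CategoryTheory.Limits AlgebraicGeometry Opposite FibCat Groth.Agent.Desc19 Groth.Agent.Stk19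
open Groth.Agent.Coherent Groth.Agent.PicLib Groth.Agent.TameGood19
open StMod

noncomputable section

namespace Groth.Agent.ResProp20

variable {S : Scheme.{u}} {𝒳 𝒴 : AlgSt.Cat S} (f : 𝒳 ⥤ᵇ 𝒴) {T Z₀ : Over S} (y : overCat T ⥤ᵇ 𝒴) (o : Z₀ ⟶ T)

/-- The base change of the category to `Z₀`. -/
abbrev bcCat : AlgSt.Cat S := StMod.fibCat (fpSnd f y) (Over.mk o : (overCat T).obj)

/-- The map to `T` under an object. -/
def bT (x : (fp f y).obj) : (fp f y).p.obj x ⟶ T := eqToHom ((fpSnd f y).w_obj x).symm ≫ x.obj.snd.hom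

theorem map_bT {x' x : (fp f y).obj} (φ : x' ⟶ x) : (fp f y).p.map φ ≫ bT f y x = bT f y x' := by
  have h : φ.hom.snd.left =
      eqToHom ((fpSnd f y).w_obj x') ≫ (fp f y).p.map φ ≫ eqToHom ((fpSnd f y).w_obj x).symm :=
    based_map (fpSnd f y) φ
  unfold bT
  rw [← Over.w φ.hom.snd, h]
  simp

/-- The map to `Z₀` under an object of the base change. -/
def bZ (z : (bcCat f y o).obj) : (bcCat f y o).p.obj z ⟶ Z₀ :=
  StMod.baseOver (fpSnd f y) z.left z.hom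

theorem bZ_comp (z : (bcCat f y o).obj) : bZ f y o z ≫ o = bT f y z.left := by
  show (eqToHom _ ≫ z.hom.left) ≫ o = _
  rw [Category.assoc]
  exact congrArg (eqToHom _ ≫ ·) (Over.w z.hom)

theorem map_bZ {z' z : (bcCat f y o).obj} (m : z' ⟶ z) : (bcCat f y o).p.map m ≫ bZ f y o z = bZ f y o z' := by
  show (fp f y).p.map m.left ≫ _ = _
  rw [show bZ f y o z = StMod.baseOver (fpSnd f y) z.left z.hom from rfl, StMod.map_comp_baseOver]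
  exact congrArg (StMod.baseOver (fpSnd f y) z'.left) (CostructuredArrow.w m)

variable (h𝒳 : IsFibGrpd 𝒳.p) (h𝒴 : IsFibGrpd 𝒴.p)

include h𝒳 h𝒴 in
theorem exists_adj (x : (fp f y).obj) :
    ∃ (r : (bcCat f y o).obj) (ε : r.left ⟶ x), IsPullback ((fp f y).p.map ε) (bZ f y o r) (bT f y x) o := by
  have hF : IsFibGrpd (fp f y).p := fibGrpd_fp h𝒳 (isFibGrpd_overCat T) h𝒴 f y
  have sq := IsPullback.of_hasPullback (bT f y x) o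
  obtain ⟨x', ε, e, hε⟩ := fibGrpd_lift hF x (pullback.fst (bT f y x) o)
  let m : x'.obj.snd ⟶ (Over.mk o : (overCat T).obj) :=
    Over.homMk (eqToHom (((fpSnd f y).w_obj x').trans e) ≫ pullback.snd (bT f y x) o) (by
      show (_ ≫ pullback.snd _ _) ≫ o = x'.obj.snd.hom
      rw [Category.assoc, ← pullback.condition, ← Category.assoc]
      have h := map_bT f y ε
      rw [hε, Category.assoc] at h
      rw [← cancel_epi (eqToHom ((fpSnd f y).w_obj x').symm)]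
      refine Eq.trans ?_ h
      simp only [Category.assoc, eqToHom_trans_assoc])
  refine ⟨CostructuredArrow.mk (S := (fpSnd f y).toFunctor) (Y := x') m, ε, ?_⟩
  have hb : bZ f y o (CostructuredArrow.mk (S := (fpSnd f y).toFunctor) (Y := x') m) =
      eqToHom e ≫ pullback.snd (bT f y x) o := by
    show eqToHom _ ≫ (eqToHom _ ≫ pullback.snd (bT f y x) o) = _
    simp
  rw [hb, hε]
  exact sq.of_iso (eqToIso e).symm (Iso.refl _) (Iso.refl _) (Iso.refl _) (by simp) (by simp) (by simp) (by simp)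

/-- The base change of an object. -/
def radj (x : (fp f y).obj) : (bcCat f y o).obj := (exists_adj f y o h𝒳 h𝒴 x).choose

/-- Its projection. -/
def counit (x : (fp f y).obj) : (radj f y o h𝒳 h𝒴 x).left ⟶ x := (exists_adj f y o h𝒳 h𝒴 x).choose_spec.choose

theorem isPullback_radj (x : (fp f y).obj) :
    IsPullback ((fp f y).p.map (counit f y o h𝒳 h𝒴 x)) (bZ f y o (radj f y o h𝒳 h𝒴 x)) (bT f y x) o :=
  (exists_adj f y o h𝒳 h𝒴 x).choose_spec.choose_spec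

theorem existsUnique_radj (x : (fp f y).obj) (z : (bcCat f y o).obj) (φ : z.left ⟶ x) :
    ∃! m : z ⟶ radj f y o h𝒳 h𝒴 x, m.left ≫ counit f y o h𝒳 h𝒴 x = φ := by
  have hF : IsFibGrpd (fp f y).p := fibGrpd_fp h𝒳 (isFibGrpd_overCat T) h𝒴 f y
  have sq := isPullback_radj f y o h𝒳 h𝒴 x
  obtain ⟨χ, ⟨hχ, hχε⟩, -⟩ := fibGrpd_fac hF (counit f y o h𝒳 h𝒴 x) φ
    (sq.lift ((fp f y).p.map φ) (bZ f y o z) (by rw [map_bT, bZ_comp])) (sq.lift_fst _ _ _)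
  have hw : (fpSnd f y).map χ ≫ (radj f y o h𝒳 h𝒴 x).hom = z.hom := by
    refine Over.OverMorphism.ext ?_
    have h1 : (fp f y).p.map χ ≫ bZ f y o (radj f y o h𝒳 h𝒴 x) = bZ f y o z := by rw [hχ]; exact sq.lift_snd _ _ _
    rw [bZ, StMod.map_comp_baseOver] at h1
    exact (cancel_epi (eqToHom ((fpSnd f y).w_obj z.left).symm)).1 h1
  refine ⟨CostructuredArrow.homMk χ hw, hχε, fun m hm => ?_⟩
  refine CostructuredArrow.hom_ext _ _ (fibGrpd_ext hF (counit f y o h𝒳 h𝒴 x) ?_ (hm.trans hχε.symm))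
  refine sq.hom_ext ?_ ?_
  · rw [← Functor.map_comp, ← Functor.map_comp, hm]
    exact congrArg _ hχε.symm
  · rw [show (fp f y).p.map m.left ≫ bZ f y o (radj f y o h𝒳 h𝒴 x) = bZ f y o z from map_bZ f y o m]
    exact (sq.lift_snd _ _ _).symm.trans (congrArg (fun k => k ≫ bZ f y o (radj f y o h𝒳 h𝒴 x)) hχ.symm)

/-- The morphism to the base change corresponding to a morphism. -/
def adjHom {x : (fp f y).obj} {z : (bcCat f y o).obj} (φ : z.left ⟶ x) : z ⟶ radj f y o h𝒳 h𝒴 x :=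
  (existsUnique_radj f y o h𝒳 h𝒴 x z φ).choose

theorem adjHom_counit {x : (fp f y).obj} {z : (bcCat f y o).obj} (φ : z.left ⟶ x) :
    (adjHom f y o h𝒳 h𝒴 φ).left ≫ counit f y o h𝒳 h𝒴 x = φ :=
  (existsUnique_radj f y o h𝒳 h𝒴 x z φ).choose_spec.1

theorem adj_ext {x : (fp f y).obj} {z : (bcCat f y o).obj} {m m' : z ⟶ radj f y o h𝒳 h𝒴 x}
    (h : m.left ≫ counit f y o h𝒳 h𝒴 x = m'.left ≫ counit f y o h𝒳 h𝒴 x) : m = m' :=
  (existsUnique_radj f y o h𝒳 h𝒴 x z (m'.left ≫ counit f y o h𝒳 h𝒴 x)).unique h rfl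

/-- The base change of a morphism. -/
def radjMap {x' x : (fp f y).obj} (φ : x' ⟶ x) : radj f y o h𝒳 h𝒴 x' ⟶ radj f y o h𝒳 h𝒴 x :=
  adjHom f y o h𝒳 h𝒴 (counit f y o h𝒳 h𝒴 x' ≫ φ)

theorem radjMap_id (x : (fp f y).obj) : radjMap f y o h𝒳 h𝒴 (𝟙 x) = 𝟙 _ := by
  refine adj_ext f y o h𝒳 h𝒴 ?_
  rw [radjMap, adjHom_counit]
  exact (Category.comp_id _).trans (Category.id_comp _).symm

theorem radjMap_comp {x'' x' x : (fp f y).obj} (ψ : x'' ⟶ x') (φ : x' ⟶ x) :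
    radjMap f y o h𝒳 h𝒴 (ψ ≫ φ) = radjMap f y o h𝒳 h𝒴 ψ ≫ radjMap f y o h𝒳 h𝒴 φ := by
  refine adj_ext f y o h𝒳 h𝒴 ?_
  rw [radjMap, adjHom_counit, CostructuredArrow.comp_left, Category.assoc, radjMap, radjMap, adjHom_counit,
    ← Category.assoc (adjHom f y o h𝒳 h𝒴 _).left, adjHom_counit, Category.assoc]

/-- The projection of schemes. -/
abbrev prT (x : (fp f y).obj) : sch (bcCat f y o) (radj f y o h𝒳 h𝒴 x) ⟶ sch (fp f y) x :=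
  bmap (fp f y) (counit f y o h𝒳 h𝒴 x)

theorem radjMap_pr {x' x : (fp f y).obj} (φ : x' ⟶ x) {g : sch (fp f y) x' ⟶ sch (fp f y) x}
    (hg : bmap (fp f y) φ = g) :
    bmap (bcCat f y o) (radjMap f y o h𝒳 h𝒴 φ) ≫ prT f y o h𝒳 h𝒴 x = prT f y o h𝒳 h𝒴 x' ≫ g := by
  subst hg
  show bmap (fp f y) (radjMap f y o h𝒳 h𝒴 φ).left ≫ bmap (fp f y) _ = _
  rw [← bmap_comp, radjMap, adjHom_counit, bmap_comp]

theorem isPullback_radjMap {x' x : (fp f y).obj} (φ : x' ⟶ x) {g : sch (fp f y) x' ⟶ sch (fp f y) x}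
    (hg : bmap (fp f y) φ = g) :
    IsPullback (bmap (bcCat f y o) (radjMap f y o h𝒳 h𝒴 φ)) (prT f y o h𝒳 h𝒴 x') (prT f y o h𝒳 h𝒴 x) g := by
  have A := ((isPullback_radj f y o h𝒳 h𝒴 x).map (Over.forget S)).flip
  have B := ((isPullback_radj f y o h𝒳 h𝒴 x').map (Over.forget S)).flip
  have hb : g ≫ (bT f y x).left = (bT f y x').left := by
    subst hg
    exact congrArg CommaMorphism.left (map_bT f y φ)
  have hz : bmap (bcCat f y o) (radjMap f y o h𝒳 h𝒴 φ) ≫ (bZ f y o (radj f y o h𝒳 h𝒴 x)).left =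
      (bZ f y o (radj f y o h𝒳 h𝒴 x')).left :=
    congrArg CommaMorphism.left (map_bZ f y o (radjMap f y o h𝒳 h𝒴 φ))
  refine IsPullback.flip (IsPullback.of_bot ?_ (radjMap_pr f y o h𝒳 h𝒴 φ hg).symm A.flip)
  show IsPullback (prT f y o h𝒳 h𝒴 x') (bmap (bcCat f y o) (radjMap f y o h𝒳 h𝒴 φ) ≫
    (bZ f y o (radj f y o h𝒳 h𝒴 x)).left) (g ≫ (bT f y x).left) o.left
  rw [hz, hb]
  exact B.flip

variable [IsAffineHom o.left]

theorem isAffineHom_prT (x : (fp f y).obj) : IsAffineHom (prT f y o h𝒳 h𝒴 x) :=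
  MorphismProperty.of_isPullback (P := @IsAffineHom) ((isPullback_radj f y o h𝒳 h𝒴 x).map (Over.forget S)).flip
    (inferInstance : IsAffineHom o.left)

/-- Comparison of direct images along a commutative square. -/
def sqMap {A B A' B' : Scheme.{u}} {π : A ⟶ B} {π' : A' ⟶ B'} {g : B' ⟶ B} {g' : A' ⟶ A}
    (w : g' ≫ π = π' ≫ g) {M : A.Modules} {M' : A'.Modules} (m : M ⟶ (Scheme.Modules.pushforward g').obj M') :
    (Scheme.Modules.pushforward π).obj M ⟶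
      (Scheme.Modules.pushforward g).obj ((Scheme.Modules.pushforward π').obj M') :=
  (Scheme.Modules.pushforward π).map m ≫ (Scheme.Modules.pushforwardComp g' π).hom.app M' ≫
    (Scheme.Modules.pushforwardCongr w).hom.app M' ≫ (Scheme.Modules.pushforwardComp π' g).inv.app M'

omit 𝒳 𝒴 f T Z₀ y o h𝒳 h𝒴 in
theorem sqMap_app {A B A' B' : Scheme.{u}} {π : A ⟶ B} {π' : A' ⟶ B'} {g : B' ⟶ B} {g' : A' ⟶ A}
    (w : g' ≫ π = π' ≫ g) {M : A.Modules} {M' : A'.Modules} (m : M ⟶ (Scheme.Modules.pushforward g').obj M')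
    (U : B.Opens) (s : Γ(M, π ⁻¹ᵁ U)) :
    (sqMap w m).app U s =
      resM M' (le_of_eq (congrArg (· ⁻¹ᵁ U) w).symm) (show Γ(M', g' ⁻¹ᵁ (π ⁻¹ᵁ U)) from m.app (π ⁻¹ᵁ U) s) := by
  simp only [sqMap, Scheme.Modules.Hom.comp_app, Scheme.Modules.pushforwardComp_hom_app_app,
    Scheme.Modules.pushforwardComp_inv_app_app, Scheme.Modules.pushforwardCongr_hom_app_app,
    Scheme.Modules.pushforward_map_app]
  rfl

omit 𝒳 𝒴 f T Z₀ y o h𝒳 h𝒴 in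
theorem app_resM' {A A' : Scheme.{u}} {g : A' ⟶ A} {M : A.Modules} {M' : A'.Modules}
    (m : M ⟶ (Scheme.Modules.pushforward g).obj M') {U V : A.Opens} (h : V ≤ U) (s : Γ(M, U)) :
    (m.app V (resM M h s) : Γ(M', g ⁻¹ᵁ V)) = resM M' (fun _ hx => h hx) (m.app U s : Γ(M', g ⁻¹ᵁ U)) :=
  app_resM m h s

omit 𝒳 𝒴 f T Z₀ y o h𝒳 h𝒴 in
theorem mod_app_congr {C : AlgSt.Cat S} (M : Mod C) {a b : C.obj} {φ φ' : a ⟶ b} (h : φ = φ')
    {g g' : sch C a ⟶ sch C b} (hg : bmap C φ = g) (hg' : bmap C φ' = g') (U : (sch C b).Opens) {W : (sch C a).Opens}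
    (h₁ : W ≤ g ⁻¹ᵁ U) (h₂ : W ≤ g' ⁻¹ᵁ U) (s : Γ(M.obj b, U)) :
    resM (M.obj a) h₁ ((M.map φ hg).app U s : Γ(M.obj a, g ⁻¹ᵁ U)) =
      resM (M.obj a) h₂ ((M.map φ' hg').app U s : Γ(M.obj a, g' ⁻¹ᵁ U)) := by
  subst h hg
  subst hg'
  rfl

omit 𝒳 𝒴 f T Z₀ y o h𝒳 h𝒴 in
theorem sqMap_id {A B : Scheme.{u}} {π : A ⟶ B} {g : A ⟶ A} (w : g ≫ π = π ≫ 𝟙 B) (e : g = 𝟙 A) {M : A.Modules}
    (m : M ⟶ (Scheme.Modules.pushforward g).obj M)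
    (hm : m ≫ (Scheme.Modules.pushforwardCongr e).hom.app M ≫ (Scheme.Modules.pushforwardId A).hom.app M = 𝟙 M) :
    sqMap w m ≫ (Scheme.Modules.pushforwardId B).hom.app _ = 𝟙 _ := by
  subst e
  rw [StMod.pushforwardCongr_hom_app_self, Category.id_comp] at hm
  apply Scheme.Modules.hom_ext
  intro U
  refine CategoryTheory.ConcreteCategory.hom_ext _ _ fun s => ?_
  have h : (show Γ(M, π ⁻¹ᵁ U) from m.app (π ⁻¹ᵁ U) (show Γ(M, π ⁻¹ᵁ U) from s)) = (show Γ(M, π ⁻¹ᵁ U) from s) :=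
    congrArg (fun k => Scheme.Modules.Hom.app k (π ⁻¹ᵁ U) s) hm
  show ((sqMap w m).app U s : Γ((Scheme.Modules.pushforward π).obj M, U)) = s
  refine (sqMap_app w m U s).trans ?_
  refine Eq.trans ?_ h
  exact resM_self M le_rfl _

omit 𝒳 𝒴 f T Z₀ y o h𝒳 h𝒴 in
theorem sqMap_comp {A B A' B' A'' B'' : Scheme.{u}} {π : A ⟶ B} {π' : A' ⟶ B'} {π'' : A'' ⟶ B''} {g : B' ⟶ B}
    {h : B'' ⟶ B'} {g' : A' ⟶ A} {h' : A'' ⟶ A'} {k : A'' ⟶ A} (w : g' ≫ π = π' ≫ g) (w' : h' ≫ π' = π'' ≫ h)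
    (w'' : k ≫ π = π'' ≫ h ≫ g) {M : A.Modules} {M' : A'.Modules} {M'' : A''.Modules}
    (m : M ⟶ (Scheme.Modules.pushforward g').obj M') (m' : M' ⟶ (Scheme.Modules.pushforward h').obj M'')
    (mc : M ⟶ (Scheme.Modules.pushforward k).obj M'') (e : k = h' ≫ g')
    (hmc : mc ≫ (Scheme.Modules.pushforwardCongr e).hom.app M'' =
      m ≫ (Scheme.Modules.pushforward g').map m' ≫ (Scheme.Modules.pushforwardComp h' g').hom.app M'') :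
    sqMap w'' mc = sqMap w m ≫ (Scheme.Modules.pushforward g).map (sqMap w' m') ≫
      (Scheme.Modules.pushforwardComp h g).hom.app _ := by
  subst e
  rw [StMod.pushforwardCongr_hom_app_self, Category.comp_id] at hmc
  apply Scheme.Modules.hom_ext
  intro U
  refine CategoryTheory.ConcreteCategory.hom_ext _ _ fun s => ?_
  have h0 : (show Γ(M'', h' ⁻¹ᵁ (g' ⁻¹ᵁ (π ⁻¹ᵁ U))) from mc.app (π ⁻¹ᵁ U) s) =
      m'.app (g' ⁻¹ᵁ (π ⁻¹ᵁ U)) (show Γ(M', g' ⁻¹ᵁ (π ⁻¹ᵁ U)) from m.app (π ⁻¹ᵁ U) s) :=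
    congrArg (fun k => Scheme.Modules.Hom.app k (π ⁻¹ᵁ U) s) hmc
  have e1 : π' ⁻¹ᵁ (g ⁻¹ᵁ U) ≤ g' ⁻¹ᵁ (π ⁻¹ᵁ U) := le_of_eq (congrArg (· ⁻¹ᵁ U) w).symm
  have e2 : π'' ⁻¹ᵁ (h ⁻¹ᵁ (g ⁻¹ᵁ U)) ≤ h' ⁻¹ᵁ (π' ⁻¹ᵁ (g ⁻¹ᵁ U)) :=
    le_of_eq (congrArg (· ⁻¹ᵁ (g ⁻¹ᵁ U)) w').symm
  have e3 : π'' ⁻¹ᵁ (h ⁻¹ᵁ (g ⁻¹ᵁ U)) ≤ h' ⁻¹ᵁ (g' ⁻¹ᵁ (π ⁻¹ᵁ U)) := le_of_eq (congrArg (· ⁻¹ᵁ U) w'').symm
  let t : Γ(M', g' ⁻¹ᵁ (π ⁻¹ᵁ U)) := m.app (π ⁻¹ᵁ U) s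
  let a : Γ(M'', h' ⁻¹ᵁ (g' ⁻¹ᵁ (π ⁻¹ᵁ U))) := m'.app (g' ⁻¹ᵁ (π ⁻¹ᵁ U)) t
  let r : Γ(M', π' ⁻¹ᵁ (g ⁻¹ᵁ U)) := resM M' e1 t
  let b : Γ(M'', h' ⁻¹ᵁ (π' ⁻¹ᵁ (g ⁻¹ᵁ U))) := m'.app (π' ⁻¹ᵁ (g ⁻¹ᵁ U)) r
  have e4 : h' ⁻¹ᵁ (π' ⁻¹ᵁ (g ⁻¹ᵁ U)) ≤ h' ⁻¹ᵁ (g' ⁻¹ᵁ (π ⁻¹ᵁ U)) := fun _ hx => e1 hx
  have hr : b = resM M'' e4 a := app_resM' m' e1 t
  have key : resM M'' e3 a = resM M'' e2 b := by rw [hr, resM_resM]
  have hl : ((sqMap w'' mc).app U s : Γ(M'', π'' ⁻¹ᵁ (h ⁻¹ᵁ (g ⁻¹ᵁ U)))) = resM M'' e3 a :=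
    (sqMap_app w'' mc U s).trans (congrArg (fun q => resM M'' e3 q) h0)
  have hs : ((sqMap w m).app U s : Γ(M', π' ⁻¹ᵁ (g ⁻¹ᵁ U))) = r := sqMap_app w m U s
  have hs' : ((sqMap w' m').app (g ⁻¹ᵁ U) (show Γ((Scheme.Modules.pushforward π').obj M', g ⁻¹ᵁ U) from r) :
      Γ(M'', π'' ⁻¹ᵁ (h ⁻¹ᵁ (g ⁻¹ᵁ U)))) = resM M'' e2 b := sqMap_app w' m' (g ⁻¹ᵁ U) r
  exact hl.trans (key.trans (hs'.symm.trans (congrArg ((sqMap w' m').app (g ⁻¹ᵁ U)) hs.symm)))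

omit 𝒳 𝒴 f T Z₀ y o h𝒳 h𝒴 in
theorem sqMap_comp_map {A B A' B' : Scheme.{u}} {π : A ⟶ B} {π' : A' ⟶ B'} {g : B' ⟶ B} {g' : A' ⟶ A}
    (w : g' ≫ π = π' ≫ g) {M : A.Modules} {M' N' : A'.Modules} (m : M ⟶ (Scheme.Modules.pushforward g').obj M')
    (θ : M' ⟶ N') :
    sqMap w (m ≫ (Scheme.Modules.pushforward g').map θ) =
      sqMap w m ≫ (Scheme.Modules.pushforward g).map ((Scheme.Modules.pushforward π').map θ) := by
  apply Scheme.Modules.hom_ext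
  intro U
  refine CategoryTheory.ConcreteCategory.hom_ext _ _ fun s => ?_
  have e1 : π' ⁻¹ᵁ (g ⁻¹ᵁ U) ≤ g' ⁻¹ᵁ (π ⁻¹ᵁ U) := le_of_eq (congrArg (· ⁻¹ᵁ U) w).symm
  let t : Γ(M', g' ⁻¹ᵁ (π ⁻¹ᵁ U)) := m.app (π ⁻¹ᵁ U) s
  have h1 : ((sqMap w m).app U s : Γ(M', π' ⁻¹ᵁ (g ⁻¹ᵁ U))) = resM M' e1 t := sqMap_app w m U s
  have h2 : ((sqMap w (m ≫ (Scheme.Modules.pushforward g').map θ)).app U s : Γ(N', π' ⁻¹ᵁ (g ⁻¹ᵁ U))) =
      resM N' e1 (θ.app (g' ⁻¹ᵁ (π ⁻¹ᵁ U)) t) := sqMap_app w (m ≫ (Scheme.Modules.pushforward g').map θ) U s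
  exact h2.trans ((app_resM θ e1 t).symm.trans (congrArg (θ.app (π' ⁻¹ᵁ (g ⁻¹ᵁ U))) h1.symm))

/-- Evaluation along a section. -/
def evMap {A B : Scheme.{u}} {π : A ⟶ B} {σ : B ⟶ A} (e : σ ≫ π = 𝟙 B) {M : A.Modules} {M₀ : B.Modules}
    (n : M ⟶ (Scheme.Modules.pushforward σ).obj M₀) : (Scheme.Modules.pushforward π).obj M ⟶ M₀ :=
  (Scheme.Modules.pushforward π).map n ≫ (Scheme.Modules.pushforwardComp σ π).hom.app M₀ ≫
    (Scheme.Modules.pushforwardCongr e).hom.app M₀ ≫ (Scheme.Modules.pushforwardId B).hom.app M₀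

omit 𝒳 𝒴 f T Z₀ y o h𝒳 h𝒴 in
theorem evMap_app {A B : Scheme.{u}} {π : A ⟶ B} {σ : B ⟶ A} (e : σ ≫ π = 𝟙 B) {M : A.Modules} {M₀ : B.Modules}
    (n : M ⟶ (Scheme.Modules.pushforward σ).obj M₀) (U : B.Opens) (s : Γ(M, π ⁻¹ᵁ U)) :
    (evMap e n).app U s =
      resM M₀ (le_of_eq (congrArg (· ⁻¹ᵁ U) e).symm) (show Γ(M₀, σ ⁻¹ᵁ (π ⁻¹ᵁ U)) from n.app (π ⁻¹ᵁ U) s) := by
  simp only [evMap, Scheme.Modules.Hom.comp_app, Scheme.Modules.pushforwardComp_hom_app_app,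
    Scheme.Modules.pushforwardCongr_hom_app_app, Scheme.Modules.pushforwardId_hom_app_app,
    Scheme.Modules.pushforward_map_app]
  rfl

omit 𝒳 𝒴 f T Z₀ y o h𝒳 h𝒴 in
theorem evMap_natural {A B A' B' : Scheme.{u}} {π : A ⟶ B} {π' : A' ⟶ B'} {g : B' ⟶ B} {g' : A' ⟶ A}
    (w : g' ≫ π = π' ≫ g) {σ : B ⟶ A} (e : σ ≫ π = 𝟙 B) {σ' : B' ⟶ A'} (e' : σ' ≫ π' = 𝟙 B') (eσ : σ' ≫ g' = g ≫ σ)
    {M : A.Modules} {M' : A'.Modules} {M₀ : B.Modules} {M₀' : B'.Modules}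
    (m : M ⟶ (Scheme.Modules.pushforward g').obj M') (n' : M' ⟶ (Scheme.Modules.pushforward σ').obj M₀')
    (n : M ⟶ (Scheme.Modules.pushforward σ).obj M₀) (mz : M₀ ⟶ (Scheme.Modules.pushforward g).obj M₀')
    (H : m ≫ (Scheme.Modules.pushforward g').map n' ≫ (Scheme.Modules.pushforwardComp σ' g').hom.app M₀' ≫
        (Scheme.Modules.pushforwardCongr eσ).hom.app M₀' =
      n ≫ (Scheme.Modules.pushforward σ).map mz ≫ (Scheme.Modules.pushforwardComp g σ).hom.app M₀') :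
    sqMap w m ≫ (Scheme.Modules.pushforward g).map (evMap e' n') = evMap e n ≫ mz := by
  apply Scheme.Modules.hom_ext
  intro U
  refine CategoryTheory.ConcreteCategory.hom_ext _ _ fun s => ?_
  let V := π ⁻¹ᵁ U
  have e1 : π' ⁻¹ᵁ (g ⁻¹ᵁ U) ≤ g' ⁻¹ᵁ V := le_of_eq (congrArg (· ⁻¹ᵁ U) w).symm
  have e2 : g ⁻¹ᵁ U ≤ σ' ⁻¹ᵁ (π' ⁻¹ᵁ (g ⁻¹ᵁ U)) := le_of_eq (congrArg (· ⁻¹ᵁ (g ⁻¹ᵁ U)) e').symm
  have e3 : U ≤ σ ⁻¹ᵁ V := le_of_eq (congrArg (· ⁻¹ᵁ U) e).symm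
  have e4 : g ⁻¹ᵁ U ≤ g ⁻¹ᵁ (σ ⁻¹ᵁ V) := fun _ hx => e3 hx
  have e5 : g ⁻¹ᵁ (σ ⁻¹ᵁ V) ≤ σ' ⁻¹ᵁ (g' ⁻¹ᵁ V) := le_of_eq (congrArg (· ⁻¹ᵁ V) eσ).symm
  have e6 : σ' ⁻¹ᵁ (π' ⁻¹ᵁ (g ⁻¹ᵁ U)) ≤ σ' ⁻¹ᵁ (g' ⁻¹ᵁ V) := fun _ hx => e1 hx
  let t : Γ(M', g' ⁻¹ᵁ V) := m.app V s
  let a : Γ(M₀', σ' ⁻¹ᵁ (g' ⁻¹ᵁ V)) := n'.app (g' ⁻¹ᵁ V) t
  let r : Γ(M', π' ⁻¹ᵁ (g ⁻¹ᵁ U)) := resM M' e1 t
  let b : Γ(M₀', σ' ⁻¹ᵁ (π' ⁻¹ᵁ (g ⁻¹ᵁ U))) := n'.app (π' ⁻¹ᵁ (g ⁻¹ᵁ U)) r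
  let v : Γ(M₀, σ ⁻¹ᵁ V) := n.app V s
  have hb : b = resM M₀' e6 a := app_resM' n' e1 t
  have hH : resM M₀' e5 a = (mz.app (σ ⁻¹ᵁ V) v : Γ(M₀', g ⁻¹ᵁ (σ ⁻¹ᵁ V))) :=
    congrArg (fun k => Scheme.Modules.Hom.app k V s) H
  have hs : ((sqMap w m).app U s : Γ(M', π' ⁻¹ᵁ (g ⁻¹ᵁ U))) = r := sqMap_app w m U s
  have hev : ((evMap e' n').app (g ⁻¹ᵁ U) (show Γ((Scheme.Modules.pushforward π').obj M', g ⁻¹ᵁ U) from r) :
      Γ(M₀', g ⁻¹ᵁ U)) = resM M₀' e2 b := evMap_app e' n' (g ⁻¹ᵁ U) r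
  have hev' : ((evMap e n).app U s : Γ(M₀, U)) = resM M₀ e3 v := evMap_app e n U s
  have hz : (mz.app U (resM M₀ e3 v) : Γ(M₀', g ⁻¹ᵁ U)) = resM M₀' e4 (mz.app (σ ⁻¹ᵁ V) v : Γ(M₀', g ⁻¹ᵁ (σ ⁻¹ᵁ V))) :=
    app_resM' mz e3 v
  have key : resM M₀' e2 b = resM M₀' e4 (resM M₀' e5 a) := by rw [hb, resM_resM, resM_resM]
  exact (congrArg ((evMap e' n').app (g ⁻¹ᵁ U)) hs).trans (hev.trans (key.trans ((congrArg (resM M₀' e4) hH).trans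
    (hz.symm.trans (congrArg (mz.app U) hev'.symm)))))

/-- Direct image of a quasi-coherent module to the category over `T`. -/
def pushMod (M : QCoh (bcCat f y o)) : Mod (fp f y) where
  obj x := (Scheme.Modules.pushforward (prT f y o h𝒳 h𝒴 x)).obj (M.obj.obj (radj f y o h𝒳 h𝒴 x))
  map φ _ hg := sqMap (radjMap_pr f y o h𝒳 h𝒴 φ hg) (M.obj.map (radjMap f y o h𝒳 h𝒴 φ) rfl)
  map_id x := by
    have e : bmap (bcCat f y o) (radjMap f y o h𝒳 h𝒴 (𝟙 x)) = 𝟙 _ :=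
      (congrArg (bmap (bcCat f y o)) (radjMap_id f y o h𝒳 h𝒴 x)).trans (bmap_id _)
    refine sqMap_id _ e _ ?_
    rw [← Category.assoc, Mod.map_comp_pushforwardCongr, M.obj.map_congr (radjMap_id f y o h𝒳 h𝒴 x) (rfl.trans e)]
    exact M.obj.map_id _
  map_comp ψ φ h g hh hg := by
    have e : bmap (bcCat f y o) (radjMap f y o h𝒳 h𝒴 (ψ ≫ φ)) =
        bmap (bcCat f y o) (radjMap f y o h𝒳 h𝒴 ψ) ≫ bmap (bcCat f y o) (radjMap f y o h𝒳 h𝒴 φ) :=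
      (congrArg (bmap (bcCat f y o)) (radjMap_comp f y o h𝒳 h𝒴 ψ φ)).trans (bmap_comp _ _)
    refine sqMap_comp _ _ _ _ _ _ e ?_
    rw [Mod.map_comp_pushforwardCongr, M.obj.map_congr (radjMap_comp f y o h𝒳 h𝒴 ψ φ) (rfl.trans e)]
    exact M.obj.map_comp _ _ rfl rfl

omit 𝒳 𝒴 f T Z₀ y o h𝒳 h𝒴 in
/-- Base change along an affine morphism preserves cartesian comparison maps. -/
theorem isIso_adjunct_sqMap {A B A' B' : Scheme.{u}} {π : A ⟶ B} {π' : A' ⟶ B'} {g : B' ⟶ B} {g' : A' ⟶ A}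
    (sq : IsPullback g' π' π g) [IsAffineHom π] (w : g' ≫ π = π' ≫ g) {M : A.Modules} [Coh.IsQCoh M]
    {M' : A'.Modules} (m : M ⟶ (Scheme.Modules.pushforward g').obj M')
    (hm : IsIso (((Scheme.Modules.pullbackPushforwardAdjunction g').homEquiv M M').symm m)) :
    IsIso (((Scheme.Modules.pullbackPushforwardAdjunction g).homEquiv _ _).symm (sqMap w m)) := by
  obtain ⟨θ, rfl⟩ := ((Scheme.Modules.pullbackPushforwardAdjunction g').homEquiv M M').surjective m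
  rw [Equiv.symm_apply_apply] at hm
  have key : sqMap w ((Scheme.Modules.pullbackPushforwardAdjunction g').homEquiv M M' θ) =
      CohBC.bc0Adj π g π' g' w M ≫
        (Scheme.Modules.pushforward g).map ((Scheme.Modules.pushforward π').map θ) := by
    rw [Adjunction.homEquiv_apply, sqMap_comp_map]
    rfl
  rw [key, Adjunction.homEquiv_naturality_right_symm]
  haveI : IsIso (((Scheme.Modules.pullbackPushforwardAdjunction g).homEquiv _ _).symm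
      (CohBC.bc0Adj π g π' g' w M)) := CohExch.isIso_bc0_of_affine sq M
  exact IsIso.comp_isIso

theorem isCartesian_pushMod (M : QCoh (bcCat f y o)) : (pushMod f y o h𝒳 h𝒴 M).IsCartesian := by
  intro x' x φ g hg
  haveI := isAffineHom_prT f y o h𝒳 h𝒴 x
  haveI : Coh.IsQCoh (M.obj.obj (radj f y o h𝒳 h𝒴 x)) := M.property.2 _
  exact isIso_adjunct_sqMap (isPullback_radjMap f y o h𝒳 h𝒴 φ hg) _ _
    (M.property.1 (radjMap f y o h𝒳 h𝒴 φ) rfl)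

theorem isLocQCoh_pushMod (M : QCoh (bcCat f y o)) : (pushMod f y o h𝒳 h𝒴 M).IsLocQCoh := fun x => by
  haveI := isAffineHom_prT f y o h𝒳 h𝒴 x
  haveI : Coh.IsQCoh (M.obj.obj (radj f y o h𝒳 h𝒴 x)) := M.property.2 _
  exact isQCoh_push (prT f y o h𝒳 h𝒴 x) _

/-- The direct image. -/
def pushQ (M : QCoh (bcCat f y o)) : QCoh (fp f y) :=
  ⟨pushMod f y o h𝒳 h𝒴 M, isCartesian_pushMod f y o h𝒳 h𝒴 M, isLocQCoh_pushMod f y o h𝒳 h𝒴 M⟩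

/-- The direct image of a morphism. -/
def pushHom {M N : QCoh (bcCat f y o)} (u : M ⟶ N) : pushQ f y o h𝒳 h𝒴 M ⟶ pushQ f y o h𝒳 h𝒴 N :=
  ObjectProperty.homMk
    { app := fun x => (Scheme.Modules.pushforward (prT f y o h𝒳 h𝒴 x)).map (u.hom.app (radj f y o h𝒳 h𝒴 x))
      comm := fun {x' x} φ g hg => by
        apply Scheme.Modules.hom_ext
        intro U
        refine CategoryTheory.ConcreteCategory.hom_ext _ _ fun s => ?_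
        simp only [Scheme.Modules.Hom.comp_app, Scheme.Modules.pushforward_map_app]
        have h := congrArg (fun k => Scheme.Modules.Hom.app k (prT f y o h𝒳 h𝒴 x ⁻¹ᵁ U) s)
          (u.hom.comm (radjMap f y o h𝒳 h𝒴 φ) rfl)
        simp only [Scheme.Modules.Hom.comp_app, Scheme.Modules.pushforward_map_app] at h
        show (u.hom.app (radj f y o h𝒳 h𝒴 x')).app _ ((sqMap (radjMap_pr f y o h𝒳 h𝒴 φ hg) _).app U s) =
          (sqMap (radjMap_pr f y o h𝒳 h𝒴 φ hg) _).app U ((u.hom.app (radj f y o h𝒳 h𝒴 x)).app _ s)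
        rw [sqMap_app, sqMap_app]
        exact (app_resM (u.hom.app (radj f y o h𝒳 h𝒴 x')) _ _).trans (congrArg (resM _ _) h) }

/-- The unit at an object of the base change. -/
def sect (z : (bcCat f y o).obj) : z ⟶ radj f y o h𝒳 h𝒴 z.left := adjHom f y o h𝒳 h𝒴 (𝟙 z.left)

theorem sect_pr (z : (bcCat f y o).obj) :
    bmap (bcCat f y o) (sect f y o h𝒳 h𝒴 z) ≫ prT f y o h𝒳 h𝒴 z.left = 𝟙 _ := by
  show bmap (fp f y) (sect f y o h𝒳 h𝒴 z).left ≫ bmap (fp f y) _ = _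
  rw [← bmap_comp, sect, adjHom_counit]
  exact bmap_id _

theorem sect_natural {z' z : (bcCat f y o).obj} (m : z' ⟶ z) :
    sect f y o h𝒳 h𝒴 z' ≫ radjMap f y o h𝒳 h𝒴 m.left = m ≫ sect f y o h𝒳 h𝒴 z := by
  refine adj_ext f y o h𝒳 h𝒴 ?_
  rw [CostructuredArrow.comp_left, CostructuredArrow.comp_left, Category.assoc, Category.assoc, radjMap, sect, sect,
    adjHom_counit, adjHom_counit, ← Category.assoc, adjHom_counit, Category.id_comp, Category.comp_id]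

theorem sect_radjMap_counit (x : (fp f y).obj) :
    sect f y o h𝒳 h𝒴 (radj f y o h𝒳 h𝒴 x) ≫ radjMap f y o h𝒳 h𝒴 (counit f y o h𝒳 h𝒴 x) = 𝟙 _ := by
  refine adj_ext f y o h𝒳 h𝒴 ?_
  rw [CostructuredArrow.comp_left, CostructuredArrow.id_left, Category.assoc, radjMap, adjHom_counit,
    ← Category.assoc, sect, adjHom_counit]

/-- The evaluation of the direct image. -/
def evalHom (M : QCoh (bcCat f y o)) :
    ((comapQ (fibFst (fpSnd f y) (Over.mk o : (overCat T).obj))).obj (pushQ f y o h𝒳 h𝒴 M)).obj ⟶ M.obj where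
  app z := evMap (sect_pr f y o h𝒳 h𝒴 z) (M.obj.map (sect f y o h𝒳 h𝒴 z) rfl)
  comm {z' z} m g hg := by
    subst hg
    have e : ((comapQ (fibFst (fpSnd f y) (Over.mk o : (overCat T).obj))).obj (pushQ f y o h𝒳 h𝒴 M)).obj.map m rfl =
        sqMap (radjMap_pr f y o h𝒳 h𝒴 m.left rfl) (M.obj.map (radjMap f y o h𝒳 h𝒴 m.left) rfl) :=
      castMap_rfl_self (bmap_map_comm (fibFst (fpSnd f y) (Over.mk o : (overCat T).obj)) m rfl) _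
    rw [e]
    have eσ : bmap (bcCat f y o) (sect f y o h𝒳 h𝒴 z') ≫ bmap (bcCat f y o) (radjMap f y o h𝒳 h𝒴 m.left) =
        bmap (bcCat f y o) m ≫ bmap (bcCat f y o) (sect f y o h𝒳 h𝒴 z) := by
      rw [← bmap_comp, sect_natural, bmap_comp]
    refine evMap_natural _ _ _ eσ _ _ _ _ ?_
    rw [← reassoc_of% (M.obj.map_comp (sect f y o h𝒳 h𝒴 z') (radjMap f y o h𝒳 h𝒴 m.left) rfl rfl),
      Mod.map_comp_pushforwardCongr, M.obj.map_congr (sect_natural f y o h𝒳 h𝒴 m)]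
    exact M.obj.map_comp m (sect f y o h𝒳 h𝒴 z) rfl rfl

end Groth.Agent.ResProp20
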