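import Groth.Agent.ResProp20.AffineBase
import Groth.Agent.AlgSpLib.FpqcBaseAffine
import Groth.Agent.CohAff19.AffRep
import Groth.Agent.Stk19b.Gerbe.QcDiag
import Groth.Agent.AlgSpLib.VCartSpace
import Groth.Prelude.Def_StMod2

/-! Direct image along an affine representable morphism of stacks; cohomological affineness of composites. -/

set_option autoImplicit false
set_option backward.isDefEq.respectTransparency false
set_option backward.isDefEq.respectTransparency.types false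
set_option linter.style.haveILetI false
set_option linter.unusedSectionVars false

universe u

open CategoryTheory CategoryTheory.Limits AlgebraicGeometry Opposite TopologicalSpace FibCat Groth.Agent.Desc19 Groth.Agent.Stk19
open Groth.Agent.Coherent Groth.Agent.PicLib Groth.Agent.TameGood19
open StMod

noncomputable section

namespace Groth.Agent.ResProp20.AffineRep

variable {S : Scheme.{u}} {𝒵 𝒳 : AlgSt.Cat S}

/-- The universal object over an object of the target. -/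
theorem exists_univ (ι : 𝒵 ⥤ᵇ 𝒳) (h𝒳 : IsFibGrpd 𝒳.p) (hι : AlgSt.RepByAlgSpWith AlgSp.IsAffineMor ι) (x : 𝒳.obj) :
    ∃ (z₀ : 𝒵.obj) (ε : ι.obj z₀ ⟶ x), IsAffineHom (baseOver ι z₀ ε).left ∧
      ∀ (z : 𝒵.obj) (φ : ι.obj z ⟶ x), ∃! m : z ⟶ z₀, ι.map m ≫ ε = φ := by
  obtain ⟨y, i, hi⟩ := exists_classifying h𝒳 x (rfl : 𝒳.p.obj x = 𝒳.p.obj x)
  obtain ⟨F, e, he, ha⟩ := hι _ y
  obtain ⟨W, w, fst, sq, hw⟩ := AlgSpLib.exists_yon_of_repWith ((AlgSpLib.isAffineMor_iff_repWith _).1 ha)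
    (Z := 𝒳.p.obj x) (𝟙 _)
  haveI : IsIso fst := sq.isIso_fst_of_isIso
  let T₀ : (AlgSt.ofSp F.obj).obj := ⟨W, fst.hom.app (op W) ⟨𝟙 W⟩⟩
  have hfst : ∀ (T : Over S) (g : T ⟶ W), F.obj.obj.map g.op T₀.sec = fst.hom.app (op T) ⟨g⟩ := fun T g => by
    have := congrArg (fun k => k ⟨𝟙 W⟩) (fst.hom.naturality g.op)
    refine (this.symm).trans ?_
    exact congrArg (fst.hom.app (op T)) (ULift.ext _ _ (Category.comp_id g))
  let hT₀ : IsTerminal T₀ := IsTerminal.ofUniqueHom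
    (fun a => ⟨((inv fst).hom.app (op a.base) a.sec).down, by
      refine (hfst _ _).trans ?_
      exact congrArg (fun k : F.obj ⟶ F.obj => k.hom.app (op a.base) a.sec) (IsIso.inv_hom_id fst)⟩)
    (fun a m => Stk.EltObj.hom_ext (by
      have h1 := congrArg ((inv fst).hom.app (op a.base)) ((hfst a.base m.hom).symm.trans m.map_sec)
      have h2 : (inv fst).hom.app (op a.base) (fst.hom.app (op a.base) ⟨m.hom⟩) = ⟨m.hom⟩ :=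
        congrArg (fun k : (AlgSp.yon S).obj W ⟶ (AlgSp.yon S).obj W => k.hom.app (op a.base) ⟨m.hom⟩)
          (IsIso.hom_inv_id fst)
      exact congrArg ULift.down (h2.symm.trans h1)))
  haveI := isEquivalence_of_isEquivOver he
  let P : (fp y ι).obj := e.obj T₀
  let hP : IsTerminal P := IsTerminal.isTerminalObj e.toFunctor T₀ hT₀
  have hT : AlgSt.secHom (BasedFunctor.comp e (fpFst y ι)) T₀ = w := by
    have h1 := congrArg (fun k : (AlgSp.yon S).obj W ⟶ (AlgSp.yon S).obj (𝒳.p.obj x) => k.hom.app (op W) ⟨𝟙 W⟩) sq.w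
    have h2 := congrArg ULift.down h1
    refine h2.trans ?_
    show (𝟙 W ≫ w) ≫ 𝟙 _ = w
    simp
  have hb : baseOver ι P.obj.snd (alphaOf y i P) = eqToHom ((fpSnd y ι).w_obj P) ≫ P.obj.fst.hom := by
    have hvc : 𝒳.p.IsHomLift (𝟙 _) P.obj.iso.hom := P.property
    have hmc := @map_eq_of_vert _ _ _ _ 𝒳.p _ _ _ P.obj.iso.inv (vert_inv 𝒳.p P.obj.iso hvc)
    unfold baseOver alphaOf
    rw [Functor.map_comp, hmc, map_toId y i hi]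
    simp
  refine ⟨P.obj.snd, alphaOf y i P, ?_, fun z φ => ?_⟩
  · have h3 : P.obj.fst.hom = eqToHom ((BasedFunctor.comp e (fpFst y ι)).w_obj T₀) ≫ w := by
      rw [← hT, AlgSt.secHom, eqToHom_trans_assoc, eqToHom_refl, Category.id_comp]
      rfl
    rw [hb, h3, Over.comp_left, Over.comp_left, Over.eqToHom_left, Over.eqToHom_left]
    haveI : IsAffineHom w.left := hw
    infer_instance
  · obtain ⟨a, ha', hα⟩ := exists_obj y i h𝒳 hi z φ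
    subst ha'
    rw [eqToHom_refl, ι.toFunctor.map_id, Category.id_comp] at hα
    subst hα
    refine ⟨(hP.from a).hom.snd, alphaOf_hom y i (hP.from a), fun m hm => ?_⟩
    obtain ⟨k, hk⟩ := exists_hom y i h𝒳 hi (a := a) (b := P) m hm
    rw [← hk, hP.hom_ext k (hP.from a)]

variable (ι : 𝒵 ⥤ᵇ 𝒳) (h𝒵 : IsFibGrpd 𝒵.p) (h𝒳 : IsFibGrpd 𝒳.p) (hι : AlgSt.RepByAlgSpWith AlgSp.IsAffineMor ι)

/-- The chosen universal object. -/
def rad (x : 𝒳.obj) : 𝒵.obj := (exists_univ ι h𝒳 hι x).choose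

/-- Its map. -/
def ctr (x : 𝒳.obj) : ι.obj (rad ι h𝒳 hι x) ⟶ x := (exists_univ ι h𝒳 hι x).choose_spec.choose

/-- The projection of schemes. -/
abbrev pr (x : 𝒳.obj) : sch 𝒵 (rad ι h𝒳 hι x) ⟶ sch 𝒳 x := (baseOver ι (rad ι h𝒳 hι x) (ctr ι h𝒳 hι x)).left

theorem isAffineHom_pr (x : 𝒳.obj) : IsAffineHom (pr ι h𝒳 hι x) :=
  (exists_univ ι h𝒳 hι x).choose_spec.choose_spec.1

theorem existsUnique_rad (x : 𝒳.obj) (z : 𝒵.obj) (φ : ι.obj z ⟶ x) :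
    ∃! m : z ⟶ rad ι h𝒳 hι x, ι.map m ≫ ctr ι h𝒳 hι x = φ :=
  (exists_univ ι h𝒳 hι x).choose_spec.choose_spec.2 z φ

/-- The morphism to the universal object. -/
def adj {x : 𝒳.obj} {z : 𝒵.obj} (φ : ι.obj z ⟶ x) : z ⟶ rad ι h𝒳 hι x := (existsUnique_rad ι h𝒳 hι x z φ).choose

theorem adj_ctr {x : 𝒳.obj} {z : 𝒵.obj} (φ : ι.obj z ⟶ x) : ι.map (adj ι h𝒳 hι φ) ≫ ctr ι h𝒳 hι x = φ :=
  (existsUnique_rad ι h𝒳 hι x z φ).choose_spec.1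

theorem adj_ext {x : 𝒳.obj} {z : 𝒵.obj} {m m' : z ⟶ rad ι h𝒳 hι x}
    (h : ι.map m ≫ ctr ι h𝒳 hι x = ι.map m' ≫ ctr ι h𝒳 hι x) : m = m' :=
  (existsUnique_rad ι h𝒳 hι x z (ι.map m' ≫ ctr ι h𝒳 hι x)).unique h rfl

/-- Functoriality of the universal object. -/
def radMap {x' x : 𝒳.obj} (φ : x' ⟶ x) : rad ι h𝒳 hι x' ⟶ rad ι h𝒳 hι x :=
  adj ι h𝒳 hι (ctr ι h𝒳 hι x' ≫ φ)

theorem radMap_id (x : 𝒳.obj) : radMap ι h𝒳 hι (𝟙 x) = 𝟙 _ := by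
  refine adj_ext ι h𝒳 hι ?_
  rw [radMap, adj_ctr, ι.toFunctor.map_id]
  exact (Category.comp_id _).trans (Category.id_comp _).symm

theorem radMap_comp {x'' x' x : 𝒳.obj} (ψ : x'' ⟶ x') (φ : x' ⟶ x) :
    radMap ι h𝒳 hι (ψ ≫ φ) = radMap ι h𝒳 hι ψ ≫ radMap ι h𝒳 hι φ := by
  refine adj_ext ι h𝒳 hι ?_
  rw [radMap, adj_ctr, ι.toFunctor.map_comp, Category.assoc, radMap, radMap, adj_ctr,
    ← Category.assoc (ι.map (adj ι h𝒳 hι _)), adj_ctr, Category.assoc]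

theorem baseOver_comp {x' x : 𝒳.obj} (φ : x' ⟶ x) :
    𝒵.p.map (radMap ι h𝒳 hι φ) ≫ baseOver ι _ (ctr ι h𝒳 hι x) = baseOver ι _ (ctr ι h𝒳 hι x') ≫ 𝒳.p.map φ := by
  rw [map_comp_baseOver, radMap, adj_ctr]
  simp [baseOver]

theorem radMap_pr {x' x : 𝒳.obj} (φ : x' ⟶ x) {g : sch 𝒳 x' ⟶ sch 𝒳 x} (hg : bmap 𝒳 φ = g) :
    bmap 𝒵 (radMap ι h𝒳 hι φ) ≫ pr ι h𝒳 hι x = pr ι h𝒳 hι x' ≫ g := by
  subst hg
  exact congrArg CommaMorphism.left (baseOver_comp ι h𝒳 hι φ)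

include h𝒵 in
theorem isPullback_radMap {x' x : 𝒳.obj} (φ : x' ⟶ x) {g : sch 𝒳 x' ⟶ sch 𝒳 x} (hg : bmap 𝒳 φ = g) :
    IsPullback (bmap 𝒵 (radMap ι h𝒳 hι φ)) (pr ι h𝒳 hι x') (pr ι h𝒳 hι x) g := by
  subst hg
  refine IsPullback.map (Over.forget S) (f := 𝒵.p.map (radMap ι h𝒳 hι φ))
    (g := baseOver ι _ (ctr ι h𝒳 hι x')) (h := baseOver ι _ (ctr ι h𝒳 hι x)) (i := 𝒳.p.map φ) ?_
  let b := baseOver ι _ (ctr ι h𝒳 hι x)
  have sq := IsPullback.of_hasPullback b (𝒳.p.map φ)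
  obtain ⟨z, l, e, hl⟩ := fibGrpd_lift h𝒵 (rad ι h𝒳 hι x) (pullback.fst b (𝒳.p.map φ))
  obtain ⟨χ, ⟨hχ, hχφ⟩, -⟩ := fibGrpd_fac h𝒳 φ (ι.map l ≫ ctr ι h𝒳 hι x)
    (eqToHom (ι.w_obj z) ≫ eqToHom e ≫ pullback.snd b (𝒳.p.map φ)) (by
      have h1 := map_comp_baseOver ι l (ctr ι h𝒳 hι x)
      rw [hl, Category.assoc] at h1
      rw [Category.assoc, Category.assoc, ← pullback.condition]
      refine (congrArg (eqToHom (ι.w_obj z) ≫ ·) h1).trans ?_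
      simp [baseOver])
  let m := adj ι h𝒳 hι χ
  have hm : m ≫ radMap ι h𝒳 hι φ = l := by
    refine adj_ext ι h𝒳 hι ?_
    rw [ι.toFunctor.map_comp, Category.assoc, radMap, adj_ctr, ← Category.assoc, adj_ctr, hχφ]
  have hm₂ : 𝒵.p.map m ≫ baseOver ι _ (ctr ι h𝒳 hι x') = eqToHom e ≫ pullback.snd b (𝒳.p.map φ) := by
    rw [map_comp_baseOver, adj_ctr, baseOver, hχ]
    simp
  have hm₁ : 𝒵.p.map m ≫ 𝒵.p.map (radMap ι h𝒳 hι φ) = eqToHom e ≫ pullback.fst b (𝒳.p.map φ) := by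
    rw [← 𝒵.p.map_comp, hm, hl]
  let q := pullback.lift (f := b) (g := 𝒳.p.map φ) (𝒵.p.map (radMap ι h𝒳 hι φ)) (baseOver ι _ (ctr ι h𝒳 hι x'))
    (baseOver_comp ι h𝒳 hι φ)
  -- the comparison is invertible
  have h1 : (eqToHom e.symm ≫ 𝒵.p.map m) ≫ q = 𝟙 _ := by
    refine sq.hom_ext ?_ ?_
    · rw [Category.assoc, pullback.lift_fst, Category.assoc, hm₁, eqToHom_trans_assoc, eqToHom_refl]
    · rw [Category.assoc, pullback.lift_snd, Category.assoc, hm₂, eqToHom_trans_assoc, eqToHom_refl]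
  obtain ⟨r, ⟨hr, hrl⟩, -⟩ := fibGrpd_fac h𝒵 l (radMap ι h𝒳 hι φ) (q ≫ eqToHom e.symm) (by
    rw [hl, Category.assoc, eqToHom_trans_assoc, eqToHom_refl, Category.id_comp, pullback.lift_fst])
  have hrm : r ≫ m = 𝟙 _ := by
    refine adj_ext ι h𝒳 hι ?_
    rw [ι.toFunctor.map_id, Category.id_comp, ι.toFunctor.map_comp, Category.assoc, adj_ctr]
    refine fibGrpd_ext h𝒳 φ ?_ ?_
    · have h' : 𝒳.p.map (ι.map r) = _ := Functor.congr_hom ι.w r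
      rw [𝒳.p.map_comp, hχ, h']
      show (eqToHom _ ≫ 𝒵.p.map r ≫ eqToHom _) ≫ _ = _
      rw [hr]
      simp [q, baseOver]
    · rw [Category.assoc, hχφ, ← Category.assoc, ← ι.toFunctor.map_comp, hrl, radMap, adj_ctr]
  have h2 : q ≫ (eqToHom e.symm ≫ 𝒵.p.map m) = 𝟙 _ := by
    rw [← Category.assoc, ← hr, ← 𝒵.p.map_comp, hrm, 𝒵.p.map_id]
  exact sq.of_iso ⟨eqToHom e.symm ≫ 𝒵.p.map m, q, h1, h2⟩ (Iso.refl _) (Iso.refl _) (Iso.refl _)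
    (by simp [hm₁]) (by simp [hm₂]) (by simp [b]) (by simp)

/-- Direct image. -/
def pushMod (M : QCoh 𝒵) : Mod 𝒳 where
  obj x := (Scheme.Modules.pushforward (pr ι h𝒳 hι x)).obj (M.obj.obj (rad ι h𝒳 hι x))
  map φ _ hg := sqMap (radMap_pr ι h𝒳 hι φ hg) (M.obj.map (radMap ι h𝒳 hι φ) rfl)
  map_id x := by
    have e : bmap 𝒵 (radMap ι h𝒳 hι (𝟙 x)) = 𝟙 _ :=
      (congrArg (bmap 𝒵) (radMap_id ι h𝒳 hι x)).trans (bmap_id _)
    refine sqMap_id _ e _ ?_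
    rw [← Category.assoc, Mod.map_comp_pushforwardCongr, M.obj.map_congr (radMap_id ι h𝒳 hι x) (rfl.trans e)]
    exact M.obj.map_id _
  map_comp ψ φ h g hh hg := by
    have e : bmap 𝒵 (radMap ι h𝒳 hι (ψ ≫ φ)) = bmap 𝒵 (radMap ι h𝒳 hι ψ) ≫ bmap 𝒵 (radMap ι h𝒳 hι φ) :=
      (congrArg (bmap 𝒵) (radMap_comp ι h𝒳 hι ψ φ)).trans (bmap_comp _ _)
    refine sqMap_comp _ _ _ _ _ _ e ?_
    rw [Mod.map_comp_pushforwardCongr, M.obj.map_congr (radMap_comp ι h𝒳 hι ψ φ) (rfl.trans e)]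
    exact M.obj.map_comp _ _ rfl rfl

/-- Direct image of quasi-coherent modules. -/
def pushQ (M : QCoh 𝒵) : QCoh 𝒳 :=
  ⟨pushMod ι h𝒳 hι M, fun {x' x} φ g hg => by
    haveI := isAffineHom_pr ι h𝒳 hι x
    haveI : Coh.IsQCoh (M.obj.obj (rad ι h𝒳 hι x)) := M.property.2 _
    exact isIso_adjunct_sqMap (isPullback_radMap ι h𝒵 h𝒳 hι φ hg) _ _ (M.property.1 (radMap ι h𝒳 hι φ) rfl),
  fun x => by
    haveI := isAffineHom_pr ι h𝒳 hι x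
    haveI : Coh.IsQCoh (M.obj.obj (rad ι h𝒳 hι x)) := M.property.2 _
    exact isQCoh_push (pr ι h𝒳 hι x) _⟩

/-- Functoriality. -/
def pushHom {M N : QCoh 𝒵} (u : M ⟶ N) : pushQ ι h𝒵 h𝒳 hι M ⟶ pushQ ι h𝒵 h𝒳 hι N :=
  ObjectProperty.homMk
    { app := fun x => (Scheme.Modules.pushforward (pr ι h𝒳 hι x)).map (u.hom.app (rad ι h𝒳 hι x))
      comm := fun {x' x} φ g hg => by
        show sqMap (radMap_pr ι h𝒳 hι φ hg) (M.obj.map (radMap ι h𝒳 hι φ) rfl) ≫ _ =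
          _ ≫ sqMap (radMap_pr ι h𝒳 hι φ hg) (N.obj.map (radMap ι h𝒳 hι φ) rfl)
        rw [← sqMap_comp_map, u.hom.comm (radMap ι h𝒳 hι φ) rfl]
        simp [sqMap] }

/-- A global section of a direct image, upstairs. -/
def val (M : QCoh 𝒵) (x : 𝒳.obj) (t : Γ((pushQ ι h𝒵 h𝒳 hι M).obj.obj x, ⊤)) : Γ(M.obj.obj (rad ι h𝒳 hι x), ⊤) := t

/-- A global section upstairs, downstairs. -/
def unval (M : QCoh 𝒵) (x : 𝒳.obj) (t : Γ(M.obj.obj (rad ι h𝒳 hι x), ⊤)) : Γ((pushQ ι h𝒵 h𝒳 hι M).obj.obj x, ⊤) := t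

theorem val_unval (M : QCoh 𝒵) (x : 𝒳.obj) (t : Γ(M.obj.obj (rad ι h𝒳 hι x), ⊤)) :
    val ι h𝒵 h𝒳 hι M x (unval ι h𝒵 h𝒳 hι M x t) = t := rfl

theorem val_ext {M : QCoh 𝒵} {x : 𝒳.obj} {t t' : Γ((pushQ ι h𝒵 h𝒳 hι M).obj.obj x, ⊤)}
    (h : val ι h𝒵 h𝒳 hι M x t = val ι h𝒵 h𝒳 hι M x t') : t = t' := h

theorem val_mapTop (M : QCoh 𝒵) {x' x : 𝒳.obj} (φ : x' ⟶ x) (t : Γ((pushQ ι h𝒵 h𝒳 hι M).obj.obj x, ⊤)) :
    val ι h𝒵 h𝒳 hι M x' ((pushQ ι h𝒵 h𝒳 hι M).obj.mapTop φ t) =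
      M.obj.mapTop (radMap ι h𝒳 hι φ) (val ι h𝒵 h𝒳 hι M x t) :=
  (sqMap_app (radMap_pr ι h𝒳 hι φ rfl) (M.obj.map (radMap ι h𝒳 hι φ) rfl) ⊤ t).trans (resM_self _ _ _)

theorem val_app {M N : QCoh 𝒵} (u : M ⟶ N) (x : 𝒳.obj) (t : Γ((pushQ ι h𝒵 h𝒳 hι M).obj.obj x, ⊤)) :
    val ι h𝒵 h𝒳 hι N x (((pushHom ι h𝒵 h𝒳 hι u).hom.app x).app ⊤ t) =
      (u.hom.app (rad ι h𝒳 hι x)).app ⊤ (val ι h𝒵 h𝒳 hι M x t) := rfl

theorem isSurj_pushHom {M N : QCoh 𝒵} (u : M ⟶ N) (hu : Mod.IsSurj u.hom) :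
    Mod.IsSurj (pushHom ι h𝒵 h𝒳 hι u).hom := by
  intro x hx s
  haveI := isAffineHom_pr ι h𝒳 hι x
  haveI : IsAffine (sch 𝒳 x) := hx
  obtain ⟨m, hm⟩ := hu _ (isAffine_of_isAffineHom (pr ι h𝒳 hι x)) (val ι h𝒵 h𝒳 hι N x s)
  refine ⟨unval ι h𝒵 h𝒳 hι M x m, val_ext ι h𝒵 h𝒳 hι ?_⟩
  rw [val_app, val_unval]
  exact hm

variable (σ : 𝒵 ⥤ᵇ AlgSt.ofSch (Over.mk (𝟙 S))) (τ : 𝒳 ⥤ᵇ AlgSt.ofSch (Over.mk (𝟙 S)))

theorem toBase_ext {A : Over S} (f g : A ⟶ Over.mk (𝟙 S)) : f = g :=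
  Over.OverMorphism.ext (((Category.comp_id f.left).symm.trans (Over.w f)).trans
    ((Category.comp_id g.left).symm.trans (Over.w g)).symm)

/-- Morphisms to an object of the category of the base are morphisms of the bases. -/
def toE {C : AlgSt.Cat S} (ρ : C ⥤ᵇ AlgSt.ofSch (Over.mk (𝟙 S))) (c : C.obj) {E : (AlgSt.ofSch (Over.mk (𝟙 S))).obj}
    (g : C.p.obj c ⟶ E.base) : ρ.obj c ⟶ E where
  hom := eqToHom (ρ.w_obj c) ≫ g
  map_sec := ULift.ext _ _ (toBase_ext _ _)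

theorem ofSch_hom_ext {a b : (AlgSt.ofSch (Over.mk (𝟙 S))).obj} {f g : a ⟶ b} (h : f.hom = g.hom) : f = g :=
  Stk.EltObj.hom_ext h

include h𝒵 h𝒳 hι in
theorem surjective_relSectMap {F G : QCoh 𝒵} (u : F ⟶ G) (η : (AlgSt.ofSch (Over.mk (𝟙 S))).obj)
    (hτ : Function.Surjective (Mod.relSectMap τ (pushHom ι h𝒵 h𝒳 hι u).hom η)) :
    Function.Surjective (Mod.relSectMap σ u.hom η) := by
  intro s
  let F' := pushQ ι h𝒵 h𝒳 hι F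
  let G' := pushQ ι h𝒵 h𝒳 hι G
  let bb : ∀ (x : 𝒳.obj), (τ.obj x ⟶ η) → (σ.obj (rad ι h𝒳 hι x) ⟶ η) := fun x α =>
    toE σ _ (baseOver ι _ (ctr ι h𝒳 hι x) ≫ eqToHom (τ.w_obj x).symm ≫ α.hom)
  have τmap : ∀ {x' x : 𝒳.obj} (φ : x' ⟶ x) (α : τ.obj x ⟶ η),
      eqToHom (τ.w_obj x').symm ≫ (τ.map φ ≫ α).hom = 𝒳.p.map φ ≫ eqToHom (τ.w_obj x).symm ≫ α.hom := by
    intro x' x φ α
    show eqToHom _ ≫ (τ.map φ).hom ≫ α.hom = _
    rw [show (τ.map φ).hom = eqToHom (τ.w_obj x') ≫ 𝒳.p.map φ ≫ eqToHom (τ.w_obj x).symm from Functor.congr_hom τ.w φ]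
    simp
  have σmap : ∀ {z' z : 𝒵.obj} (ψ : z' ⟶ z) (β : σ.obj z ⟶ η),
      (σ.map ψ ≫ β).hom = eqToHom (σ.w_obj z') ≫ 𝒵.p.map ψ ≫ eqToHom (σ.w_obj z).symm ≫ β.hom := by
    intro z' z ψ β
    show (σ.map ψ).hom ≫ β.hom = _
    rw [show (σ.map ψ).hom = eqToHom (σ.w_obj z') ≫ 𝒵.p.map ψ ≫ eqToHom (σ.w_obj z).symm from Functor.congr_hom σ.w ψ]
    simp
  let t : Mod.RelSect τ G'.obj η := ⟨fun x α => unval ι h𝒵 h𝒳 hι G x (s.1 _ (bb x α)), fun x' x φ α => by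
    refine val_ext ι h𝒵 h𝒳 hι ?_
    rw [val_mapTop, val_unval, val_unval]
    refine (s.2 (radMap ι h𝒳 hι φ) (bb x α)).trans (congrArg (s.1 _) ?_)
    refine ofSch_hom_ext ?_
    rw [σmap]
    show _ = eqToHom _ ≫ baseOver ι _ (ctr ι h𝒳 hι x') ≫ eqToHom _ ≫ (τ.map φ ≫ α).hom
    rw [τmap]
    simp only [bb, toE, eqToHom_trans_assoc, eqToHom_refl, Category.id_comp]
    rw [reassoc_of% (baseOver_comp ι h𝒳 hι φ)]⟩
  obtain ⟨m, hm⟩ := hτ t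
  let aa : ∀ (z : 𝒵.obj), (σ.obj z ⟶ η) → (τ.obj (ι.obj z) ⟶ η) := fun z β =>
    toE τ _ (eqToHom (ι.w_obj z) ≫ eqToHom (σ.w_obj z).symm ≫ β.hom)
  let sec : ∀ z : 𝒵.obj, z ⟶ rad ι h𝒳 hι (ι.obj z) := fun z => adj ι h𝒳 hι (𝟙 _)
  have hsec : ∀ {z' z : 𝒵.obj} (ψ : z' ⟶ z), sec z' ≫ radMap ι h𝒳 hι (ι.map ψ) = ψ ≫ sec z := fun ψ => by
    refine adj_ext ι h𝒳 hι ?_
    rw [ι.toFunctor.map_comp, ι.toFunctor.map_comp, Category.assoc, Category.assoc, radMap, adj_ctr, adj_ctr,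
      ← Category.assoc, adj_ctr, Category.id_comp, Category.comp_id]
  let mv : ∀ (x : 𝒳.obj), (τ.obj x ⟶ η) → Γ(F.obj.obj (rad ι h𝒳 hι x), ⊤) := fun x α =>
    val ι h𝒵 h𝒳 hι F x (m.1 x α)
  refine ⟨⟨fun z β => F.obj.mapTop (sec z) (mv (ι.obj z) (aa z β)), fun z' z ψ β => ?_⟩, ?_⟩
  · show F.obj.mapTop ψ (F.obj.mapTop (sec z) (mv _ (aa z β))) = F.obj.mapTop (sec z') (mv _ (aa z' (σ.map ψ ≫ β)))
    rw [← Mod.mapTop_comp, ← hsec, Mod.mapTop_comp]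
    refine congrArg (F.obj.mapTop (sec z')) ((val_mapTop ι h𝒵 h𝒳 hι F (ι.map ψ) _).symm.trans
      (congrArg (val ι h𝒵 h𝒳 hι F _) ((m.2 (ι.map ψ) (aa z β)).trans (congrArg (m.1 _) ?_))))
    refine ofSch_hom_ext ?_
    rw [← cancel_epi (eqToHom (τ.w_obj (ι.obj z')).symm), τmap]
    simp only [aa, toE, σmap, eqToHom_trans_assoc, eqToHom_refl, Category.id_comp]
    rw [show 𝒳.p.map (ι.map ψ) = eqToHom (ι.w_obj z') ≫ 𝒵.p.map ψ ≫ eqToHom (ι.w_obj z).symm from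
      Functor.congr_hom ι.w ψ]
    simp
  · refine Mod.RelSect.ext σ G.obj η fun z β => ?_
    show (u.hom.app z).app ⊤ (F.obj.mapTop (sec z) (mv _ (aa z β))) = s.1 z β
    have h1 : (u.hom.app (rad ι h𝒳 hι (ι.obj z))).app ⊤ (mv _ (aa z β)) = s.1 _ (bb _ (aa z β)) :=
      (val_app ι h𝒵 h𝒳 hι u _ _).symm.trans ((congrArg (val ι h𝒵 h𝒳 hι G _)
        (congrArg (fun r : Mod.RelSect τ G'.obj η => r.1 _ (aa z β)) hm)).trans (val_unval ι h𝒵 h𝒳 hι G _ _))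
    refine (Mod.mapTop_app u.hom (sec z) _).symm.trans ((congrArg (G.obj.mapTop (sec z)) h1).trans ?_)
    refine (s.2 (sec z) _).trans (congrArg (s.1 z) (ofSch_hom_ext ?_))
    rw [σmap]
    have h2 : 𝒵.p.map (sec z) ≫ baseOver ι _ (ctr ι h𝒳 hι (ι.obj z)) = eqToHom (ι.w_obj z).symm := by
      rw [map_comp_baseOver, adj_ctr]
      simp [baseOver]
    simp only [bb, aa, toE, eqToHom_trans_assoc, eqToHom_refl, Category.id_comp]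
    rw [reassoc_of% h2]
    simp

include h𝒵 h𝒳 hι in
theorem isCohAffine (hτ : StMod.IsCohAffine τ) : StMod.IsCohAffine σ := fun F G u hu E hE =>
  surjective_relSectMap ι h𝒵 h𝒳 hι σ τ u (StMod.etaOf E)
    (hτ (pushHom ι h𝒵 h𝒳 hι u) (isSurj_pushHom ι h𝒵 h𝒳 hι u hu) E hE)

include hι in
theorem isQuasiCompactMor [QuasiSeparatedSpace S] (h𝒵a : AlgSt.IsAlgStack Scheme.fppfPrecoverage 𝒵)
    (h𝒳a : AlgSt.IsAlgStack Scheme.fppfPrecoverage 𝒳) (hτ : AlgSt.IsQuasiCompactMor Scheme.fppfPrecoverage τ) :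
    AlgSt.IsQuasiCompactMor Scheme.fppfPrecoverage σ := by
  have hM : AlgSt.IsAlgStack Scheme.fppfPrecoverage (AlgSt.ofSch (Over.mk (𝟙 S))) :=
    Stk19b.LargestRep.isAlgStack_ofSp ⟨_, AlgSp.IsAlgSpace.yon_obj _⟩
  have h1 : AlgSt.IsQuasiCompactMor Scheme.fppfPrecoverage ι := qcMor_of_with h𝒳a h𝒵a fun U y => by
    obtain ⟨F, e, he, ha⟩ := hι U y
    exact ⟨F, e, he, AlgSpLib.VCart.isQuasiCompactMor_of_affineMor F.property (AlgSp.IsAlgSpace.yon_obj U) ha⟩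
  have h2 := Stk19.isQuasiCompactMor_comp h𝒳a hM h1 hτ
  let g : ∀ z, (BasedFunctor.comp ι τ).obj z ≅ σ.obj z := fun z =>
    { hom := toE (BasedFunctor.comp ι τ) z (eqToHom (σ.w_obj z).symm)
      inv := toE σ z (eqToHom ((BasedFunctor.comp ι τ).w_obj z).symm)
      hom_inv_id := ofSch_hom_ext (by simp [toE])
      inv_hom_id := ofSch_hom_ext (by simp [toE]) }
  let i : BasedFunctor.comp ι τ ≅ σ := BasedNatIso.mkNatIso (NatIso.ofComponents g fun {z' z} ψ => by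
      refine ofSch_hom_ext ?_
      show ((BasedFunctor.comp ι τ).map ψ).hom ≫ _ = _ ≫ (σ.map ψ).hom
      rw [show (σ.map ψ).hom = eqToHom (σ.w_obj z') ≫ 𝒵.p.map ψ ≫ eqToHom (σ.w_obj z).symm from Functor.congr_hom σ.w ψ,
        show ((BasedFunctor.comp ι τ).map ψ).hom = eqToHom ((BasedFunctor.comp ι τ).w_obj z') ≫ 𝒵.p.map ψ ≫
          eqToHom ((BasedFunctor.comp ι τ).w_obj z).symm from Functor.congr_hom (BasedFunctor.comp ι τ).w ψ]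
      simp [g, toE])
    (fun z => IsHomLift.of_fac' _ _ _ ((BasedFunctor.comp ι τ).w_obj z) (σ.w_obj z) (by simp [g, toE]))
  exact qcMor_congr i h2

end Groth.Agent.ResProp20.AffineRep
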