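import Groth.Agent.CohAff19.Atlas
import Groth.Prelude.Def_StMod6

/-! An affine chart with affine overlaps of the category of a quasi-compact quasi-separated morphism of stacks over an
object with affine scheme. -/

set_option autoImplicit false
set_option backward.isDefEq.respectTransparency false
set_option backward.isDefEq.respectTransparency.types false
set_option linter.style.haveILetI false

universe u

open CategoryTheory CategoryTheory.Limits AlgebraicGeometry Opposite FibCat Groth.Agent.Desc19 Groth.Agent.Stk19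

noncomputable section

namespace Groth.Agent.ResProp20

variable {S : Scheme.{u}}

/-- A morphism of the category is a cover: smooth and surjective on schemes. -/
def IsCov {𝒵 : AlgSt.Cat S} {ζ ξ : 𝒵.obj} (n : ζ ⟶ ξ) : Prop :=
  Smooth (StMod.bmap 𝒵 n) ∧ Surjective (StMod.bmap 𝒵 n)

/-- An affine chart of a category over schemes with affine overlaps. -/
structure Atlas (𝒵 : AlgSt.Cat S) where
  ξ₀ : 𝒵.obj
  ω : 𝒵.obj
  p : ω ⟶ ξ₀
  q : ω ⟶ ξ₀
  affine₀ : IsAffine (StMod.sch 𝒵 ξ₀)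
  affineω : IsAffine (StMod.sch 𝒵 ω)
  cover : ∀ ξ : 𝒵.obj, ∃ (ζ : 𝒵.obj) (n : ζ ⟶ ξ) (_ : ζ ⟶ ξ₀), IsCov n
  sep : ∀ (ζ : 𝒵.obj) (φ φ' : ζ ⟶ ξ₀),
    ∃ (ζ' : 𝒵.obj) (n : ζ' ⟶ ζ) (r : ζ' ⟶ ω), IsCov n ∧ r ≫ p = n ≫ φ ∧ r ≫ q = n ≫ φ'

variable {𝒳 𝒴 : AlgSt.Cat S} {π : 𝒳 ⥤ᵇ 𝒴} {η : 𝒴.obj}

/-- The category over an object is fibred in groupoids. -/
theorem isFibGrpd_fibCat (h : IsFibGrpd 𝒳.p) (π : 𝒳 ⥤ᵇ 𝒴) (η : 𝒴.obj) : IsFibGrpd (StMod.fibCat π η).p := by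
  refine fibGrpd_mk (p := (StMod.fibCat π η).p) (fun x {V} g => ?_) (fun {x y z} φ ψ g hg => ?_)
  · obtain ⟨w, l, e, hl⟩ := fibGrpd_lift h x.left g
    exact ⟨CostructuredArrow.mk (π.map l ≫ x.hom), CostructuredArrow.homMk l rfl, e, hl⟩
  · obtain ⟨χ, ⟨hχ, hχφ⟩, hu⟩ := fibGrpd_fac h φ.left ψ.left g hg
    refine ⟨CostructuredArrow.homMk χ ?_, ⟨hχ, CostructuredArrow.hom_ext _ _ hχφ⟩, fun m hm => ?_⟩
    · rw [← CostructuredArrow.w φ, ← Functor.map_comp_assoc, hχφ]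
      exact CostructuredArrow.w ψ
    · exact CostructuredArrow.hom_ext _ _ (hu m.left ⟨hm.1, congrArg CommaMorphism.left hm.2⟩)

variable (y : overCat (𝒴.p.obj η) ⥤ᵇ 𝒴) (iη : y.obj (Over.mk (𝟙 (𝒴.p.obj η))) ≅ η)

/-- The morphism to `η` carried by an object of the fibre product. -/
def alphaOf (a : (fp y π).obj) : π.obj a.obj.snd ⟶ η :=
  a.obj.iso.inv ≫ y.map (toId a.obj.fst) ≫ iη.hom

theorem alphaOf_hom {a b : (fp y π).obj} (k : a ⟶ b) :
    π.map k.hom.snd ≫ alphaOf y iη b = alphaOf y iη a := by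
  have w : y.map k.hom.fst ≫ b.obj.iso.hom = a.obj.iso.hom ≫ π.map k.hom.snd := k.hom.w
  unfold alphaOf
  rw [← Iso.inv_comp_eq] at w
  rw [← w]
  simp only [Category.assoc, Iso.hom_inv_id_assoc]
  rw [← Functor.map_comp_assoc, toId_natural]

variable (h𝒴g : IsFibGrpd 𝒴.p) (hiη : 𝒴.p.IsHomLift (𝟙 (𝒴.p.obj η)) iη.hom)

include hiη in
theorem map_toId (a : (overCat (𝒴.p.obj η)).obj) :
    𝒴.p.map (y.map (toId a) ≫ iη.hom) = eqToHom (y.w_obj a) ≫ a.hom := by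
  haveI := hiη
  have hmi : 𝒴.p.map iη.hom = eqToHom (y.w_obj (Over.mk (𝟙 (𝒴.p.obj η)))) :=
    map_eq_of_vert 𝒴.p (R := 𝒴.p.obj η) iη.hom
  rw [Functor.map_comp, based_map y, hmi]
  simp

include h𝒴g hiη in
theorem exists_obj (ξ : 𝒳.obj) (α : π.obj ξ ⟶ η) :
    ∃ a : (fp y π).obj, ∃ h : a.obj.snd = ξ, π.map (eqToHom h.symm) ≫ alphaOf y iη a = α := by
  let a : (overCat (𝒴.p.obj η)).obj := Over.mk (StMod.baseOver π ξ α)
  obtain ⟨g, ⟨hg1, hg2⟩, -⟩ := fibGrpd_fac h𝒴g α (y.map (toId a) ≫ iη.hom)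
    (eqToHom ((y.w_obj a).trans (π.w_obj ξ).symm)) (by
      rw [map_toId y iη hiη]
      simp [a, StMod.baseOver])
  obtain ⟨g', ⟨hg1', hg2'⟩, -⟩ := fibGrpd_fac h𝒴g (y.map (toId a) ≫ iη.hom) α
    (eqToHom ((y.w_obj a).trans (π.w_obj ξ).symm).symm) (by
      rw [map_toId y iη hiη]
      simp [a, StMod.baseOver])
  let ι : y.obj a ≅ π.obj ξ := ⟨g, g',
    fibGrpd_ext h𝒴g (y.map (toId a) ≫ iη.hom) (by rw [Functor.map_comp, hg1, hg1']; simp)
      (by rw [Category.assoc, hg2', hg2, Category.id_comp]),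
    fibGrpd_ext h𝒴g α (by rw [Functor.map_comp, hg1, hg1']; simp)
      (by rw [Category.assoc, hg2, hg2', Category.id_comp])⟩
  refine ⟨⟨⟨a, ξ, ι⟩, vert_change 𝒴.p _ (vert_of_map_eq 𝒴.p hg1) (y.w_obj a)⟩, rfl, ?_⟩
  refine (congrArg (· ≫ _) (π.toFunctor.map_id ξ)).trans ((Category.id_comp _).trans ?_)
  show g' ≫ y.map (toId a) ≫ iη.hom = α
  exact hg2'

include h𝒴g hiη in
theorem exists_hom {a b : (fp y π).obj} (φ : a.obj.snd ⟶ b.obj.snd)
    (h : π.map φ ≫ alphaOf y iη b = alphaOf y iη a) : ∃ k : a ⟶ b, k.hom.snd = φ := by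
  have hva : 𝒴.p.IsHomLift (𝟙 _) a.obj.iso.hom := a.property
  have hvb : 𝒴.p.IsHomLift (𝟙 _) b.obj.iso.hom := b.property
  have hma := @map_eq_of_vert _ _ _ _ 𝒴.p _ _ _ a.obj.iso.hom hva
  have hmb := @map_eq_of_vert _ _ _ _ 𝒴.p _ _ _ b.obj.iso.hom hvb
  have hbase : ∀ c : (fp y π).obj, StMod.baseOver π c.obj.snd (alphaOf y iη c) =
      eqToHom ((fpSnd y π).w_obj c) ≫ c.obj.fst.hom := fun c => by
    have hvc : 𝒴.p.IsHomLift (𝟙 _) c.obj.iso.hom := c.property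
    have hmc := @map_eq_of_vert _ _ _ _ 𝒴.p _ _ _ c.obj.iso.inv (vert_inv 𝒴.p c.obj.iso hvc)
    unfold StMod.baseOver alphaOf
    rw [Functor.map_comp, hmc, map_toId y iη hiη]
    simp
  have hb' : 𝒳.p.map φ ≫ StMod.baseOver π b.obj.snd (alphaOf y iη b) =
      StMod.baseOver π a.obj.snd (alphaOf y iη a) := by
    rw [StMod.map_comp_baseOver, h]
  rw [hbase, hbase] at hb'
  have ha := (fpSnd y π).w_obj a
  have hb := (fpSnd y π).w_obj b
  let f : a.obj.fst ⟶ b.obj.fst := Over.homMk (eqToHom ha.symm ≫ 𝒳.p.map φ ≫ eqToHom hb) (by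
    rw [Category.assoc, Category.assoc]
    refine (congrArg (eqToHom ha.symm ≫ ·) hb').trans ?_
    simp)
  refine ⟨ObjectProperty.homMk { fst := f, snd := φ, w := fibGrpd_ext h𝒴g (alphaOf y iη b) ?_ ?_ }, rfl⟩
  · rw [Functor.map_comp, Functor.map_comp, hma, hmb, based_map y, based_map π]
    simp [f]
  · show (y.map f ≫ b.obj.iso.hom) ≫ alphaOf y iη b = (a.obj.iso.hom ≫ π.map φ) ≫ alphaOf y iη b
    rw [Category.assoc (a.obj.iso.hom), h]
    simp only [alphaOf, Category.assoc, Iso.hom_inv_id_assoc]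
    rw [← Functor.map_comp_assoc, toId_natural]

theorem isCov_snd {a b : (fp y π).obj} (k : a ⟶ b) (h₁ : Smooth ((fp y π).p.map k).left)
    (h₂ : Surjective ((fp y π).p.map k).left) :
    Smooth (StMod.bmap 𝒳 k.hom.snd) ∧ Surjective (StMod.bmap 𝒳 k.hom.snd) := by
  have e : StMod.bmap 𝒳 k.hom.snd =
      eqToHom (congrArg Comma.left ((fpSnd y π).w_obj a)) ≫ ((fp y π).p.map k).left ≫
        eqToHom (congrArg Comma.left ((fpSnd y π).w_obj b).symm) := by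
    show (𝒳.p.map ((fpSnd y π).map k)).left = _
    rw [based_map (fpSnd y π) k]
    simp only [Over.comp_left, Over.eqToHom_left]
  have key : ∀ (P : MorphismProperty Scheme.{u}) [P.RespectsIso], P ((fp y π).p.map k).left →
      P (StMod.bmap 𝒳 k.hom.snd) := fun P _ hP => by
    rw [e]
    exact (P.cancel_left_of_respectsIso _ _).2 ((P.cancel_right_of_respectsIso _ _).2 hP)
  exact ⟨key @Smooth h₁, key @Surjective h₂⟩

variable [IsAffine (𝒴.p.obj η).left]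

theorem qc_fp_self (h𝒳 : AlgSt.IsAlgStack Scheme.fppfPrecoverage 𝒳) (hM' : AlgSt.IsAlgStack Scheme.fppfPrecoverage 𝒴)
    (hqs : AlgSt.IsQuasiSeparatedMor π) {U : Over S} [IsAffine U.left]
    (x : overCat U ⥤ᵇ fp y π) : AlgSt.IsQuasiCompact (fp x x) := by
  have hT := isAlgStack_overCat (𝒴.p.obj η)
  have hZ := isAlgStack_fp hM'.isStack hM'.diag hT h𝒳 y π
  let Q : fp y π ⥤ᵇ overCat (𝒴.p.obj η) := fpFst y π
  have hQ : AlgSt.RepByAlgSpWith AlgSp.IsQuasiCompactMor (FibCat.diag Q) :=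
    diag_fpFst y (repByAlgSpWith_mono (fun _ _ _ _ h => h.1) hqs)
  let u := BasedFunctor.comp x Q
  obtain ⟨i⟩ := spMapOfOver_iso (BasedFunctor.comp (AlgSt.toOverCat U) u)
  obtain ⟨m, hm⟩ := (AlgSp.yon S).map_surjective (AlgSt.spMapOfOver (BasedFunctor.comp (AlgSt.toOverCat U) u))
  have hu : AlgSt.RepByAlgSpWith AlgSp.IsQuasiCompactMor u := by
    have h1 : AlgSt.RepByAlgSpWith AlgSp.IsAffineMor (AlgSt.ofSpMap ((AlgSp.yon S).map m)) :=
      repByAlgSpWith_ofSpMap (fun _ _ _ _ _ _ _ _ _ _ _ _ sq h => AlgSpLib.isAffineMor_of_isPullback sq h)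
        (V := ⟨_, AlgSp.IsAlgSpace.yon_obj _⟩) (Z := ⟨_, AlgSp.IsAlgSpace.yon_obj _⟩) _
        ((AlgSpLib.isAffineMor_iff_repWith _).2 ((AlgSp.repWith_yon_map_iff _ m).2
          (isAffineHom_of_isAffine m.left)))
    have h2 : AlgSt.RepByAlgSpWith AlgSp.IsAffineMor (AlgSt.overMap m) :=
      (repByAlgSpWith_iff_of_square (isEquivOver_ofOverCat U) (isEquivOver_ofOverCat _)
        (eqToIso (ofOver_overMap m))).2 h1
    have h3 : AlgSt.RepByAlgSpWith AlgSp.IsAffineMor u := repByAlgSpWith_of_iso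
      ((Stk.restr (AlgSt.ofOverCat U) _).mapIso i ≪≫ eqToIso (by rw [← hm]; rfl)).symm h2
    exact repByAlgSpWith_mono (fun X Y a hX h =>
      have hr := (AlgSpLib.isAffineMor_iff_repWith _).1 h
      (AlgSpLib.repWith_quasiCompact_iff hX (AlgSp.IsAlgSpace.yon_obj _) hr.1).1
        (AlgSpLib.RepWith.mono (fun _ _ g (_ : IsAffineHom g) => (inferInstance : QuasiCompact g)) hr)) h3
  have hU := isAlgStack_overCat U
  have h4 : AlgSt.IsQuasiCompact (fp u u) :=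
    qcMor_of_with hT hU hu _ hU (isQuasiCompact_overCat U) u
  have huu := isAlgStack_fp hT.isStack hT.diag hU hU u u
  have hxx := isAlgStack_fp hZ.isStack hZ.diag hU hU x x
  have h5 := qcMor_of_with huu hxx (fpPush_with (P := AlgSp.IsQuasiCompactMor) x (g := Q) hQ) _ huu h4
    (BasedFunctor.id _)
  exact isQuasiCompact_of_equiv (isEquivOver_comp (isEquivOver_fpSwap (BasedFunctor.id _) (fpPush x x Q))
    (isEquivOver_fpFst (F := fpPush x x Q) (isEquivOver_id _))) h5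

include h𝒴g hiη in
theorem exists_atlas (h𝒳 : AlgSt.IsAlgStack Scheme.fppfPrecoverage 𝒳) (hM' : AlgSt.IsAlgStack Scheme.fppfPrecoverage 𝒴)
    (hqc : AlgSt.IsQuasiCompactMor Scheme.fppfPrecoverage π) (hqs : AlgSt.IsQuasiSeparatedMor π) :
    Nonempty (Atlas (StMod.fibCat π η)) := by
  have hT := isAlgStack_overCat (𝒴.p.obj η)
  have hZ := isAlgStack_fp hM'.isStack hM'.diag hT h𝒳 y π
  let Z := fp y π
  obtain ⟨U, x, hU, hx, hxs⟩ := hqc _ hT (isQuasiCompact_overCat _) y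
  haveI : IsAffine U.left := hU
  obtain ⟨F, e, he⟩ := repByAlgSp1_of_diag hZ.isStack.1 hZ.diag (repByAlgSp_overCat U) x U x
  obtain ⟨G', hG', -, -⟩ := exists_inverse he
  haveI := AlgSpLib.compactSpace_points_of_isQuasiCompactSp
    (isQuasiCompactSp_of_ofSp F (isQuasiCompact_of_equiv hG' (qc_fp_self y h𝒳 hM' hqs x)))
  obtain ⟨W, w, hW, hwe, hws⟩ := AlgSpLib.exists_affine_chart F.property
  haveI : IsAffine W.left := hW
  obtain ⟨-, -, hess⟩ := EqvData.of_isEquivOver he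
  let b : Z.obj := x.obj (Over.mk (𝟙 U))
  have hb : Z.p.obj b = U := x.w_obj _
  let tW : (AlgSt.ofSp F.obj).obj := ⟨W, GrothendieckTopology.uliftYonedaEquiv.{u + 1} (AlgSp.J S) w⟩
  let PW : (fp x x).obj := e.obj tW
  let ωZ : Z.obj := x.obj PW.obj.fst
  let pZ : ωZ ⟶ b := x.map (toId PW.obj.fst)
  let qZ : ωZ ⟶ b := PW.obj.iso.hom ≫ x.map (toId PW.obj.snd)
  let ξ₀ : (StMod.fibCat π η).obj := CostructuredArrow.mk (alphaOf y iη b)
  let ω : (StMod.fibCat π η).obj := CostructuredArrow.mk (alphaOf y iη ωZ)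
  refine ⟨Atlas.mk ξ₀ ω (CostructuredArrow.homMk pZ.hom.snd (alphaOf_hom y iη pZ))
    (CostructuredArrow.homMk qZ.hom.snd (alphaOf_hom y iη qZ)) ?_ ?_ ?_ ?_⟩
  · show IsAffine (𝒳.p.obj b.obj.snd).left
    rw [show 𝒳.p.obj b.obj.snd = U from ((fpSnd y π).w_obj b).trans hb]
    exact hU
  · show IsAffine (𝒳.p.obj ωZ.obj.snd).left
    rw [show 𝒳.p.obj ωZ.obj.snd = W from
      ((fpSnd y π).w_obj ωZ).trans ((x.w_obj PW.obj.fst).trans (e.w_obj tW))]
    exact hW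
  · intro z₀
    suffices ∀ (ξ : 𝒳.obj) (α : π.obj ξ ⟶ η), ∃ (ζ : 𝒳.obj) (n : ζ ⟶ ξ) (φ : ζ ⟶ b.obj.snd),
        (Smooth (StMod.bmap 𝒳 n) ∧ Surjective (StMod.bmap 𝒳 n)) ∧ π.map φ ≫ alphaOf y iη b = π.map n ≫ α by
      obtain ⟨ζ, n, φ, hn, hφ⟩ := this z₀.left z₀.hom
      exact ⟨CostructuredArrow.mk (π.map n ≫ z₀.hom), CostructuredArrow.homMk n rfl,
        CostructuredArrow.homMk φ hφ, hn⟩
    intro ξ α
    obtain ⟨a, rfl, hα⟩ := exists_obj y iη h𝒴g hiη ξ α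
    rw [eqToHom_refl, π.toFunctor.map_id, Category.id_comp] at hα
    subst hα
    obtain ⟨G, j, hj⟩ := exists_classifying hZ.isStack.1 a rfl
    obtain ⟨V, c, hc, hcs, l, -, ⟨i⟩, -⟩ := exists_cover_lift hx hxs G G
    let o : (overCat (Z.p.obj a)).obj := (AlgSt.overMap c).obj (Over.mk (𝟙 V))
    let n : G.obj o ⟶ a := G.map (toId o) ≫ j.hom
    let φ : G.obj o ⟶ b :=
      (Stk19.appIso i (Over.mk (𝟙 V))).inv ≫ x.map (toId (l.obj (Over.mk (𝟙 V))))
    have hn : Z.p.map n = eqToHom (G.w_obj o) ≫ c := by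
      have hj' := map_eq_of_vert Z.p (R := Z.p.obj a) j.hom
      rw [Z.p.map_comp, based_map G, hj']
      show (eqToHom _ ≫ (𝟙 V ≫ c) ≫ eqToHom _) ≫ eqToHom _ = _
      simp
    refine ⟨(G.obj o).obj.snd, n.hom.snd, φ.hom.snd, isCov_snd y n ?_ ?_,
      (alphaOf_hom y iη φ).trans (alphaOf_hom y iη n).symm⟩
    all_goals rw [hn, Over.comp_left, Over.eqToHom_left]
    · exact (MorphismProperty.cancel_left_of_respectsIso @Smooth _ _).2 hc
    · exact (MorphismProperty.cancel_left_of_respectsIso @Surjective _ _).2 hcs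
  · intro z₀ g₀ g₁
    suffices ∀ (ζ : 𝒳.obj) (φ φ' : ζ ⟶ b.obj.snd), π.map φ ≫ alphaOf y iη b = π.map φ' ≫ alphaOf y iη b →
        ∃ (ζ' : 𝒳.obj) (n : ζ' ⟶ ζ) (r : ζ' ⟶ ωZ.obj.snd), (Smooth (StMod.bmap 𝒳 n) ∧ Surjective (StMod.bmap 𝒳 n)) ∧
          r ≫ pZ.hom.snd = n ≫ φ ∧ r ≫ qZ.hom.snd = n ≫ φ' by
      obtain ⟨ζ', n, r, hn, h₁, h₂⟩ := this z₀.left g₀.left g₁.left
        ((CostructuredArrow.w g₀).trans (CostructuredArrow.w g₁).symm)
      refine ⟨CostructuredArrow.mk (π.map n ≫ z₀.hom), CostructuredArrow.homMk n rfl,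
        CostructuredArrow.homMk r ?_, hn, CostructuredArrow.hom_ext _ _ h₁, CostructuredArrow.hom_ext _ _ h₂⟩
      show π.map r ≫ alphaOf y iη ωZ = π.map n ≫ z₀.hom
      rw [← alphaOf_hom y iη pZ, ← Functor.map_comp_assoc, h₁, Functor.map_comp_assoc]
      exact congrArg (π.map n ≫ ·) (CostructuredArrow.w g₀)
    intro ζ φ φ' hφ
    obtain ⟨a, rfl, hα⟩ := exists_obj y iη h𝒴g hiη ζ (π.map φ ≫ alphaOf y iη b)
    rw [eqToHom_refl, π.toFunctor.map_id, Category.id_comp] at hα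
    obtain ⟨k, hk⟩ := exists_hom y iη h𝒴g hiη φ hα.symm
    obtain ⟨k', hk'⟩ := exists_hom y iη h𝒴g hiη φ' (hφ.symm.trans hα.symm)
    subst hk hk'
    have mk : ∀ k : a ⟶ b, ∃ (A : (overCat U).obj) (σ : x.obj A ≅ a),
        A.left = Z.p.obj a ∧ Z.p.IsHomLift (𝟙 (Z.p.obj (x.obj A))) σ.hom ∧ σ.hom ≫ k = x.map (toId A) := by
      intro k
      let A : (overCat U).obj := Over.mk (Z.p.map k ≫ eqToHom hb)
      obtain ⟨χ, ⟨hχ, hχk⟩, -⟩ := fibGrpd_fac hZ.isStack.1 k (x.map (toId A)) (eqToHom (x.w_obj A)) (by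
        rw [based_map x]
        show _ = eqToHom _ ≫ (Z.p.map k ≫ eqToHom hb) ≫ eqToHom _
        simp
        rfl)
      have hv := vert_of_map_eq Z.p (h := x.w_obj A) hχ
      haveI := fibGrpd_isIso_vert hZ.isStack.1 (R := Z.p.obj (x.obj A)) χ
      exact ⟨A, asIso χ, rfl, hv, hχk⟩
    obtain ⟨A₁, σ₁, hA₁, hv₁, hσ₁⟩ := mk k
    obtain ⟨A₂, σ₂, hA₂, hv₂, hσ₂⟩ := mk k'
    have e₁ : (overCat U).p.obj A₁ = Z.p.obj (x.obj A₁) := (x.w_obj A₁).symm
    have hPv : Z.p.IsHomLift (𝟙 ((overCat U).p.obj A₁)) (σ₁ ≪≫ σ₂.symm).hom :=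
      vert_comp Z.p _ _ (vert_change Z.p _ hv₁ e₁.symm)
        (vert_inv Z.p σ₂ (vert_change Z.p _ hv₂ ((x.w_obj A₂).trans (hA₂.trans hA₁.symm))))
    let P : (fp x x).obj := ⟨⟨A₁, A₂, σ₁ ≪≫ σ₂.symm⟩, hPv⟩
    obtain ⟨t, i, hi⟩ := hess P
    have sq := hwe.1.isPullback ((GrothendieckTopology.uliftYonedaEquiv.{u + 1} (AlgSp.J S)).symm t.sec)
    set V := hwe.1.pullback ((GrothendieckTopology.uliftYonedaEquiv.{u + 1} (AlgSp.J S)).symm t.sec)
    obtain ⟨r, hr⟩ := (AlgSp.yon S).map_surjective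
      (hwe.1.fst ((GrothendieckTopology.uliftYonedaEquiv.{u + 1} (AlgSp.J S)).symm t.sec))
    let c : V ⟶ t.base := hwe.1.snd _
    have hce : Etale c.left := hwe.property_snd _
    have hcs : Surjective c.left := hws.property_snd _
    let t' : (AlgSt.ofSp F.obj).obj := ⟨V, F.obj.obj.map c.op t.sec⟩
    let hc : t' ⟶ t := ⟨c, rfl⟩
    let hrr : t' ⟶ tW := ⟨r, by
      rw [← hr] at sq
      have h := congrArg (GrothendieckTopology.uliftYonedaEquiv.{u + 1} (AlgSp.J S)) sq.w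
      rw [← GrothendieckTopology.uliftYonedaEquiv_naturality, ← GrothendieckTopology.uliftYonedaEquiv_naturality,
        Equiv.apply_symm_apply] at h
      exact h⟩
    let h1 : e.obj t' ⟶ P := e.map hc ≫ i.hom
    let h2 : e.obj t' ⟶ PW := e.map hrr
    let n : x.obj (e.obj t').obj.fst ⟶ a := x.map h1.hom.fst ≫ σ₁.hom
    let rZ : x.obj (e.obj t').obj.fst ⟶ ωZ := x.map h2.hom.fst
    have e₁' : rZ ≫ pZ = n ≫ k := by
      show x.map h2.hom.fst ≫ x.map (toId PW.obj.fst) = (x.map h1.hom.fst ≫ σ₁.hom) ≫ k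
      rw [Category.assoc, hσ₁, ← x.toFunctor.map_comp, ← x.toFunctor.map_comp, toId_natural,
        toId_natural h1.hom.fst]
    have e₂' : rZ ≫ qZ = n ≫ k' := by
      show x.map h2.hom.fst ≫ PW.obj.iso.hom ≫ x.map (toId PW.obj.snd) = (x.map h1.hom.fst ≫ σ₁.hom) ≫ k'
      have w₁ : x.map h1.hom.fst ≫ (σ₁.hom ≫ σ₂.inv) = (e.obj t').obj.iso.hom ≫ x.map h1.hom.snd := h1.hom.w
      have w₂ : x.map h2.hom.fst ≫ PW.obj.iso.hom = (e.obj t').obj.iso.hom ≫ x.map h2.hom.snd := h2.hom.w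
      rw [reassoc_of% w₂, ← x.toFunctor.map_comp, toId_natural, ← toId_natural h1.hom.snd, x.toFunctor.map_comp,
        ← reassoc_of% w₁]
      rw [show x.map (toId P.obj.snd) = σ₂.hom ≫ k' from hσ₂.symm]
      simp
    refine ⟨_, n.hom.snd, rZ.hom.snd, isCov_snd y n ?_ ?_, congrArg (fun m => m.hom.snd) e₁',
      congrArg (fun m => m.hom.snd) e₂'⟩
    all_goals
      have hi' := map_eq_of_vert (fp x x).p (R := (fp x x).p.obj P) i.hom
      have hh : (overCat U).p.map h1.hom.fst =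
          eqToHom (e.w_obj t') ≫ c ≫ eqToHom ((e.w_obj t).symm.trans (eq_of_vert _ i.hom hi)) := by
        show (fp x x).p.map h1 = _
        rw [Functor.map_comp, based_map e, hi']
        simp
        rfl
      have hσ := map_eq_of_vert Z.p (R := Z.p.obj (x.obj A₁)) σ₁.hom
      rw [Z.p.map_comp, based_map x, hσ, hh]
      simp only [Over.comp_left, Over.eqToHom_left]
    · exact (MorphismProperty.cancel_right_of_respectsIso @Smooth _ _).2
        ((MorphismProperty.cancel_left_of_respectsIso @Smooth _ _).2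
        ((MorphismProperty.cancel_right_of_respectsIso @Smooth _ _).2
        ((MorphismProperty.cancel_left_of_respectsIso @Smooth _ _).2
        ((MorphismProperty.cancel_right_of_respectsIso @Smooth _ _).2 inferInstance))))
    · exact (MorphismProperty.cancel_right_of_respectsIso @Surjective _ _).2
        ((MorphismProperty.cancel_left_of_respectsIso @Surjective _ _).2
        ((MorphismProperty.cancel_right_of_respectsIso @Surjective _ _).2
        ((MorphismProperty.cancel_left_of_respectsIso @Surjective _ _).2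
        ((MorphismProperty.cancel_right_of_respectsIso @Surjective _ _).2 hcs))))

omit y iη in
/-- The category of a quasi-compact quasi-separated morphism over an object with affine scheme has an atlas. -/
theorem exists_atlas_fibCat (h𝒳 : AlgSt.IsAlgStack Scheme.fppfPrecoverage 𝒳)
    (h𝒴 : AlgSt.IsAlgStack Scheme.fppfPrecoverage 𝒴) (hqc : AlgSt.IsQuasiCompactMor Scheme.fppfPrecoverage π)
    (hqs : AlgSt.IsQuasiSeparatedMor π) : Nonempty (Atlas (StMod.fibCat π η)) := by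
  obtain ⟨y, i, hi⟩ := exists_classifying h𝒴.isStack.1 η (rfl : 𝒴.p.obj η = 𝒴.p.obj η)
  exact exists_atlas y i h𝒴.isStack.1 hi h𝒳 h𝒴 hqc hqs

end Groth.Agent.ResProp20

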