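import Groth.Agent.ResProp20.HomDescent
import Groth.Agent.CohAff19.BaseChange
import Groth.Agent.EGA43.QcohFP

/-! Morphisms out of a finitely presented module over a flat affine base change of an atlas. -/

set_option autoImplicit false
set_option backward.isDefEq.respectTransparency false
set_option backward.isDefEq.respectTransparency.types false
set_option linter.style.haveILetI false

universe u

open CategoryTheory CategoryTheory.Limits AlgebraicGeometry Opposite FibCat TensorProduct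
open Groth.Agent.Coherent Groth.Agent.PicLib Groth.Agent.Desc19b.QDesc Groth.Agent.TameGood19 Groth.Agent.CohAff19
open StMod

noncomputable section

namespace Groth.Agent.ResProp20

section Algebra

variable {R : Type u} [CommRing R] (B : Type u) [AddCommGroup B] [Module R B]

theorem lTensor_eq_zero_of_pi {ι : Type} [Fintype ι] [DecidableEq ι] {P : Type u} [AddCommGroup P] [Module R P]
    (x : B ⊗[R] (ι → P)) (h : ∀ j, (LinearMap.proj j : (ι → P) →ₗ[R] P).lTensor B x = 0) : x = 0 := by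
  have hid : (∑ j, (LinearMap.single R (fun _ : ι => P) j).comp (LinearMap.proj j)) = LinearMap.id := by
    refine LinearMap.ext fun v => funext fun k => ?_
    simp [LinearMap.sum_apply, Finset.sum_apply, Pi.single_apply]
  have h1 : (LinearMap.id : (ι → P) →ₗ[R] (ι → P)).lTensor B x = x := by
    rw [LinearMap.lTensor_id]; rfl
  rw [← h1, ← hid, ← LinearMap.coe_lTensorHom, map_sum, LinearMap.sum_apply]
  refine Finset.sum_eq_zero fun j _ => ?_
  rw [LinearMap.coe_lTensorHom, LinearMap.lTensor_comp_apply, h j, map_zero]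

theorem lTensor_eq_zero_of_prod {P Q : Type u} [AddCommGroup P] [Module R P] [AddCommGroup Q] [Module R Q]
    (x : B ⊗[R] (P × Q)) (h₁ : (LinearMap.fst R P Q).lTensor B x = 0) (h₂ : (LinearMap.snd R P Q).lTensor B x = 0) :
    x = 0 := by
  have hid : (LinearMap.inl R P Q).comp (LinearMap.fst R P Q) + (LinearMap.inr R P Q).comp (LinearMap.snd R P Q) =
      LinearMap.id := LinearMap.ext fun v => by simp
  have h1 : (LinearMap.id : P × Q →ₗ[R] P × Q).lTensor B x = x := by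
    rw [LinearMap.lTensor_id]; rfl
  rw [← h1, ← hid, LinearMap.lTensor_add, LinearMap.add_apply, LinearMap.lTensor_comp_apply,
    LinearMap.lTensor_comp_apply, h₁, h₂, map_zero, map_zero, add_zero]

end Algebra

variable {S : Scheme.{u}} {𝒵 : AlgSt.Cat S}

/-- A morphism out of a module generated by finitely many sections, with prescribed values on them. -/
theorem exists_hom_of_gens {X : Scheme.{u}} [IsAffine X] (E M : X.Modules) [Coh.IsQCoh E] [Coh.IsQCoh M]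
    {n : ℕ} (e : Fin n → Γ(E, ⊤)) (he : Submodule.span Γ(X, ⊤) (Set.range e) = ⊤) (t : Fin n → Γ(M, ⊤))
    (ht : ∀ a : Fin n → Γ(X, ⊤), ∑ i, a i • e i = 0 → ∑ i, a i • t i = 0) :
    ∃ φ : E ⟶ M, ∀ i, φ.app ⊤ (e i) = t i := by
  classical
  have hspan : Submodule.span Γ(X, ⊤) (Set.range fun i : ULift.{u} (Fin n) => e i.down) = ⊤ := by
    rw [← he]
    congr 1
    ext x
    exact ⟨fun ⟨i, hi⟩ => ⟨i.down, hi⟩, fun ⟨i, hi⟩ => ⟨⟨i⟩, hi⟩⟩
  let p : Coherent.freeMod X (ULift.{u} (Fin n)) ⟶ E := freeDesc fun i => unitDesc E (e i.down)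
  haveI : Epi p := epi_of_genOn_top (genOn_of_span_top E (isAffineOpen_top X) _ hspan)
  let ψ : Coherent.freeMod X (ULift.{u} (Fin n)) ⟶ M := freeDesc fun i => unitDesc M (t i.down)
  haveI := isQCoh_freeMod (X := X) (I := ULift.{u} (Fin n))
  haveI : Coh.IsQCoh (kernel p) := isQCoh_kernel p
  have hval : ∀ (F : X.Modules) (s : Fin n → Γ(F, ⊤)) (a : Γ(Coherent.freeMod X (ULift.{u} (Fin n)), ⊤)),
      (freeDesc fun i => unitDesc F (s i.down)).app ⊤ a = ∑ i : Fin n, freeCoord ⊤ ⟨i⟩ a • s i := by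
    intro F s a
    rw [freeMod_app, ← Equiv.sum_comp (Equiv.ulift.{u, 0} (α := Fin n)).symm]
    refine Finset.sum_congr rfl fun i _ => ?_
    rw [freeInj_freeDesc, unitVal_unitDesc, resM_self]
    rfl
  have hk : kernel.ι p ≫ ψ = 0 := by
    refine eq_zero_of_generated (AmpleLib.globallyGenerated_of_isQuasiAffine _) _ fun s => ?_
    have h0 : p.app ⊤ ((kernel.ι p).app ⊤ s) = 0 := congr(($(kernel.condition p)).app ⊤ s)
    show ψ.app ⊤ ((kernel.ι p).app ⊤ s) = 0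
    rw [hval] at h0 ⊢
    exact ht _ h0
  refine ⟨Abelian.epiDesc p ψ hk, fun i => ?_⟩
  have hv : ∀ (F : X.Modules) (s : Fin n → Γ(F, ⊤)),
      (freeDesc fun i => unitDesc F (s i.down)).app ⊤ (freeBasisVec (X := X) (⟨i⟩ : ULift.{u} (Fin n)) ⊤) = s i := by
    intro F s
    rw [hval, Finset.sum_eq_single i]
    · rw [freeCoord_basisVec, if_pos rfl, one_smul]
    · intro j _ hj
      rw [freeCoord_basisVec, if_neg (fun h => hj (congrArg ULift.down h).symm), zero_smul]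
    · exact fun h => absurd (Finset.mem_univ i) h
  rw [← hv E e, ← hv M t]
  exact congr(($(Abelian.comp_epiDesc p ψ hk)).app ⊤ _)

variable {E M N : QCoh 𝒵}

/-- Sections of a finitely generated module over the chart. -/
theorem exists_gens (hE : E.obj.IsFinPres) (ξ : 𝒵.obj) [IsAffine (sch 𝒵 ξ)] :
    ∃ (n m : ℕ) (e : Fin n → Γ(E.obj.obj ξ, ⊤)) (r : Fin m → Fin n → Γ(sch 𝒵 ξ, ⊤)),
      Submodule.span Γ(sch 𝒵 ξ, ⊤) (Set.range e) = ⊤ ∧ (∀ j, ∑ i, r j i • e i = 0) ∧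
        ∀ a : Fin n → Γ(sch 𝒵 ξ, ⊤), ∑ i, a i • e i = 0 → a ∈ Submodule.span Γ(sch 𝒵 ξ, ⊤) (Set.range r) := by
  haveI : Coh.IsQCoh (E.obj.obj ξ) := E.property.2 ξ
  haveI : Module.FinitePresentation Γ(sch 𝒵 ξ, ⊤) Γ(E.obj.obj ξ, ⊤) :=
    EGA43.QcohFP.finitePresentation_sections _ (hE ξ) (isAffineOpen_top _)
  obtain ⟨n, e, he⟩ := Module.Finite.exists_fin (R := Γ(sch 𝒵 ξ, ⊤)) (M := Γ(E.obj.obj ξ, ⊤))
  let π := Fintype.linearCombination Γ(sch 𝒵 ξ, ⊤) e
  have hπ : Function.Surjective π := by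
    rw [← LinearMap.range_eq_top, Fintype.range_linearCombination]
    exact he
  obtain ⟨m, r, hr⟩ := (Submodule.fg_iff_exists_fin_generating_family (N := LinearMap.ker π)).1
    (Module.FinitePresentation.fg_ker π hπ)
  refine ⟨n, m, e, r, he, fun j => ?_, fun a ha => ?_⟩
  · have : r j ∈ LinearMap.ker π := hr ▸ Submodule.subset_span (Set.mem_range_self j)
    simpa [π, Fintype.linearCombination_apply] using this
  · rw [hr]
    simpa [π, Fintype.linearCombination_apply] using ha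

/-- Pulled back generators generate. -/
theorem exists_coeff {ξ' ξ : 𝒵.obj} [IsAffine (sch 𝒵 ξ)] [IsAffine (sch 𝒵 ξ')] (φ : ξ' ⟶ ξ) {n : ℕ}
    {e : Fin n → Γ(E.obj.obj ξ, ⊤)} (he : Submodule.span Γ(sch 𝒵 ξ, ⊤) (Set.range e) = ⊤)
    (t : Γ(E.obj.obj ξ', ⊤)) : ∃ c : Fin n → Γ(sch 𝒵 ξ', ⊤), t = ∑ i, c i • E.obj.mapTop φ (e i) := by
  induction t using bc_induction E φ with
  | hadd a b ha hb =>
    obtain ⟨c, rfl⟩ := ha
    obtain ⟨d, rfl⟩ := hb
    exact ⟨c + d, by simp only [Pi.add_apply, add_smul, Finset.sum_add_distrib]⟩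
  | hsmul s x =>
    obtain ⟨a, rfl⟩ := (Submodule.mem_span_range_iff_exists_fun Γ(sch 𝒵 ξ, ⊤)).1 (he.ge (Submodule.mem_top (x := x)))
    refine ⟨fun i => s * (bmap 𝒵 φ).appTop (a i), ?_⟩
    rw [show E.obj.mapTop φ (∑ i, a i • e i) = ∑ i, E.obj.mapTop φ (a i • e i) from
      map_sum ((E.obj.map φ rfl).app ⊤).hom _ _, Finset.smul_sum]
    exact Finset.sum_congr rfl fun i _ => by rw [Mod.mapTop_smul, mul_smul]

/-- A morphism killed by all morphisms from a finitely presented module is killed by all compatible morphisms over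
a flat affine base change of the atlas. -/
theorem Atlas.kill (hZ : IsFibGrpd 𝒵.p) (A : Atlas 𝒵) (hE : E.obj.IsFinPres) (u : M.obj ⟶ N.obj)
    (hu : ∀ φ : E.obj ⟶ M.obj, φ ≫ u = 0) {U Z : Scheme.{u}} [IsAffine U] [IsAffine Z] (g : Z ⟶ U) [Flat g]
    (b₀ : sch 𝒵 A.ξ₀ ⟶ U) (bω : sch 𝒵 A.ω ⟶ U) (hp : bmap 𝒵 A.p ≫ b₀ = bω) (hq : bmap 𝒵 A.q ≫ b₀ = bω)
    {ξ₁ ω₁ : 𝒵.obj} [IsAffine (sch 𝒵 ξ₁)] [IsAffine (sch 𝒵 ω₁)] {k₀ : ξ₁ ⟶ A.ξ₀} {c₀ : sch 𝒵 ξ₁ ⟶ Z}
    (sq₀ : IsPullback (bmap 𝒵 k₀) c₀ b₀ g) {kω : ω₁ ⟶ A.ω} {cω : sch 𝒵 ω₁ ⟶ Z}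
    (sqω : IsPullback (bmap 𝒵 kω) cω bω g) {p' q' : ω₁ ⟶ ξ₁} (hp₁ : p' ≫ k₀ = kω ≫ A.p)
    (hq₁ : q' ≫ k₀ = kω ≫ A.q) (hp₂ : bmap 𝒵 p' ≫ c₀ = cω) (hq₂ : bmap 𝒵 q' ≫ c₀ = cω)
    {χ : E.obj.obj ξ₁ ⟶ M.obj.obj ξ₁} {ρ : E.obj.obj ω₁ ⟶ M.obj.obj ω₁} (hρp : Rel E.obj M.obj p' χ ρ)
    (hρq : Rel E.obj M.obj q' χ ρ) : χ ≫ u.app ξ₁ = 0 := by
  classical
  haveI := A.affine₀
  haveI := A.affineω
  haveI : Coh.IsQCoh (E.obj.obj A.ξ₀) := E.property.2 _
  haveI : Coh.IsQCoh (M.obj.obj A.ξ₀) := M.property.2 _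
  obtain ⟨n, m, e, r, he, hre, hker⟩ := exists_gens hE A.ξ₀
  choose c hc using fun l => exists_coeff A.p he (E.obj.mapTop A.q (e l))
  haveI : Module.Flat Γ(U, ⊤) (Fn g) := by
    exact Scheme.Hom.flat_appTop g
  obtain ⟨L₀, hL₀, hL₀'⟩ := exists_bc M k₀ g b₀ c₀ sq₀
  obtain ⟨Lω, hLω, hLω'⟩ := exists_bc M kω g bω cω sqω
  let M₀ := Sects M A.ξ₀ b₀
  let Mω := Sects M A.ω bω
  -- the linear maps
  let sc₀ : Γ(sch 𝒵 A.ξ₀, ⊤) → (M₀ →ₗ[Γ(U, ⊤)] M₀) := fun a =>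
    { toFun := fun x => (show Γ(M.obj.obj A.ξ₀, ⊤) from a • (show Γ(M.obj.obj A.ξ₀, ⊤) from x))
      map_add' := fun x y => smul_add a (show Γ(M.obj.obj A.ξ₀, ⊤) from x) (show Γ(M.obj.obj A.ξ₀, ⊤) from y)
      map_smul' := fun b x => by
        show a • (b₀.appTop b • (show Γ(M.obj.obj A.ξ₀, ⊤) from x)) = b₀.appTop b • (a • (show Γ(M.obj.obj A.ξ₀, ⊤) from x))
        exact smul_comm _ _ _ }
  let scω : Γ(sch 𝒵 A.ω, ⊤) → (Mω →ₗ[Γ(U, ⊤)] Mω) := fun a =>
    { toFun := fun x => (show Γ(M.obj.obj A.ω, ⊤) from a • (show Γ(M.obj.obj A.ω, ⊤) from x))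
      map_add' := fun x y => smul_add a (show Γ(M.obj.obj A.ω, ⊤) from x) (show Γ(M.obj.obj A.ω, ⊤) from y)
      map_smul' := fun b x => by
        show a • (bω.appTop b • (show Γ(M.obj.obj A.ω, ⊤) from x)) = bω.appTop b • (a • (show Γ(M.obj.obj A.ω, ⊤) from x))
        exact smul_comm _ _ _ }
  let mp : ∀ (k : A.ω ⟶ A.ξ₀), bmap 𝒵 k ≫ b₀ = bω → (M₀ →ₗ[Γ(U, ⊤)] Mω) := fun k hk =>
    { toFun := fun x => (show Γ(M.obj.obj A.ω, ⊤) from M.obj.mapTop k x)
      map_add' := fun x y => Mod.mapTop_add M.obj k x y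
      map_smul' := fun a x => by
        show M.obj.mapTop k (b₀.appTop a • (show Γ(M.obj.obj A.ξ₀, ⊤) from x)) = bω.appTop a • M.obj.mapTop k x
        rw [Mod.mapTop_smul, ← hk, Scheme.Hom.comp_appTop]
        rfl }
  let P := mp A.p hp
  let Q := mp A.q hq
  let T₁ : Fin m → ((Fin n → M₀) →ₗ[Γ(U, ⊤)] M₀) := fun j => ∑ i, (sc₀ (r j i)).comp (LinearMap.proj i)
  let T₂ : Fin n → ((Fin n → M₀) →ₗ[Γ(U, ⊤)] Mω) := fun l =>
    Q.comp (LinearMap.proj l) - ∑ i, ((scω (c l i)).comp P).comp (LinearMap.proj i)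
  let δ : (Fin n → M₀) →ₗ[Γ(U, ⊤)] (Fin m → M₀) × (Fin n → Mω) :=
    LinearMap.prod (LinearMap.pi T₁) (LinearMap.pi T₂)
  -- the element over the base change
  let y : Fin n → Γ(M.obj.obj ξ₁, ⊤) := fun i => χ.app ⊤ (E.obj.mapTop k₀ (e i))
  choose z hz using fun i => hL₀.2 (y i)
  let w : Fn g ⊗[Γ(U, ⊤)] (Fin n → M₀) :=
    ∑ i, (LinearMap.single Γ(U, ⊤) (fun _ : Fin n => M₀) i).lTensor (Fn g) (z i)
  have hw : ∀ i, (LinearMap.proj i : (Fin n → M₀) →ₗ[Γ(U, ⊤)] M₀).lTensor (Fn g) w = z i := by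
    intro i
    rw [map_sum, Finset.sum_eq_single i]
    · rw [← LinearMap.lTensor_comp_apply, LinearMap.proj_comp_single_same, LinearMap.lTensor_id]
      rfl
    · intro j _ hj
      rw [← LinearMap.lTensor_comp_apply,
        show (LinearMap.proj i : (Fin n → M₀) →ₗ[Γ(U, ⊤)] M₀).comp (LinearMap.single _ _ j) = 0 from
          LinearMap.ext fun x => by simp [Ne.symm hj], LinearMap.lTensor_zero, LinearMap.zero_apply]
    · exact fun h => absurd (Finset.mem_univ i) h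
  have hsc₀ : ∀ (a : Γ(sch 𝒵 A.ξ₀, ⊤)) (x : Fn g ⊗[Γ(U, ⊤)] M₀),
      L₀ ((sc₀ a).lTensor (Fn g) x) = (bmap 𝒵 k₀).appTop a • L₀ x := by
    intro a x
    induction x using TensorProduct.induction_on with
    | zero => simp only [map_zero, smul_zero]
    | add x x' hx hx' => simp only [map_add, smul_add, hx, hx']
    | tmul b x =>
      rw [LinearMap.lTensor_tmul, hL₀', hL₀']
      show _ • M.obj.mapTop k₀ (a • (show Γ(M.obj.obj A.ξ₀, ⊤) from x)) = _
      rw [Mod.mapTop_smul]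
      exact smul_comm _ _ _
  have hscω : ∀ (a : Γ(sch 𝒵 A.ω, ⊤)) (x : Fn g ⊗[Γ(U, ⊤)] Mω),
      Lω ((scω a).lTensor (Fn g) x) = (bmap 𝒵 kω).appTop a • Lω x := by
    intro a x
    induction x using TensorProduct.induction_on with
    | zero => simp only [map_zero, smul_zero]
    | add x x' hx hx' => simp only [map_add, smul_add, hx, hx']
    | tmul b x =>
      rw [LinearMap.lTensor_tmul, hLω', hLω']
      show _ • M.obj.mapTop kω (a • (show Γ(M.obj.obj A.ω, ⊤) from x)) = _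
      rw [Mod.mapTop_smul]
      exact smul_comm _ _ _
  have hmp : ∀ (k : A.ω ⟶ A.ξ₀) (hk : bmap 𝒵 k ≫ b₀ = bω) (k' : ω₁ ⟶ ξ₁), k' ≫ k₀ = kω ≫ k →
      bmap 𝒵 k' ≫ c₀ = cω → ∀ x : Fn g ⊗[Γ(U, ⊤)] M₀,
      Lω ((mp k hk).lTensor (Fn g) x) = M.obj.mapTop k' (L₀ x) := by
    intro k hk k' h₁ h₂ x
    induction x using TensorProduct.induction_on with
    | zero => simp only [map_zero, Mod.mapTop_zero]
    | add x x' hx hx' => simp only [map_add, Mod.mapTop_add, hx, hx']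
    | tmul b x =>
      rw [LinearMap.lTensor_tmul, hL₀', hLω', Mod.mapTop_smul, ← Mod.mapTop_comp, h₁, Mod.mapTop_comp, ← h₂,
        Scheme.Hom.comp_appTop]
      rfl
  have hsum : ∀ (k : ω₁ ⟶ ξ₁) (_ : Rel E.obj M.obj k χ ρ) (k' : A.ω ⟶ A.ξ₀), k ≫ k₀ = kω ≫ k' →
      ∀ i, M.obj.mapTop k (y i) = ρ.app ⊤ (E.obj.mapTop kω (E.obj.mapTop k' (e i))) := by
    intro k hk k' h i
    rw [← Mod.mapTop_comp, ← h, Mod.mapTop_comp]
    exact (rel_app hk _).symm
  have hδ : δ.lTensor (Fn g) w = 0 := by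
    refine lTensor_eq_zero_of_prod _ _ ?_ ?_ <;> refine lTensor_eq_zero_of_pi _ _ fun j => ?_
    · rw [← LinearMap.lTensor_comp_apply, ← LinearMap.lTensor_comp_apply]
      refine hL₀.1 ?_
      rw [show ((LinearMap.proj j : (Fin m → M₀) →ₗ[Γ(U, ⊤)] M₀).comp (LinearMap.fst _ _ _)).comp δ = T₁ j from rfl,
        map_zero]
      simp only [T₁, ← LinearMap.coe_lTensorHom, map_sum, LinearMap.sum_apply]
      simp only [LinearMap.coe_lTensorHom, LinearMap.lTensor_comp_apply, hw, hsc₀, hz, y]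
      rw [show (∑ i, (bmap 𝒵 k₀).appTop (r j i) • χ.app ⊤ (E.obj.mapTop k₀ (e i))) =
        χ.app ⊤ (E.obj.mapTop k₀ (∑ i, r j i • e i)) from ?_, hre, Mod.mapTop_zero, map_zero]
      rw [show E.obj.mapTop k₀ (∑ i, r j i • e i) = ∑ i, E.obj.mapTop k₀ (r j i • e i) from
        map_sum ((E.obj.map k₀ rfl).app ⊤).hom _ _, map_sum]
      exact Finset.sum_congr rfl fun i _ => by rw [Mod.mapTop_smul, Scheme.Modules.Hom.app_smul]
    · rw [← LinearMap.lTensor_comp_apply, ← LinearMap.lTensor_comp_apply]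
      refine hLω.1 ?_
      rw [show ((LinearMap.proj j : (Fin n → Mω) →ₗ[Γ(U, ⊤)] Mω).comp (LinearMap.snd _ _ _)).comp δ = T₂ j from rfl,
        map_zero]
      simp only [T₂, ← LinearMap.coe_lTensorHom, map_sum, map_sub, LinearMap.sum_apply, LinearMap.sub_apply]
      simp only [LinearMap.coe_lTensorHom, LinearMap.lTensor_comp_apply, hw, hscω, P, Q,
        hmp A.p hp p' hp₁ hp₂, hmp A.q hq q' hq₁ hq₂, hz, hsum p' hρp A.p hp₁, hsum q' hρq A.q hq₁]
      rw [sub_eq_zero, hc j, show E.obj.mapTop kω (∑ i, c j i • E.obj.mapTop A.p (e i)) =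
        ∑ i, E.obj.mapTop kω (c j i • E.obj.mapTop A.p (e i)) from
          map_sum ((E.obj.map kω rfl).app ⊤).hom _ _, map_sum]
      exact Finset.sum_congr rfl fun i _ => by rw [Mod.mapTop_smul, Scheme.Modules.Hom.app_smul]
  obtain ⟨v, hv⟩ := (Module.Flat.lTensor_exact (Fn g) (LinearMap.exact_subtype_ker_map δ) w).1 hδ
  -- morphisms of the kernel are killed
  have hkill : ∀ t : LinearMap.ker δ, ∀ i, (u.app A.ξ₀).app ⊤ ((t : Fin n → M₀) i) = 0 := by
    intro t i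
    have ht := t.2
    rw [LinearMap.mem_ker] at ht
    have hrel : ∀ j, ∑ i, r j i • (show Γ(M.obj.obj A.ξ₀, ⊤) from (t : Fin n → M₀) i) = 0 := fun j => by
      have h : T₁ j (t : Fin n → M₀) = 0 := congrFun (congrArg Prod.fst ht) j
      simp only [T₁, LinearMap.sum_apply] at h
      exact h
    obtain ⟨φ₀, hφ₀⟩ := exists_hom_of_gens (E.obj.obj A.ξ₀) (M.obj.obj A.ξ₀) e he
      (fun i => (t : Fin n → M₀) i) fun a ha => by
        obtain ⟨d, rfl⟩ := (Submodule.mem_span_range_iff_exists_fun Γ(sch 𝒵 A.ξ₀, ⊤)).1 (hker a ha)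
        simp only [Finset.sum_apply, Pi.smul_apply, smul_eq_mul, Finset.sum_smul, mul_smul]
        rw [Finset.sum_comm]
        simp only [← Finset.smul_sum, hrel, smul_zero, Finset.sum_const_zero]
    obtain ⟨ρ₀, hρ₀⟩ := exists_rel A.p φ₀
    have hq₀ : Rel E.obj M.obj A.q φ₀ ρ₀ := by
      refine rel_of_app fun x => ?_
      obtain ⟨a, rfl⟩ := (Submodule.mem_span_range_iff_exists_fun Γ(sch 𝒵 A.ξ₀, ⊤)).1
        (he.ge (Submodule.mem_top (x := x)))
      rw [show E.obj.mapTop A.q (∑ l, a l • e l) = ∑ l, E.obj.mapTop A.q (a l • e l) from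
        map_sum ((E.obj.map A.q rfl).app ⊤).hom _ _, map_sum, map_sum,
        show M.obj.mapTop A.q (∑ l, φ₀.app ⊤ (a l • e l)) = ∑ l, M.obj.mapTop A.q (φ₀.app ⊤ (a l • e l)) from
        map_sum ((M.obj.map A.q rfl).app ⊤).hom _ _]
      refine Finset.sum_congr rfl fun l _ => ?_
      rw [Mod.mapTop_smul, Scheme.Modules.Hom.app_smul, Scheme.Modules.Hom.app_smul, Mod.mapTop_smul]
      congr 1
      rw [hc l, map_sum]
      simp only [Scheme.Modules.Hom.app_smul, rel_app hρ₀, hφ₀]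
      have h : T₂ l (t : Fin n → M₀) = 0 := congrFun (congrArg Prod.snd ht) l
      simp only [T₂, LinearMap.sub_apply, LinearMap.sum_apply] at h
      exact (sub_eq_zero.1 h).symm
    obtain ⟨Φ, hΦ⟩ := A.exists_hom hZ hρ₀ hq₀
    rw [← hφ₀ i, ← hΦ]
    exact congrArg (fun k : E.obj ⟶ N.obj => (k.app A.ξ₀).app ⊤ (e i)) (hu Φ)
  have hy : ∀ i, (u.app ξ₁).app ⊤ (y i) = 0 := by
    intro i
    rw [← hz i, ← hw i, ← hv]
    clear hv
    induction v using TensorProduct.induction_on with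
    | zero => simp only [map_zero]
    | add x x' hx hx' => simp only [map_add, hx, hx', add_zero]
    | tmul b t =>
      rw [LinearMap.lTensor_tmul, LinearMap.lTensor_tmul, hL₀', Scheme.Modules.Hom.app_smul]
      show _ • (u.app ξ₁).app ⊤ (M.obj.mapTop k₀ ((t : Fin n → M₀) i)) = 0
      rw [← Mod.mapTop_app, hkill t i, Mod.mapTop_zero, smul_zero]
  haveI : Coh.IsQCoh (E.obj.obj ξ₁) := E.property.2 _
  refine eq_zero_of_generated (AmpleLib.globallyGenerated_of_isQuasiAffine _) _ fun s => ?_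
  obtain ⟨a, rfl⟩ := exists_coeff k₀ he s
  rw [map_sum]
  refine Finset.sum_eq_zero fun i _ => ?_
  rw [Scheme.Modules.Hom.app_smul]
  exact (congrArg (a i • ·) (hy i)).trans (smul_zero _)

end Groth.Agent.ResProp20
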