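import Groth.Agent.ResProp20.AffineRep
import Groth.Agent.CohAff19.DescendThm
import Groth.Agent.AlgSpLib.LimitClosed
import Groth.Agent.Stk19.AlgSt.Mono
import Groth.Agent.Stk19.AlgSt.PointsTop
import Groth.Agent.Stk19b.OpenSub.Range

/-! Closed points with the same image under a cohomologically affine morphism with connected fibres coincide. -/

set_option autoImplicit false
set_option backward.isDefEq.respectTransparency false
set_option backward.isDefEq.respectTransparency.types false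
set_option linter.style.haveILetI false
set_option linter.unusedSectionVars false

universe u

open CategoryTheory CategoryTheory.Limits AlgebraicGeometry Opposite TopologicalSpace FibCat Groth.Agent.Desc19 Groth.Agent.Stk19
open Groth.Agent.Coherent Groth.Agent.PicLib Groth.Agent.TameGood19
open StMod

noncomputable section

namespace Groth.Agent.ResProp20.ClosedPts

open AffineRep

variable {S : Scheme.{u}} {𝒵 𝒳 : AlgSt.Cat S}

/-- The universal object over an object of the target. -/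
theorem exists_univ_closed (ι : 𝒵 ⥤ᵇ 𝒳) (h𝒳 : IsFibGrpd 𝒳.p) (hι : AlgSt.IsClosedImm ι) (x : 𝒳.obj) :
    ∃ (z₀ : 𝒵.obj) (ε : ι.obj z₀ ⟶ x), IsClosedImmersion (baseOver ι z₀ ε).left ∧
      ∀ (z : 𝒵.obj) (φ : ι.obj z ⟶ x), ∃! m : z ⟶ z₀, ι.map m ≫ ε = φ := by
  obtain ⟨y, i, hi⟩ := exists_classifying h𝒳 x (rfl : 𝒳.p.obj x = 𝒳.p.obj x)
  obtain ⟨F, e, he, ha⟩ := hι _ y
  obtain ⟨W, w, fst, sq, hw⟩ := AlgSpLib.exists_yon_of_repWith ha
    (Z := 𝒳.p.obj x) (𝟙 _)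
  haveI : IsIso fst := sq.isIso_fst_of_isIso
  let T₀ : (AlgSt.ofSp F.obj).obj := ⟨W, fst.hom.app (op W) ⟨𝟙 W⟩⟩
  have hfst : ∀ (T : Over S) (g : T ⟶ W), F.obj.obj.map g.op T₀.sec = fst.hom.app (op T) ⟨g⟩ := fun T g => by
    have := congrArg (fun k => k ⟨𝟙 W⟩) (fst.hom.naturality g.op)
    refine (this.symm).trans ?_
    exact congrArg (fst.hom.app (op T)) (ULift.ext _ _ (Category.comp_id g))
  let hT₀ : IsTerminal T₀ := IsTerminal.ofUniqueHom
    (fun a => ⟨((inv fst).hom.app (op a.base) a.sec).down, by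
      refine (hfst _ _).trans ?_
      exact congrArg (fun k : F.obj ⟶ F.obj => k.hom.app (op a.base) a.sec) (IsIso.inv_hom_id fst)⟩)
    (fun a m => Stk.EltObj.hom_ext (by
      have h1 := congrArg ((inv fst).hom.app (op a.base)) ((hfst a.base m.hom).symm.trans m.map_sec)
      have h2 : (inv fst).hom.app (op a.base) (fst.hom.app (op a.base) ⟨m.hom⟩) = ⟨m.hom⟩ :=
        congrArg (fun k : (AlgSp.yon S).obj W ⟶ (AlgSp.yon S).obj W => k.hom.app (op a.base) ⟨m.hom⟩)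
          (IsIso.hom_inv_id fst)
      exact congrArg ULift.down (h2.symm.trans h1)))
  haveI := isEquivalence_of_isEquivOver he
  let P : (fp y ι).obj := e.obj T₀
  let hP : IsTerminal P := IsTerminal.isTerminalObj e.toFunctor T₀ hT₀
  have hT : AlgSt.secHom (BasedFunctor.comp e (fpFst y ι)) T₀ = w := by
    have h1 := congrArg (fun k : (AlgSp.yon S).obj W ⟶ (AlgSp.yon S).obj (𝒳.p.obj x) => k.hom.app (op W) ⟨𝟙 W⟩) sq.w
    have h2 := congrArg ULift.down h1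
    refine h2.trans ?_
    show (𝟙 W ≫ w) ≫ 𝟙 _ = w
    simp
  have hb : baseOver ι P.obj.snd (alphaOf y i P) = eqToHom ((fpSnd y ι).w_obj P) ≫ P.obj.fst.hom := by
    have hvc : 𝒳.p.IsHomLift (𝟙 _) P.obj.iso.hom := P.property
    have hmc := @map_eq_of_vert _ _ _ _ 𝒳.p _ _ _ P.obj.iso.inv (vert_inv 𝒳.p P.obj.iso hvc)
    unfold baseOver alphaOf
    rw [Functor.map_comp, hmc, map_toId y i hi]
    simp
  refine ⟨P.obj.snd, alphaOf y i P, ?_, fun z φ => ?_⟩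
  · have h3 : P.obj.fst.hom = eqToHom ((BasedFunctor.comp e (fpFst y ι)).w_obj T₀) ≫ w := by
      rw [← hT, AlgSt.secHom, eqToHom_trans_assoc, eqToHom_refl, Category.id_comp]
      rfl
    rw [hb, h3, Over.comp_left, Over.comp_left, Over.eqToHom_left, Over.eqToHom_left]
    haveI : IsClosedImmersion w.left := hw
    infer_instance
  · obtain ⟨a, ha', hα⟩ := exists_obj y i h𝒳 hi z φ
    subst ha'
    rw [eqToHom_refl, ι.toFunctor.map_id, Category.id_comp] at hα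
    subst hα
    refine ⟨(hP.from a).hom.snd, alphaOf_hom y i (hP.from a), fun m hm => ?_⟩
    obtain ⟨k, hk⟩ := exists_hom y i h𝒳 hi (a := a) (b := P) m hm
    rw [← hk, hP.hom_ext k (hP.from a)]

theorem affineMor_of_closedImm {ι : 𝒵 ⥤ᵇ 𝒳} (hc : AlgSt.IsClosedImm ι) : AlgSt.RepByAlgSpWith AlgSp.IsAffineMor ι :=
  repByAlgSpWith_mono (fun _ _ _ _ h => AlgSpLib.isAffineMor_of_closedImmersion h) hc

variable (ι : 𝒵 ⥤ᵇ 𝒳) (h𝒵 : IsFibGrpd 𝒵.p) (h𝒳 : IsFibGrpd 𝒳.p) (hc : AlgSt.IsClosedImm ι)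

include h𝒵 in
theorem isClosedImmersion_pr (x : 𝒳.obj) : IsClosedImmersion (pr ι h𝒳 (affineMor_of_closedImm hc) x) := by
  obtain ⟨z₀, ε, hε, hu⟩ := exists_univ_closed ι h𝒳 hc x
  let hι := affineMor_of_closedImm hc
  obtain ⟨a, ha, -⟩ := hu _ (ctr ι h𝒳 hι x)
  obtain ⟨b, hb, -⟩ := existsUnique_rad ι h𝒳 hι x z₀ ε
  have hab : a ≫ b = 𝟙 _ := AffineRep.adj_ext ι h𝒳 hι (by
    rw [ι.toFunctor.map_comp, Category.assoc, hb, ha, ι.toFunctor.map_id, Category.id_comp])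
  have hba : b ≫ a = 𝟙 _ := (hu z₀ ε).unique (by
    show ι.map (b ≫ a) ≫ ε = ε
    rw [ι.toFunctor.map_comp, Category.assoc, ha, hb]) (by
    show ι.map (𝟙 z₀) ≫ ε = ε
    rw [ι.toFunctor.map_id, Category.id_comp])
  haveI : IsIso a := ⟨⟨b, hab, hba⟩⟩
  haveI : IsIso (bmap 𝒵 a) := inferInstanceAs (IsIso ((Over.forget S).map (𝒵.p.map a)))
  have e : pr ι h𝒳 hι x = bmap 𝒵 a ≫ (baseOver ι z₀ ε).left := by
    rw [bmap_comp_baseOver_left, ha]
  rw [e]
  haveI := hε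
  infer_instance

theorem app_square {A B A' B' : Scheme.{u}} {p : A ⟶ B} {p' : A' ⟶ B'} {g : B' ⟶ B} {g' : A' ⟶ A}
    (w : g' ≫ p = p' ≫ g) (U : B.Opens) (r : Γ(B, U)) :
    p'.app (g ⁻¹ᵁ U) (g.app U r) =
      A'.presheaf.map (homOfLE (le_of_eq (congrArg (· ⁻¹ᵁ U) w).symm)).op (g'.app (p ⁻¹ᵁ U) (p.app U r)) := by
  show ((p' ≫ g).app U) r = A'.presheaf.map _ ((g' ≫ p).app U r)
  rw [Scheme.Hom.congr_app w.symm U]
  rfl

/-- The unit into the direct image of the structure sheaf. -/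
def unitHom : OQ 𝒳 ⟶ AffineRep.pushQ ι h𝒵 h𝒳 (affineMor_of_closedImm hc) (OQ 𝒵) :=
  ObjectProperty.homMk
    { app := fun x => unitMap (pr ι h𝒳 (affineMor_of_closedImm hc) x)
      comm := fun {x' x} φ g hg => by
        subst hg
        apply Scheme.Modules.hom_ext
        intro U
        ext r
        have w := radMap_pr ι h𝒳 (affineMor_of_closedImm hc) φ rfl
        show (pr ι h𝒳 _ x').app _ ((bmap 𝒳 φ).app U r) =
          (sqMap w (unitMap (bmap 𝒵 (radMap ι h𝒳 _ φ)))).app U ((pr ι h𝒳 _ x).app U r)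
        rw [sqMap_app, unitMap_app_apply]
        exact app_square w U r }

theorem val_unitHom (x : 𝒳.obj) (r : Γ(sch 𝒳 x, ⊤)) :
    val ι h𝒵 h𝒳 (affineMor_of_closedImm hc) (OQ 𝒵) x (((unitHom ι h𝒵 h𝒳 hc).hom.app x).app ⊤ r) =
      (pr ι h𝒳 (affineMor_of_closedImm hc) x).appTop r := rfl

theorem isSurj_unitHom : Mod.IsSurj (unitHom ι h𝒵 h𝒳 hc).hom := by
  intro x hx s
  haveI := isClosedImmersion_pr ι h𝒵 h𝒳 hc x
  haveI : IsAffine (sch 𝒳 x) := hx
  obtain ⟨r, hr⟩ := (IsClosedImmersion.isAffine_surjective_of_isAffine (pr ι h𝒳 (affineMor_of_closedImm hc) x)).2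
    (val ι h𝒵 h𝒳 (affineMor_of_closedImm hc) (OQ 𝒵) x s)
  exact ⟨r, val_ext ι h𝒵 h𝒳 (affineMor_of_closedImm hc) ((val_unitHom ι h𝒵 h𝒳 hc x r).trans hr)⟩

section Idem

variable {X X' : Scheme.{u}}

/-- A function which is one on `A` and zero off `A`. -/
def IsIndicator (A : Set X) (e : Γ(X, ⊤)) : Prop :=
  ∀ U : X.Opens, ((U : Set X) ⊆ A → X.presheaf.map (homOfLE le_top).op e = (1 : Γ(X, U))) ∧
    (Disjoint (U : Set X) A → X.presheaf.map (homOfLE le_top).op e = (0 : Γ(X, U)))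

theorem exists_indicator {A : Set X} (hA : IsClopen A) : ∃ e, IsIndicator A e := by
  let V : Bool → X.Opens := fun b => if b then ⟨A, hA.isOpen⟩ else ⟨Aᶜ, hA.compl.isOpen⟩
  let sf : ∀ b, Γ(X, V b) := fun b => if b then 1 else 0
  have hd : ∀ b b', b ≠ b' → V b ⊓ V b' = ⊥ := by
    intro b b' h
    apply TopologicalSpace.Opens.ext
    cases b <;> cases b' <;> simp_all [V]
  obtain ⟨e, he, -⟩ := X.sheaf.existsUnique_gluing' V ⊤ (fun b => homOfLE le_top)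
    (fun x _ => by
      rw [TopologicalSpace.Opens.mem_iSup]
      by_cases hx : x ∈ A
      · exact ⟨true, hx⟩
      · exact ⟨false, hx⟩) sf (fun b b' => by
      by_cases h : b = b'
      · subst h; rfl
      · have hs : Subsingleton Γ(X, V b ⊓ V b') := by
          rw [hd b b' h]
          exact CommRingCat.subsingleton_of_isTerminal X.sheaf.isTerminalOfEmpty
        exact @Subsingleton.elim _ hs _ _)
  refine ⟨e, fun U => ⟨fun hU => ?_, fun hU => ?_⟩⟩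
  · have h1 : X.presheaf.map (homOfLE le_top).op e = (1 : Γ(X, V true)) := he true
    have h2 : U ≤ V true := fun x hx => hU hx
    rw [show (homOfLE (le_top : U ≤ ⊤)).op = (homOfLE (le_top : V true ≤ ⊤)).op ≫ (homOfLE h2).op from rfl,
      Functor.map_comp, CommRingCat.comp_apply, h1, map_one]
  · have h1 : X.presheaf.map (homOfLE le_top).op e = (0 : Γ(X, V false)) := he false
    have h2 : U ≤ V false := fun x hx hxA => Set.disjoint_left.1 hU hx hxA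
    rw [show (homOfLE (le_top : U ≤ ⊤)).op = (homOfLE (le_top : V false ≤ ⊤)).op ≫ (homOfLE h2).op from rfl,
      Functor.map_comp, CommRingCat.comp_apply, h1, map_zero]

theorem IsIndicator.unique {A : Set X} (hA : IsClopen A) {e e' : Γ(X, ⊤)} (h : IsIndicator A e) (h' : IsIndicator A e') :
    e = e' := by
  refine X.sheaf.eq_of_locally_eq' (fun b : Bool => if b then ⟨A, hA.isOpen⟩ else ⟨Aᶜ, hA.compl.isOpen⟩) ⊤
    (fun b => homOfLE le_top) (fun x _ => ?_) e e' fun b => ?_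
  · rw [TopologicalSpace.Opens.mem_iSup]
    by_cases hx : x ∈ A
    · exact ⟨true, hx⟩
    · exact ⟨false, hx⟩
  · cases b
    · exact ((h _).2 (disjoint_compl_left)).trans ((h' _).2 (disjoint_compl_left)).symm
    · exact ((h _).1 subset_rfl).trans ((h' _).1 subset_rfl).symm

theorem IsIndicator.pullback {A : Set X} (hA : IsClopen A) {e : Γ(X, ⊤)} (h : IsIndicator A e) (g : X' ⟶ X) :
    IsIndicator (g ⁻¹' A) (g.appTop e) := by
  have key : ∀ (U : X'.Opens) (V : X.Opens) (hUV : U ≤ g ⁻¹ᵁ V),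
      X'.presheaf.map (homOfLE le_top).op (g.appTop e) =
        X'.presheaf.map (homOfLE hUV).op (g.app V (X.presheaf.map (homOfLE le_top).op e)) := by
    intro U V hUV
    rw [← CommRingCat.comp_apply (X.presheaf.map _) (g.app V), g.naturality, CommRingCat.comp_apply,
      ← CommRingCat.comp_apply (X'.presheaf.map _) (X'.presheaf.map _), ← Functor.map_comp]
    rfl
  refine fun U => ⟨fun hU => ?_, fun hU => ?_⟩
  · rw [key U ⟨A, hA.isOpen⟩ hU, (h _).1 subset_rfl, map_one, map_one]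
  · rw [key U ⟨Aᶜ, hA.compl.isOpen⟩ (fun x hx hxA => Set.disjoint_left.1 hU hx hxA), (h _).2 disjoint_compl_left,
      map_zero, map_zero]

theorem nontrivial_gamma (h : Nonempty X) : Nontrivial Γ(X, ⊤) := by
  by_contra hc
  rw [not_nontrivial_iff_subsingleton] at hc
  obtain ⟨x⟩ := h
  have hx : x ∈ X.basicOpen (1 : Γ(X, ⊤)) := by rw [Scheme.basicOpen_of_isUnit _ isUnit_one]; trivial
  rw [Subsingleton.elim (1 : Γ(X, ⊤)) 0, Scheme.basicOpen_zero] at hx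
  exact hx

theorem IsIndicator.eq_one {A : Set X} (hA : IsClopen A) {e : Γ(X, ⊤)} (h : IsIndicator A e) (hall : ∀ x, x ∈ A) :
    e = 1 := h.unique hA fun U => ⟨fun _ => map_one _, fun hU => by
  have : U = ⊥ := TopologicalSpace.Opens.ext (Set.eq_empty_of_forall_notMem fun x hx => Set.disjoint_left.1 hU hx (hall x))
  subst this
  haveI := CommRingCat.subsingleton_of_isTerminal X.sheaf.isTerminalOfEmpty
  exact Subsingleton.elim _ _⟩

theorem IsIndicator.eq_zero {A : Set X} (hA : IsClopen A) {e : Γ(X, ⊤)} (h : IsIndicator A e) (hall : ∀ x, x ∉ A) :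
    e = 0 := h.unique hA fun U => ⟨fun hU => by
  have : U = ⊥ := TopologicalSpace.Opens.ext (Set.eq_empty_of_forall_notMem fun x hx => hall x (hU hx))
  subst this
  haveI := CommRingCat.subsingleton_of_isTerminal X.sheaf.isTerminalOfEmpty
  exact Subsingleton.elim _ _, fun _ => map_zero _⟩

end Idem

section PointAt

variable {𝒴 : AlgSt.Cat S} (hf : IsFibGrpd 𝒳.p)

include hf in
/-- The object over the residue field of a point. -/
theorem exists_resObj (x : 𝒳.obj) (s : sch 𝒳 x) :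
    ∃ (y : 𝒳.obj) (φ : y ⟶ x)
      (e : 𝒳.p.obj y = Over.mk ((sch 𝒳 x).fromSpecResidueField s ≫ (𝒳.p.obj x).hom)),
      𝒳.p.map φ = eqToHom e ≫ Over.homMk ((sch 𝒳 x).fromSpecResidueField s) rfl :=
  fibGrpd_lift hf x (Over.homMk ((sch 𝒳 x).fromSpecResidueField s) rfl :
    Over.mk ((sch 𝒳 x).fromSpecResidueField s ≫ (𝒳.p.obj x).hom) ⟶ 𝒳.p.obj x)

/-- The residue field point. -/
def resFPt (x : 𝒳.obj) (s : sch 𝒳 x) : AlgSt.FPt 𝒳 where
  K := (sch 𝒳 x).residueField s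
  str := (sch 𝒳 x).fromSpecResidueField s ≫ (𝒳.p.obj x).hom
  obj := (exists_resObj hf x s).choose
  lies := (exists_resObj hf x s).choose_spec.choose_spec.choose

/-- The point of an object at a point of its scheme. -/
def pointAt (x : 𝒳.obj) (s : sch 𝒳 x) : AlgSt.Points 𝒳 := AlgSt.Points.mk (resFPt hf x s)

/-- The map of a residue field object. -/
def resMap (x : 𝒳.obj) (s : sch 𝒳 x) : (resFPt hf x s).obj ⟶ x := (exists_resObj hf x s).choose_spec.choose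

theorem resMap_p (x : 𝒳.obj) (s : sch 𝒳 x) : 𝒳.p.map (resMap hf x s) =
    eqToHom (resFPt hf x s).lies ≫ Over.homMk ((sch 𝒳 x).fromSpecResidueField s) rfl :=
  (exists_resObj hf x s).choose_spec.choose_spec.choose_spec

theorem pointAt_map {x' x : 𝒳.obj} (φ : x' ⟶ x) (s : sch 𝒳 x') :
    pointAt hf x' s = pointAt hf x (bmap 𝒳 φ s) := by
  let k : Over.mk ((sch 𝒳 x').fromSpecResidueField s ≫ (𝒳.p.obj x').hom) ⟶
      Over.mk ((sch 𝒳 x).fromSpecResidueField (bmap 𝒳 φ s) ≫ (𝒳.p.obj x).hom) :=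
    Over.homMk (Spec.map ((bmap 𝒳 φ).residueFieldMap s)) (by
      show _ ≫ _ ≫ _ = _ ≫ _
      rw [Scheme.Hom.SpecMap_residueFieldMap_fromSpecResidueField_assoc]
      exact congrArg ((sch 𝒳 x').fromSpecResidueField s ≫ ·) (Over.w (𝒳.p.map φ)))
  have hk : k ≫ Over.homMk ((sch 𝒳 x).fromSpecResidueField (bmap 𝒳 φ s)) rfl =
      Over.homMk ((sch 𝒳 x').fromSpecResidueField s) rfl ≫ 𝒳.p.map φ :=
    Over.OverMorphism.ext (Scheme.Hom.SpecMap_residueFieldMap_fromSpecResidueField _ s)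
  obtain ⟨m, -, -⟩ := fibGrpd_fac hf (resMap hf x (bmap 𝒳 φ s)) (resMap hf x' s ≫ φ)
    (eqToHom (resFPt hf x' s).lies ≫ k ≫ eqToHom (resFPt hf x (bmap 𝒳 φ s)).lies.symm) (by
      rw [𝒳.p.map_comp, resMap_p, resMap_p]
      simp [reassoc_of% hk, hk])
  exact AlgSt.Points.sound ⟨resFPt hf x' s, 𝟙 _, m, trivial⟩

theorem continuous_pointAt (h : AlgSt.IsAlgStack Scheme.fppfPrecoverage 𝒳) (x : 𝒳.obj) :
    Continuous (pointAt hf x) := by
  obtain ⟨y, i, hi⟩ := exists_classifying hf x (rfl : 𝒳.p.obj x = 𝒳.p.obj x)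
  let U := 𝒳.p.obj x
  have e : pointAt hf x = AlgSt.Points.ofChart y := funext fun s => by
    let h₀ : Over.mk (U.left.fromSpecResidueField s ≫ U.hom) ⟶ U := Over.homMk (U.left.fromSpecResidueField s) rfl
    let ψ : y.obj (Over.mk h₀) ⟶ x := y.map (toId (Over.mk h₀)) ≫ i.hom
    obtain ⟨m, -, -⟩ := fibGrpd_fac hf (resMap hf x s) ψ
      (eqToHom (y.w_obj (Over.mk h₀)) ≫ eqToHom (resFPt hf x s).lies.symm) (by
        rw [resMap_p]
        have h1 := @map_eq_of_vert _ _ _ _ 𝒳.p _ _ _ i.hom hi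
        simp only [ψ, Functor.map_comp, h1]
        rw [based_map y]
        simp [toId, h₀, U]
        rfl)
    exact (AlgSt.Points.sound ⟨_, 𝟙 _, m, trivial⟩).symm
  rw [e]
  exact continuous_ofChart h y

include hf in
theorem pointAt_field (p : AlgSt.FPt 𝒳) (x : 𝒳.obj) (ψ : p.obj ⟶ x) (hsub : Subsingleton (sch 𝒳 x))
    (s : sch 𝒳 x) : pointAt hf x s = AlgSt.Points.mk p := by
  have hne : Nonempty (sch 𝒳 p.obj) := by
    show Nonempty (𝒳.p.obj p.obj).left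
    rw [p.lies]
    exact inferInstanceAs (Nonempty (Spec (CommRingCat.of p.K)))
  let s' : sch 𝒳 p.obj := Classical.arbitrary _
  rw [← Subsingleton.elim (bmap 𝒳 ψ s') s, ← pointAt_map hf ψ s']
  exact AlgSt.Points.sound ⟨resFPt hf p.obj s', 𝟙 _, resMap hf p.obj s', trivial⟩

end PointAt

section Common

variable {M : AlgSp.Sp S} (hM : AlgSp.IsAlgSpace M) (π : 𝒳 ⥤ᵇ AlgSt.ofSp M) (hf : IsFibGrpd 𝒳.p)

theorem map₃ (M : AlgSp.Sp S) {A B C D : Over S} (u : A ⟶ B) (v : B ⟶ C) (x : C ⟶ D) (s : M.obj.obj (op D)) :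
    M.obj.map ((u ≫ v) ≫ x).op s = M.obj.map u.op (M.obj.map v.op (M.obj.map x.op s)) := by
  simp only [op_comp, Functor.map_comp_apply]

include hf in
theorem exists_side {T : Over S} {r : (AlgSt.ofSp M).obj} (η : (AlgSt.ofSp M).obj) (c : T ⟶ η.base) (k : T ⟶ r.base)
    (hc : M.obj.map c.op η.sec = M.obj.map k.op r.sec) (x : 𝒳.obj) (φ : r ⟶ π.obj x) :
    ∃ (y : 𝒳.obj) (_ : y ⟶ x) (e : 𝒳.p.obj y = T) (α : π.obj y ⟶ η), baseOver π y α = eqToHom e ≫ c := by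
  obtain ⟨y, ψ, e, hψ⟩ := fibGrpd_lift hf x (k ≫ φ.hom ≫ eqToHom (π.w_obj x))
  have hπ : (π.map ψ).hom = eqToHom (π.w_obj y) ≫ 𝒳.p.map ψ ≫ eqToHom (π.w_obj x).symm :=
    Functor.congr_hom π.w ψ
  have e3 : (π.map ψ).hom = ((eqToHom (π.w_obj y) : (π.obj y).base ⟶ 𝒳.p.obj y) ≫ eqToHom e) ≫ k ≫ φ.hom := by
    rw [hπ, hψ]
    simp
  have e4 : M.obj.map c.op η.sec = M.obj.map (k ≫ φ.hom).op (π.obj x).sec :=
    hc.trans ((congrArg (M.obj.map k.op) φ.map_sec.symm).trans (by simp only [op_comp, Functor.map_comp_apply]))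
  refine ⟨y, ψ, e, ⟨((eqToHom (π.w_obj y) : (π.obj y).base ⟶ 𝒳.p.obj y) ≫ eqToHom e) ≫ c, ?_⟩, ?_⟩
  · exact (map₃ M _ _ c η.sec).trans
      ((congrArg (fun s => M.obj.map (eqToHom (π.w_obj y) : (π.obj y).base ⟶ 𝒳.p.obj y).op
          (M.obj.map (eqToHom e).op s)) e4).trans
        ((map₃ M _ _ _ _).symm.trans
          ((congrArg (fun f => M.obj.map (Quiver.Hom.op f) (π.obj x).sec) e3.symm).trans (π.map ψ).map_sec)))
  · show eqToHom _ ≫ (_ ≫ eqToHom e) ≫ c = _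
    simp

theorem map₂ (M : AlgSp.Sp S) {A B C : Over S} (u : A ⟶ B) (v : B ⟶ C) (s : M.obj.obj (op C)) :
    M.obj.map (u ≫ v).op s = M.obj.map u.op (M.obj.map v.op s) := by
  simp only [op_comp, Functor.map_comp_apply]

theorem etaOf_sec_res (E : AlgSp.EtOver M) (v : E.obj.left.left) :
    (AlgSp.FieldPt.ofPt E.obj.hom v).val =
      M.obj.map (Over.homMk (E.obj.left.left.fromSpecResidueField v) rfl :
        Over.mk (E.obj.left.left.fromSpecResidueField v ≫ E.obj.left.hom) ⟶ E.obj.left).op (etaOf E).sec := by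
  let h₀ : Over.mk (E.obj.left.left.fromSpecResidueField v ≫ E.obj.left.hom) ⟶ E.obj.left :=
    Over.homMk (E.obj.left.left.fromSpecResidueField v) rfl
  have := congrArg (fun k => k ⟨𝟙 E.obj.left⟩) (E.obj.hom.hom.naturality h₀.op)
  refine Eq.trans ?_ this
  exact congrArg (E.obj.hom.hom.app _) (ULift.ext _ _ (Category.comp_id h₀).symm)

include hf in
theorem exists_point {r : (AlgSt.ofSp M).obj} (η : (AlgSt.ofSp M).obj) {Ω : Type u} [Field Ω]
    (w : Spec (CommRingCat.of Ω) ⟶ S) (c : Over.mk w ⟶ η.base) (k : Over.mk w ⟶ r.base)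
    (hc : M.obj.map c.op η.sec = M.obj.map k.op r.sec) (p : AlgSt.FPt 𝒳) (φ : r ⟶ π.obj p.obj) :
    ∃ (q : AlgSt.FPt 𝒳) (e : 𝒳.p.obj q.obj = Over.mk w) (α : π.obj q.obj ⟶ η),
      AlgSt.Points.mk q = AlgSt.Points.mk p ∧ baseOver π q.obj α = eqToHom e ≫ c := by
  obtain ⟨y, ψ, e, α, hα⟩ := exists_side π hf η c k hc p.obj φ
  let q : AlgSt.FPt 𝒳 := { K := Ω, str := w, obj := y, lies := e }
  exact ⟨q, e, α, AlgSt.Points.sound ⟨q, 𝟙 _, ψ, trivial⟩, hα⟩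

include hM hf in
theorem exists_common (p₁ p₂ : AlgSt.FPt 𝒳)
    (he : AlgSt.Points.map π (AlgSt.Points.mk p₁) = AlgSt.Points.map π (AlgSt.Points.mk p₂)) :
    ∃ (E : AlgSp.EtOver M) (_ : IsAffine E.obj.left.left) (Ω : Type u) (_ : Field Ω)
      (w : Spec (CommRingCat.of Ω) ⟶ S) (c : Over.mk w ⟶ E.obj.left) (q₁ q₂ : AlgSt.FPt 𝒳)
      (e₁ : 𝒳.p.obj q₁.obj = Over.mk w) (e₂ : 𝒳.p.obj q₂.obj = Over.mk w)
      (α₁ : π.obj q₁.obj ⟶ etaOf E) (α₂ : π.obj q₂.obj ⟶ etaOf E),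
      AlgSt.Points.mk q₁ = AlgSt.Points.mk p₁ ∧ AlgSt.Points.mk q₂ = AlgSt.Points.mk p₂ ∧
      baseOver π q₁.obj α₁ = eqToHom e₁ ≫ c ∧ baseOver π q₂.obj α₂ = eqToHom e₂ ≫ c := by
  rw [AlgSt.Points.map_mk, AlgSt.Points.map_mk] at he
  obtain ⟨r, φ₁, φ₂, -⟩ := (points_mk_eq_iff (setoid_ofSp M).1).1 he
  let qv : AlgSp.FieldPt M := ⟨r.K, r.str, M.obj.map (eqToHom r.lies.symm).op r.obj.sec⟩
  obtain ⟨E, hE, v, hv⟩ := AlgSpLib.QCohEt.exists_affine_chart hM (AlgSp.Points.mk qv)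
  obtain ⟨Ω, _, w, a, b, hab⟩ := AlgSp.Points.mk_eq_mk_iff.1 hv
  let c : Over.mk w ⟶ E.obj.left := a ≫ Over.homMk (E.obj.left.left.fromSpecResidueField v) rfl
  have hc : M.obj.map c.op (etaOf E).sec = M.obj.map (b ≫ eqToHom r.lies.symm).op r.obj.sec :=
    (map₂ M a _ _).trans ((congrArg (M.obj.map a.op) (etaOf_sec_res E v).symm).trans
      (hab.trans (map₂ M b _ _).symm))
  obtain ⟨q₁, e₁, α₁, hq₁, hα₁⟩ :=
    exists_point π hf (etaOf E) w c (b ≫ eqToHom r.lies.symm) hc p₁ (show r.obj ⟶ π.obj p₁.obj from φ₁)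
  obtain ⟨q₂, e₂, α₂, hq₂, hα₂⟩ :=
    exists_point π hf (etaOf E) w c (b ≫ eqToHom r.lies.symm) hc p₂ (show r.obj ⟶ π.obj p₂.obj from φ₂)
  exact ⟨E, hE, Ω, inferInstance, w, c, q₁, q₂, e₁, e₂, α₁, α₂, hq₁, hq₂, hα₁, hα₂⟩

theorem fullSub_down {Q : 𝒳.obj → Prop} (hiso : ObjectProperty.IsClosedUnderIsomorphisms Q)
    (hQf : IsFibGrpd (AlgSt.fullSub 𝒳 Q).p) (hX : IsFibGrpd 𝒳.p) ⦃a b : 𝒳.obj⦄ (φ : a ⟶ b) (hb : Q b) : Q a := by
  obtain ⟨a', φ', e, hφ'⟩ := fibGrpd_lift hQf (⟨b, hb⟩ : (AlgSt.fullSub 𝒳 Q).obj) (𝒳.p.map φ)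
  obtain ⟨m, ⟨hm, -⟩, -⟩ := fibGrpd_fac hX φ φ'.hom (eqToHom e) hφ'.symm
  haveI : IsIso (𝒳.p.map m) := by rw [hm]; infer_instance
  haveI := fibGrpd_isIso hX m
  exact hiso.of_iso (asIso m) a'.property

include hM in
theorem eq_of_isClosed (h𝒳 : AlgSt.IsAlgStack Scheme.fppfPrecoverage 𝒳) (h : StMod.IsCohAffine π)
    (hunit : StMod.UnitIsIso π) (Q : 𝒳.obj → Prop) (hQ : AlgSt.IsClosedSubstack 𝒳 Q Scheme.fppfPrecoverage)
    (x₁ x₂ : AlgSt.Points 𝒳) (hrange : Set.range (AlgSt.Points.map (AlgSt.subIncl 𝒳 Q)) = {x₁, x₂})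
    (h₁ : IsClosed ({x₁} : Set (AlgSt.Points 𝒳))) (h₂ : IsClosed ({x₂} : Set (AlgSt.Points 𝒳)))
    (he : AlgSt.Points.map π x₁ = AlgSt.Points.map π x₂) : x₁ = x₂ := by
  by_contra hne
  obtain ⟨hiso, halg, hcl⟩ := hQ
  let 𝒬 := AlgSt.fullSub 𝒳 Q
  let ι := AlgSt.subIncl 𝒳 Q
  have hX := h𝒳.isStack.1
  have hZ : IsFibGrpd 𝒬.p := halg.isStack.1
  have hdown : ∀ ⦃a b : 𝒳.obj⦄ (_ : a ⟶ b), Q b → Q a := fun a b φ => fullSub_down hiso hZ hX φ
  have hmem : ∀ (z : 𝒬.obj) (s : sch 𝒳 z.obj), pointAt hX z.obj s ∈ ({x₁, x₂} : Set (AlgSt.Points 𝒳)) := by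
    intro z s
    rw [← hrange]
    let p := resFPt hX z.obj s
    exact ⟨AlgSt.Points.mk ⟨p.K, p.str, ⟨p.obj, hdown (resMap hX z.obj s) z.property⟩, p.lies⟩, rfl⟩
  let A : ∀ z : 𝒬.obj, Set (sch 𝒬 z) := fun z => {s | pointAt hX z.obj s = x₁}
  have hA : ∀ z, IsClopen (A z) := fun z => by
    refine ⟨h₁.preimage (continuous_pointAt hX h𝒳 z.obj), ?_⟩
    have e : (A z)ᶜ = (pointAt hX z.obj) ⁻¹' {x₂} := by
      ext s
      constructor
      · intro hs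
        exact (hmem z s).resolve_left hs
      · intro hs hs'
        exact hne (hs'.symm.trans hs)
    exact isClosed_compl_iff.1 (e ▸ h₂.preimage (continuous_pointAt hX h𝒳 z.obj))
  choose idem hidem using fun z => exists_indicator (hA z)
  have hnat : ∀ {z' z : 𝒬.obj} (ψ : z' ⟶ z), (bmap 𝒬 ψ).appTop (idem z) = idem z' := by
    intro z' z ψ
    refine IsIndicator.unique (hA z') ?_ (hidem z')
    have e : bmap 𝒬 ψ ⁻¹' A z = A z' := Set.ext fun s => by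
      show pointAt hX z.obj (bmap 𝒬 ψ s) = x₁ ↔ pointAt hX z'.obj s = x₁
      rw [pointAt_map hX ψ.hom s]
      rfl
    exact e ▸ IsIndicator.pullback (hA z) (hidem z) (bmap 𝒬 ψ)
  obtain ⟨p₁, hp₁⟩ := AlgSt.Points.mk_surjective x₁
  obtain ⟨p₂, hp₂⟩ := AlgSt.Points.mk_surjective x₂
  subst hp₁ hp₂
  obtain ⟨E, hE, Ω, _, w, c, q₁, q₂, e₁, e₂, α₁, α₂, hq₁, hq₂, hα₁, hα₂⟩ := exists_common hM π hX p₁ p₂ he
  let hι := affineMor_of_closedImm hcl
  let G := AffineRep.pushQ ι hZ hX hι (OQ 𝒬)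
  let t : Mod.RelSect π G.obj (etaOf E) :=
    ⟨fun x _ => unval ι hZ hX hι (OQ 𝒬) x (idem (rad ι hX hι x)), fun x' x φ α => val_ext ι hZ hX hι (by
      rw [val_mapTop, val_unval, val_unval]
      exact hnat _)⟩
  obtain ⟨s, hs⟩ := h (unitHom ι hZ hX hcl) (isSurj_unitHom ι hZ hX hcl) E hE t
  obtain ⟨r₀, hr₀⟩ := (hunit E).2 s
  let x₀ : Γ(Spec (CommRingCat.of Ω), ⊤) := c.left.appTop r₀
  -- evaluation at a field object of the closed substack
  have key : ∀ (q : AlgSt.FPt 𝒳) (e : 𝒳.p.obj q.obj = Over.mk w) (α : π.obj q.obj ⟶ etaOf E)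
      (_ : baseOver π q.obj α = eqToHom e ≫ c) (_ : AlgSt.Points.mk q ∈ ({AlgSt.Points.mk p₁, AlgSt.Points.mk p₂} : Set _)),
      ∃ (z : 𝒬.obj) (g : sch 𝒬 z ⟶ Spec (CommRingCat.of Ω)), Nonempty (sch 𝒬 z) ∧ g.appTop x₀ = idem z ∧
        ∀ s₀, pointAt hX z.obj s₀ = AlgSt.Points.mk q := by
    intro q e α hα hq
    rw [← hrange] at hq
    obtain ⟨y, hy⟩ := hq
    obtain ⟨p', rfl⟩ := AlgSt.Points.mk_surjective y
    rw [AlgSt.Points.map_mk] at hy
    obtain ⟨r, a, b, -⟩ := (points_mk_eq_iff hX).1 hy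
    let z : 𝒬.obj := ⟨r.obj, hdown a p'.obj.property⟩
    let b' : ι.obj z ⟶ q.obj := b
    have hr : sch 𝒬 z = Spec (CommRingCat.of r.K) := congrArg Comma.left r.lies
    refine ⟨z, bmap 𝒳 b ≫ (eqToHom e).left, ?_, ?_, fun s₀ => ?_⟩
    · rw [hr]; infer_instance
    · have h1 : (baseOver ι z b').left = bmap 𝒳 b := by
        simp [baseOver, bmap, b']
      have h2 : bmap 𝒬 (adj ι hX hι b') ≫ pr ι hX hι q.obj = bmap 𝒳 b := by
        rw [bmap_comp_baseOver_left, adj_ctr]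
        exact h1
      have h3 : (pr ι hX hι q.obj).appTop ((baseOver π q.obj α).left.appTop r₀) = idem (rad ι hX hι q.obj) := by
        have := congrArg (fun k : Mod.RelSect π G.obj (etaOf E) => val ι hZ hX hι (OQ 𝒬) q.obj (k.1 q.obj α)) hs
        refine Eq.trans ?_ this
        rw [← hr₀]
        rfl
      rw [← hnat (adj ι hX hι b'), ← h3, hα]
      rw [← h2]
      simp only [x₀, Over.comp_left, Scheme.Hom.comp_appTop, CommRingCat.comp_apply]
      rfl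
    · haveI : Subsingleton (sch 𝒳 r.obj) := by
        show Subsingleton (𝒳.p.obj r.obj).left
        rw [r.lies]
        exact inferInstanceAs (Subsingleton (Spec (CommRingCat.of r.K)))
      exact (pointAt_field hX r r.obj (𝟙 _) ‹_› s₀).trans (AlgSt.Points.sound ⟨r, 𝟙 _, b, trivial⟩)
  obtain ⟨z₁, g₁, hz₁, hg₁, hp₁⟩ := key q₁ e₁ α₁ hα₁ (Or.inl hq₁)
  obtain ⟨z₂, g₂, hz₂, hg₂, hp₂⟩ := key q₂ e₂ α₂ hα₂ (Or.inr hq₂)
  rw [(hidem z₁).eq_one (hA z₁) fun s₀ => (hp₁ s₀).trans hq₁] at hg₁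
  rw [(hidem z₂).eq_zero (hA z₂) fun s₀ hs₀ => hne ((hs₀.symm.trans ((hp₂ s₀).trans hq₂)))] at hg₂
  haveI : Nontrivial Γ(sch 𝒬 z₁, ⊤) := nontrivial_gamma hz₁
  haveI : Nontrivial Γ(sch 𝒬 z₂, ⊤) := nontrivial_gamma hz₂
  have hf : IsField Γ(Spec (CommRingCat.of Ω), ⊤) :=
    (Scheme.ΓSpecIso (CommRingCat.of Ω)).commRingCatIsoToRingEquiv.toMulEquiv.isField (Field.toIsField Ω)
  letI := hf.toField
  have i₁ : x₀ = 1 := g₁.appTop.hom.injective (hg₁.trans (map_one _).symm)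
  rw [i₁, map_one] at hg₂
  exact one_ne_zero hg₂

end Common

end Groth.Agent.ResProp20.ClosedPts
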