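import Groth.Agent.QCohAff14.Chart
import Groth.Agent.Coherent.FiniteType
import Groth.Agent.Coherent.Existence.EssSurj
import Groth.Agent.DCat.PerfTensor
import Groth.Agent.CAlgH3.LocFreeFactor

/-! A family detecting zero among quasi-coherent targets has a finite jointly epimorphic subfamily. -/

set_option autoImplicit false
set_option backward.isDefEq.respectTransparency false
set_option backward.isDefEq.respectTransparency.types false
set_option linter.style.haveILetI false

universe w u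

open CategoryTheory CategoryTheory.Limits AlgebraicGeometry Opposite TopologicalSpace
open Groth.Agent.Coherent Groth.Agent.PicLib

noncomputable section

namespace Groth.Agent.ResProp20

variable {X : Scheme.{u}} [QuasiSeparatedSpace X] {K : Type w} {E : K → X.Modules} [∀ k, Coh.IsQCoh (E k)]
  (M : X.Modules) [Coh.IsQCoh M] (u : ∀ k, E k ⟶ M)
  (h : ∀ (N : X.Modules) (v : M ⟶ N), Coh.IsQCoh N → (∀ k, u k ≫ v = 0) → v = 0)

omit [QuasiSeparatedSpace X] in
/-- Algebraic form. -/
theorem exists_finset_moduleCat {R : Type u} [CommRing R] {A : K → ModuleCat.{u} R} {N₀ : ModuleCat.{u} R}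
    [Module.Finite R N₀] (f : ∀ k, A k ⟶ N₀)
    (hf : ∀ (Q : ModuleCat.{u} R) (q : N₀ ⟶ Q), (∀ k, f k ≫ q = 0) → q = 0) :
    ∃ s : Finset K, ∀ {F : ModuleCat.{u} R} (d : F ⟶ N₀), (∀ k ∈ s, ∃ a, a ≫ d = f k) →
      Function.Surjective d.hom := by
  let T : Submodule R N₀ := ⨆ k, LinearMap.range (f k).hom
  have hq := hf _ (ModuleCat.ofHom T.mkQ) fun k => ModuleCat.hom_ext (LinearMap.ext fun x =>
    (Submodule.Quotient.mk_eq_zero T).2 (Submodule.mem_iSup_of_mem k ⟨x, rfl⟩))
  have hT : (⊤ : Submodule R N₀) ≤ T := fun x _ =>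
    (Submodule.Quotient.mk_eq_zero T).1 (LinearMap.congr_fun (congrArg ModuleCat.Hom.hom hq) x)
  obtain ⟨s, hs⟩ := CompleteLattice.IsCompactElement.exists_finset_of_le_iSup (Submodule R N₀)
    ((Submodule.fg_iff_compact ⊤).1 Module.Finite.fg_top) (fun k => LinearMap.range (f k).hom) hT
  refine ⟨s, @fun F d hd => ?_⟩
  rw [← LinearMap.range_eq_top, eq_top_iff]
  refine hs.trans (iSup₂_le fun k hk => ?_)
  obtain ⟨a, ha⟩ := hd k hk
  rintro x ⟨y, rfl⟩
  exact ⟨a.hom y, LinearMap.congr_fun (congrArg ModuleCat.Hom.hom ha) y⟩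

include h in
theorem exists_finset_epi_affine (hM : CohB1.IsFT M) {U : X.Opens} (hU : IsAffineOpen U) :
    ∃ s : Finset K, ∀ {F : X.Modules} [Coh.IsQCoh F] (d : F ⟶ M),
      (∀ k ∈ s, ∃ a, a ≫ d = u k) → Function.Surjective (d.app U) := by
  let R := Scheme.Modules.restrictFunctor hU.fromSpec
  haveI := Flatn12.isQCoh_restrict_fromSpec' M hU
  haveI : ∀ k, IsIso ((E k).restrict hU.fromSpec).fromTildeΓ := fun k =>
    Flatn12.isQCoh_restrict_fromSpec' (E k) hU
  haveI : Module.Finite Γ(X, U) Γ(M, U) := finite_sections M (locallyFinGen_of_isFT M hM) hU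
  haveI : Module.Finite Γ(X, U) (moduleSpecΓFunctor (R := Γ(X, U)).obj (M.restrict hU.fromSpec)) :=
    Module.Finite.equiv (Flatn12.secEquiv hU M).symm
  obtain ⟨s, hs⟩ := exists_finset_moduleCat
    (fun k => moduleSpecΓFunctor (R := Γ(X, U)).map (R.map (u k))) fun Q q hq => by
      let θ : M.restrict hU.fromSpec ⟶ tilde Q := inv (M.restrict hU.fromSpec).fromTildeΓ ≫ tilde.map q
      let ad := Scheme.Modules.restrictAdjunction hU.fromSpec
      have hzero : ∀ L : X.Modules, ad.homEquiv L (tilde Q) 0 = 0 := fun L =>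
        (ad.homEquiv_unit L _ 0).trans (by rw [Functor.map_zero, comp_zero])
      have hθ : ∀ k, R.map (u k) ≫ θ = 0 := fun k => by
        refine (cancel_epi ((E k).restrict hU.fromSpec).fromTildeΓ).1 ?_
        have hn : tilde.map (moduleSpecΓFunctor (R := Γ(X, U)).map (R.map (u k))) ≫
            (M.restrict hU.fromSpec).fromTildeΓ = ((E k).restrict hU.fromSpec).fromTildeΓ ≫ R.map (u k) :=
          (tilde.adjunction (R := Γ(X, U))).counit.naturality (R.map (u k))
        rw [← Category.assoc, ← hn, Category.assoc, IsIso.hom_inv_id_assoc, ← tilde.map_comp, hq k, tilde.map_zero,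
          comp_zero]
      have hv : ad.homEquiv M _ θ = 0 := h _ _ (QCohAff14.isQCoh_chartPush hU Q) fun k => by
        rw [← Adjunction.homEquiv_naturality_left, hθ k, hzero]
      have hθ0 : θ = 0 := (ad.homEquiv M _).injective (hv.trans (hzero M).symm)
      have hq0 : tilde.map q = 0 :=
        (cancel_epi (inv (M.restrict hU.fromSpec).fromTildeΓ)).1 (hθ0.trans comp_zero.symm)
      exact (tilde.functor Γ(X, U)).map_injective (hq0.trans tilde.map_zero.symm)
  refine ⟨s, @fun F _ d hd => ?_⟩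
  have hsur : Function.Surjective (d.app (hU.fromSpec ''ᵁ ⊤)) :=
    hs (moduleSpecΓFunctor (R := Γ(X, U)).map (R.map d)) fun k hk => by
      obtain ⟨a, ha⟩ := hd k hk
      exact ⟨moduleSpecΓFunctor (R := Γ(X, U)).map (R.map a), by rw [← Functor.map_comp, ← Functor.map_comp, ha]⟩
  rwa [Scheme.Hom.image_top_eq_opensRange, IsAffineOpen.opensRange_fromSpec hU] at hsur

include h in
theorem exists_epi_finLocFree [CompactSpace X] (hM : CohB1.IsFT M) (hE : ∀ k, FlatMod.IsFinLocFree (E k)) :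
    ∃ (F : X.Modules) (π : F ⟶ M), FlatMod.IsFinLocFree F ∧ Epi π := by
  classical
  obtain ⟨t, ht, hcov⟩ : ∃ t : Finset X.Opens, (∀ U ∈ t, IsAffineOpen U) ∧ ∀ x : X, ∃ U ∈ t, x ∈ U := by
    choose U hU hx _ using fun x : X => exists_isAffineOpen_mem_and_subset (x := x) (U := (⊤ : X.Opens)) trivial
    obtain ⟨t, ht⟩ := isCompact_univ.elim_finite_subcover (fun x => (U x : Set X)) (fun x => (U x).2)
      (fun x _ => Set.mem_iUnion.2 ⟨x, hx x⟩)
    refine ⟨t.image U, fun V hV => ?_, fun x => ?_⟩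
    · obtain ⟨y, -, rfl⟩ := Finset.mem_image.1 hV
      exact hU y
    · obtain ⟨y, hy⟩ := Set.mem_iUnion₂.1 (ht (Set.mem_univ x))
      exact ⟨U y, Finset.mem_image_of_mem _ hy.1, hy.2⟩
  choose s hs using fun U : t => exists_finset_epi_affine M u h hM (ht U.1 U.2)
  let A := t.attach.biUnion s
  obtain ⟨n, ⟨e⟩⟩ := Finite.exists_equiv_fin A
  let d : (∐ fun i : Fin n => E (e.symm i).1) ⟶ M := Sigma.desc fun i => u (e.symm i).1
  have hF : FlatMod.IsFinLocFree (∐ fun i : Fin n => E (e.symm i).1) :=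
    DCat.PerfTensor.isFinLocFree_sigma _ fun i => hE _
  haveI := CAlgH3.LocFreeFactor.isQCoh_of_finLocFree hF
  refine ⟨_, d, hF, Coherent.Existence.epi_of_cover_surjective (fun U : t => U.1) (fun U => ht U.1 U.2)
    (fun x => let ⟨U, hU, hx⟩ := hcov x; ⟨⟨U, hU⟩, hx⟩) d fun U => hs U d fun k hk => ?_⟩
  have hkA : k ∈ A := Finset.mem_biUnion.2 ⟨U, Finset.mem_attach _ _, hk⟩
  have key : ∀ (a : A), ∃ b, b ≫ d = u a.1 := fun a => by
    obtain ⟨i, rfl⟩ := e.symm.surjective a
    exact ⟨Sigma.ι (fun i : Fin n => E (e.symm i).1) i, Sigma.ι_desc _ _⟩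
  exact key ⟨k, hkA⟩

end Groth.Agent.ResProp20
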