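import Groth.Agent.ResProp20.LocalBase
import Groth.Agent.StkDesc11.FamDescent
import Groth.Agent.StkDesc11.LocFreeBridge

/-! Finite local freeness descends along fppf base changes of the target. -/

set_option autoImplicit false
set_option backward.isDefEq.respectTransparency false
set_option backward.isDefEq.respectTransparency.types false
set_option linter.style.haveILetI false

universe u

open CategoryTheory CategoryTheory.Limits AlgebraicGeometry Opposite FibCat Groth.Agent.Desc19 Groth.Agent.Stk19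
open Groth.Agent.TameGood19
open StMod

noncomputable section

namespace Groth.Agent.ResProp20

variable {S : Scheme.{u}} {𝒳 𝒴 𝒲 : AlgSt.Cat S} {η : 𝒴.obj}

/-- A family of morphisms with a property stable under base change gives pieces with that property. -/
theorem exists_piece (h𝒴 : AlgSt.IsAlgStack Scheme.fppfPrecoverage 𝒴) (h𝒲 : IsFibGrpd 𝒲.p) (w : 𝒲 ⥤ᵇ 𝒴)
    {Q : MorphismProperty Scheme.{u}} [Q.RespectsIso] [Q.IsStableUnderBaseChange] [Q.IsStableUnderComposition]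
    (hopen : ∀ {A B : Scheme.{u}} (g : A ⟶ B) [IsOpenImmersion g], Q g) (hsm : @Smooth.{u} ≤ Q) (hfl : AlgSt.LocQ (AlgSp.LocP Q) w) {T : Over S} (yη : overCat T ⥤ᵇ 𝒴)
    (iη : yη.obj (Over.mk (𝟙 T)) ≅ η) (hT : 𝒴.p.obj η = T) (hiη : 𝒴.p.IsHomLift (𝟙 T) iη.hom) (t : T.left)
    (ht : ∃ q, AlgSt.Points.map w q = AlgSt.Points.ofChart yη t) :
    ∃ (η' : 𝒲.obj) (β : w.obj η' ⟶ η), IsAffine (sch 𝒲 η') ∧ Q (baseMap β).left ∧
      eqToHom (congrArg Comma.left hT.symm) t ∈ Set.range (baseMap β).left := by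
  subst hT
  obtain ⟨U, V, x, y, h, I, -, hxs, hy, hh⟩ := hfl
  have hQh : Q h.left := AlgSp.locP_yon_map hh
  obtain ⟨W, p, q, ⟨J⟩, hq, -, hsurj⟩ :=
    exists_chart_fp h𝒴.isStack.1 (x := y) yη (repByAlgSp1_of_with hy)
  obtain ⟨pt, hpt⟩ := ht
  obtain ⟨s, rfl⟩ := ofChart_surjective h𝒲 hxs pt
  rw [map_ofChart, ofChart_congr I, ofChart_overMap] at hpt
  obtain ⟨v, hv₁, hv₂⟩ := hsurj _ _ hpt
  haveI : Smooth q.left := hq AlgSpLib.etLocal_smooth hy
  obtain ⟨z, -, hz₂⟩ := Scheme.Pullback.exists_preimage_pullback (f := h.left) (g := p.left) s v hv₁.symm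
  obtain ⟨O, hO, hzO, -⟩ :=
    exists_isAffineOpen_mem_and_subset (x := z) (U := (⊤ : (pullback h.left p.left).Opens)) trivial
  let Z : Over S := Over.mk (O.ι ≫ pullback.fst h.left p.left ≫ U.hom)
  let o : Z ⟶ U := Over.homMk (O.ι ≫ pullback.fst _ _) (by simp [Z])
  let b : Z ⟶ W := Over.homMk (O.ι ≫ pullback.snd _ _) (by
    simp only [Z, Over.mk_hom, Category.assoc]
    rw [← Over.w h, ← Category.assoc (pullback.fst _ _), pullback.condition, Category.assoc, Over.w p])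
  have hob : o ≫ h = b ≫ p := Over.OverMorphism.ext (by simp [o, b, pullback.condition])
  let o' : (overCat U).obj := Over.mk o
  let b' : (overCat W).obj := Over.mk b
  have e₁ : (AlgSt.overMap h).obj o' = (AlgSt.overMap p).obj b' := congrArg (fun k => Over.mk k) hob
  let β : w.obj (x.obj o') ⟶ η := (Stk19.appIso I o').hom ≫ y.map (eqToHom e₁) ≫ (Stk19.appIso J b').hom ≫
    yη.map (toId ((AlgSt.overMap q).obj b')) ≫ iη.hom
  have hβ : baseMap β = eqToHom (x.w_obj o') ≫ (b ≫ q) := by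
    haveI := hiη
    have h1 : 𝒴.p.map (Stk19.appIso I o').hom = _ := based_app_map I.hom o'
    have h2 : 𝒴.p.map (Stk19.appIso J b').hom = _ := based_app_map J.hom b'
    have h3 := map_eq_of_vert 𝒴.p (R := 𝒴.p.obj η) iη.hom
    simp only [baseMap, StMod.baseOver, β, Functor.map_comp, h1, h2, h3, based_map y, based_map yη]
    simp [eqToHom_map]
    show eqToHom _ ≫ (eqToHom e₁).left ≫ b ≫ q = _
    rw [Over.eqToHom_left, eqToHom_trans_assoc]
  haveI : IsAffine (O : Scheme.{u}) := hO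
  refine ⟨x.obj o', β, ?_, ?_, ?_⟩
  · show IsAffine (𝒲.p.obj (x.obj o')).left
    rw [show 𝒲.p.obj (x.obj o') = Z from x.w_obj o']
    exact hO
  · rw [hβ, Over.comp_left, Over.eqToHom_left]
    refine (MorphismProperty.cancel_left_of_respectsIso Q _ _).2 ?_
    exact Q.comp_mem _ _ (Q.comp_mem _ _ (hopen O.ι) (MorphismProperty.pullback_snd _ _ hQh)) (hsm _ _ q.left (inferInstance : Smooth q.left))
  · rw [hβ]
    refine ⟨(eqToHom (congrArg Comma.left (x.w_obj o').symm) : Z.left ⟶ _) ⟨z, hzO⟩, ?_⟩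
    rw [← Scheme.Hom.comp_apply, Over.comp_left, Over.eqToHom_left, eqToHom_trans_assoc, eqToHom_refl]
    show q.left (pullback.snd h.left p.left (O.ι ⟨z, hzO⟩)) = t
    rw [← hv₂, ← hz₂]
    rfl

/-- Finite local freeness descends along an fppf family of base changes of the target. -/
theorem isFinLocFree_of_fppf {A : Type u} {𝒴' : A → AlgSt.Cat S} (h𝒳 : IsFibGrpd 𝒳.p)
    (h𝒴 : AlgSt.IsAlgStack Scheme.fppfPrecoverage 𝒴) (h𝒴' : ∀ a, IsFibGrpd (𝒴' a).p) (f : 𝒳 ⥤ᵇ 𝒴)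
    (u : ∀ a, 𝒴' a ⥤ᵇ 𝒴) (hfl : ∀ a, AlgSt.LocQ (AlgSp.LocP (@Flat ⊓ @LocallyOfFinitePresentation)) (u a))
    (hsurj : ∀ p : AlgSt.Points 𝒴, ∃ (a : A) (q : AlgSt.Points (𝒴' a)), AlgSt.Points.map (u a) q = p)
    (E : QCoh 𝒳)
    (hlf : ∀ a, ((comapQ (fpFst f (u a))).obj E).obj.IsLocFree ∧ ((comapQ (fpFst f (u a))).obj E).obj.IsFinType)
    (ξ : 𝒳.obj) : FlatMod.IsFinLocFree (E.obj.obj ξ) := by
  haveI : Coh.IsQCoh (E.obj.obj ξ) := E.property.2 ξ
  obtain ⟨yη, iη, hiη⟩ := Stk19.exists_classifying h𝒴.isStack.1 (f.obj ξ) (rfl : 𝒴.p.obj (f.obj ξ) = _)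
  have key : ∀ t : sch 𝒴 (f.obj ξ), ∃ (Y : Scheme.{u}) (g : Y ⟶ sch 𝒳 ξ), Flat g ∧ LocallyOfFinitePresentation g ∧
      (eqToHom (congrArg Comma.left (f.w_obj ξ)) : sch 𝒴 (f.obj ξ) ⟶ sch 𝒳 ξ) t ∈ Set.range g ∧
      FlatMod.IsFinLocFree ((Scheme.Modules.pullback g).obj (E.obj.obj ξ)) := by
    intro t
    obtain ⟨a, pt, hpt⟩ := hsurj (AlgSt.Points.ofChart yη t)
    obtain ⟨η', β, -, hQ, ht⟩ := exists_piece h𝒴 (h𝒴' a) (u a)
      (Q := @Flat ⊓ @LocallyOfFinitePresentation)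
      (fun g _ => ⟨inferInstance, inferInstance⟩) (fun _ _ g (_ : Smooth g) => ⟨inferInstance, inferInstance⟩)
      (hfl a) yη iη rfl hiη t ⟨pt, hpt⟩
    obtain ⟨ξ₁, l, el, hl⟩ := fibGrpd_lift h𝒳 ξ (baseMap β ≫ eqToHom (f.w_obj ξ))
    let ξ' : (fibCat f (f.obj ξ)).obj := CostructuredArrow.mk (f.map l)
    obtain ⟨z, hz, -⟩ := exists_lift β h𝒴.isStack.1 (h𝒴' a) ξ' (eqToHom el) (by
      show eqToHom el ≫ baseMap β = eqToHom (f.w_obj ξ₁).symm ≫ 𝒴.p.map (f.map l)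
      rw [based_map f, hl]
      simp)
    have hz₁ : z.left.obj.fst = ξ₁ := congrArg (fun k : (fibCat f (f.obj ξ)).obj => k.left) hz
    have hfree : FlatMod.IsFinLocFree (E.obj.obj ξ₁) :=
      hz₁ ▸ StkDesc11.isFinLocFree_of_isLocallyFree _ ((hlf a).1 z.left) ((hlf a).2 z.left)
    have hb : bmap 𝒳 l = eqToHom (congrArg Comma.left el) ≫ (baseMap β).left ≫
        eqToHom (congrArg Comma.left (f.w_obj ξ)) := by
      show (𝒳.p.map l).left = _
      rw [hl]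
      simp only [Over.comp_left, Over.eqToHom_left]
    haveI : IsIso (theta E.obj l rfl) := E.property.1 l rfl
    refine ⟨_, bmap 𝒳 l, ?_, ?_, ?_, fun x => ?_⟩
    · rw [hb]
      exact (MorphismProperty.cancel_left_of_respectsIso @Flat _ _).2
        ((MorphismProperty.cancel_right_of_respectsIso @Flat _ _).2 hQ.1)
    · rw [hb]
      exact (MorphismProperty.cancel_left_of_respectsIso @LocallyOfFinitePresentation _ _).2
        ((MorphismProperty.cancel_right_of_respectsIso @LocallyOfFinitePresentation _ _).2 hQ.2)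
    · obtain ⟨s, hs⟩ := ht
      refine ⟨(eqToHom (congrArg Comma.left el.symm) : _ ⟶ sch 𝒳 ξ₁) s, ?_⟩
      rw [hb, ← Scheme.Hom.comp_apply, eqToHom_trans_assoc, eqToHom_refl, Category.id_comp, Scheme.Hom.comp_apply, hs]
      rfl
    · obtain ⟨O, n, hx, ⟨e⟩⟩ := hfree x
      exact ⟨O, n, hx, ⟨(Scheme.Modules.restrictFunctor O.ι).mapIso (asIso (theta E.obj l rfl)) ≪≫ e⟩⟩
  choose Y g hg₁ hg₂ hg₃ hg₄ using key
  haveI : ∀ t, Flat (g t) := hg₁
  haveI : ∀ t, LocallyOfFinitePresentation (g t) := hg₂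
  refine StkDesc11.isFinLocFree_of_family g (fun t => (g t).isOpenMap) (fun t' => ?_) _ hg₄
  refine ⟨(eqToHom (congrArg Comma.left (f.w_obj ξ).symm) : sch 𝒳 ξ ⟶ sch 𝒴 (f.obj ξ)) t', ?_⟩
  have h := hg₃ ((eqToHom (congrArg Comma.left (f.w_obj ξ).symm) : sch 𝒳 ξ ⟶ sch 𝒴 (f.obj ξ)) t')
  rw [← Scheme.Hom.comp_apply, eqToHom_trans, eqToHom_refl] at h
  exact h

end Groth.Agent.ResProp20
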