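import Groth.Prelude.Def_StMod6
import Groth.Prelude.Def_AlgSt2
import Groth.Prelude.Def_AlgSp3
import Groth.Agent.Stk19.Glue
import Groth.Agent.AmpleLib.Generated
import Groth.Agent.Coherent.FiniteType

/-!
# The structure sheaf generates relative to a quasi-affine morphism of stacks
-/

set_option autoImplicit false
set_option backward.isDefEq.respectTransparency false
set_option backward.isDefEq.respectTransparency.types false
set_option linter.style.haveILetI false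

universe v w u

open CategoryTheory CategoryTheory.Limits AlgebraicGeometry Opposite FibCat Groth.Agent.Desc19 Groth.Agent.Stk19
open Groth.Agent.Coherent Groth.Agent.PicLib

noncomputable section

namespace Groth.Agent.ResProp20

variable {S : Scheme.{u}}

section Terminal

variable {𝒵 : BasedCategory.{v, w} (Over S)}

theorem unit_ext {X : Scheme.{u}} {M : X.Modules} {φ ψ : Coh.structureModule X ⟶ M}
    (h : unitVal φ ⊤ = unitVal ψ ⊤) : φ = ψ := by
  ext V r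
  rw [app_unit, app_unit, ← resM_unitVal φ (le_top : V ≤ ⊤), ← resM_unitVal ψ (le_top : V ≤ ⊤), h]

/-- The morphism from the structure sheaf attached to a compatible family of global sections. -/
def ofSect (F : StMod.Mod 𝒵) (s : ∀ ξ : 𝒵.obj, Γ(F.obj ξ, ⊤))
    (hs : ∀ ⦃ξ' ξ : 𝒵.obj⦄ (φ : ξ' ⟶ ξ), F.mapTop φ (s ξ) = s ξ') : StMod.O 𝒵 ⟶ F where
  app ξ := unitDesc (F.obj ξ) (s ξ)
  comm {ξ' ξ} φ g hg := by
    refine unit_ext ?_
    show (unitDesc (F.obj ξ') (s ξ')).app (g ⁻¹ᵁ ⊤) ((StMod.unitMap g).app ⊤ (1 : Γ(StMod.sch 𝒵 ξ, ⊤))) =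
      (F.map φ hg).app ⊤ ((unitDesc (F.obj ξ) (s ξ)).app ⊤ (1 : Γ(StMod.sch 𝒵 ξ, ⊤)))
    have h1 : unitVal (unitDesc (F.obj ξ) (s ξ)) ⊤ = s ξ := by rw [unitVal_unitDesc, resM_self]
    have h2 : unitVal (unitDesc (F.obj ξ') (s ξ')) ⊤ = s ξ' := by rw [unitVal_unitDesc, resM_self]
    rw [StMod.unitMap_app_apply]
    refine (congrArg ((unitDesc (F.obj ξ') (s ξ')).app (g ⁻¹ᵁ ⊤)) (map_one (g.app ⊤).hom)).trans ?_
    refine h2.trans (Eq.trans ?_ (congrArg ((F.map φ hg).app ⊤) h1).symm)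
    exact ((StMod.Mod.mapTop_eq F φ hg (s ξ)).symm.trans (hs φ)).symm

theorem ofSect_val (F : StMod.Mod 𝒵) (s : ∀ ξ : 𝒵.obj, Γ(F.obj ξ, ⊤))
    (hs : ∀ ⦃ξ' ξ : 𝒵.obj⦄ (φ : ξ' ⟶ ξ), F.mapTop φ (s ξ) = s ξ') (ξ : 𝒵.obj) :
    unitVal ((ofSect F s hs).app ξ) ⊤ = s ξ := by
  show unitVal (unitDesc (F.obj ξ) (s ξ)) ⊤ = s ξ
  rw [unitVal_unitDesc, resM_self]

theorem eq_zero_of_generated {X : Scheme.{u}} {M N : X.Modules} (hM : Curv2.IsGloballyGenerated M) (v : M ⟶ N)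
    (h : ∀ s : Γ(M, ⊤), v.app ⊤ s = 0) : v = 0 := by
  obtain ⟨ι, p, hp⟩ := hM
  have h0 : p ≫ v = 0 := by
    refine freeMod_hom_ext fun i => unit_ext ?_
    show v.app ⊤ ((freeInj i ≫ p).app ⊤ (1 : Γ(X, ⊤))) = _
    rw [h]
    simp [unitVal]
  exact (cancel_epi p).1 (h0.trans comp_zero.symm)

/-- Over a category with a terminal object under a quasi-affine scheme the structure sheaf is generating. -/
theorem eq_zero_of_terminal (x₀ : 𝒵.obj) (hx : IsTerminal x₀) [(StMod.sch 𝒵 x₀).IsQuasiAffine]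
    {M N : StMod.Mod 𝒵} (hMc : M.IsCartesian) (hMq : M.IsLocQCoh) (u : M ⟶ N)
    (h : ∀ φ : StMod.O 𝒵 ⟶ M, φ ≫ u = 0) : u = 0 := by
  haveI := hMq x₀
  have h0 : u.app x₀ = 0 := by
    refine eq_zero_of_generated (AmpleLib.globallyGenerated_of_isQuasiAffine _) _ fun s => ?_
    let t : ∀ ξ : 𝒵.obj, Γ(M.obj ξ, ⊤) := fun ξ => M.mapTop (hx.from ξ) s
    have ht : ∀ ⦃ξ' ξ : 𝒵.obj⦄ (φ : ξ' ⟶ ξ), M.mapTop φ (t ξ) = t ξ' := fun ξ' ξ φ => by
      show M.mapTop φ (M.mapTop (hx.from ξ) s) = M.mapTop (hx.from ξ') s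
      rw [← StMod.Mod.mapTop_comp, hx.hom_ext (φ ≫ hx.from ξ) (hx.from ξ')]
    have hts : t x₀ = s := by
      show M.mapTop (hx.from x₀) s = s
      rw [hx.hom_ext (hx.from x₀) (𝟙 x₀), StMod.Mod.mapTop_id]
    have hz := congrArg (fun k : StMod.O 𝒵 ⟶ N => unitVal (k.app x₀) ⊤) (h (ofSect M t ht))
    have hv := ofSect_val M t ht x₀
    rw [hts] at hv
    rw [← hv]
    exact hz.trans (by simp [unitVal])
  refine StMod.Mod.hom_ext fun ξ => ?_
  let m := hx.from ξ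
  let adj := Scheme.Modules.pullbackPushforwardAdjunction (StMod.bmap 𝒵 m)
  haveI : IsIso ((adj.homEquiv (M.obj x₀) (M.obj ξ)).symm (M.map m rfl)) := hMc m rfl
  have hn : M.map m rfl ≫ (Scheme.Modules.pushforward (StMod.bmap 𝒵 m)).map (u.app ξ) = 0 := by
    rw [u.comm m rfl, h0, zero_comp]
  have hz : (adj.homEquiv (M.obj x₀) (M.obj ξ)).symm (M.map m rfl) ≫ u.app ξ = 0 := by
    rw [← adj.homEquiv_naturality_right_symm, hn]
    simp [Adjunction.homEquiv_counit]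
  simpa using (cancel_epi ((adj.homEquiv (M.obj x₀) (M.obj ξ)).symm (M.map m rfl))).1 (hz.trans comp_zero.symm)

end Terminal

section Main

variable {𝒳 𝒴 : AlgSt.Cat S}

theorem exists_terminal (h𝒴 : IsFibGrpd 𝒴.p) {f : 𝒳 ⥤ᵇ 𝒴}
    (hf : AlgSt.RepByAlgSpWith AlgSp.IsQuasiAffineMor f) (η : 𝒴.obj) (hη : IsAffine (StMod.sch 𝒴 η)) :
    ∃ x₀ : (StMod.fibCat f η).obj, Nonempty (IsTerminal x₀) ∧ (StMod.sch (StMod.fibCat f η) x₀).IsQuasiAffine := by
  let U : Over S := 𝒴.p.obj η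
  obtain ⟨y, i, hi⟩ := exists_classifying h𝒴 η (rfl : 𝒴.p.obj η = U)
  haveI := hi
  obtain ⟨F, e, he, ha⟩ := hf U y
  obtain ⟨W, iW, fst, sq, hW⟩ := ha (show IsAffine U.left from hη) (𝟙 _)
  haveI : IsIso fst := sq.isIso_fst_of_isIso
  let T₀ : (AlgSt.ofSp F.obj).obj := ⟨W, fst.hom.app (op W) ⟨𝟙 W⟩⟩
  have hfst : ∀ (T : Over S) (g : T ⟶ W), F.obj.obj.map g.op T₀.sec = fst.hom.app (op T) ⟨g⟩ := fun T g => by
    have := congrArg (fun k => k ⟨𝟙 W⟩) (fst.hom.naturality g.op)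
    refine (this.symm).trans ?_
    exact congrArg (fst.hom.app (op T)) (ULift.ext _ _ (Category.comp_id g))
  let hT₀ : IsTerminal T₀ := IsTerminal.ofUniqueHom
    (fun a => ⟨((inv fst).hom.app (op a.base) a.sec).down, by
      refine (hfst _ _).trans ?_
      exact congrArg (fun k : F.obj ⟶ F.obj => k.hom.app (op a.base) a.sec) (IsIso.inv_hom_id fst)⟩)
    (fun a m => Stk.EltObj.hom_ext (by
      have h1 := congrArg ((inv fst).hom.app (op a.base)) ((hfst a.base m.hom).symm.trans m.map_sec)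
      have h2 : (inv fst).hom.app (op a.base) (fst.hom.app (op a.base) ⟨m.hom⟩) = ⟨m.hom⟩ :=
        congrArg (fun k : (AlgSp.yon S).obj W ⟶ (AlgSp.yon S).obj W => k.hom.app (op a.base) ⟨m.hom⟩)
          (IsIso.hom_inv_id fst)
      exact congrArg ULift.down (h2.symm.trans h1)))
  haveI := isEquivalence_of_isEquivOver he
  let P : (fp y f).obj := e.obj T₀
  let hP : IsTerminal P := IsTerminal.isTerminalObj e.toFunctor T₀ hT₀
  have hPs : 𝒳.p.obj P.obj.snd = P.obj.fst.left := (fpSnd y f).w_obj P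
  let cU : (overCat U).obj := Over.mk (𝟙 U)
  let α₀ : f.obj P.obj.snd ⟶ η := P.obj.iso.inv ≫ y.map (toId P.obj.fst) ≫ i.hom
  have hqa : (StMod.sch 𝒳 P.obj.snd).IsQuasiAffine := by
    have h2 : (fp y f).p.obj P = W := e.w_obj T₀
    show (𝒳.p.obj P.obj.snd).left.IsQuasiAffine
    rw [hPs.trans h2]
    exact hW
  have hmi : 𝒴.p.map i.hom = eqToHom (y.w_obj cU) := map_eq_of_vert 𝒴.p (R := U) i.hom
  have hta : ∀ a : (overCat U).obj, 𝒴.p.map (y.map (toId a) ≫ i.hom) = eqToHom (y.w_obj a) ≫ a.hom := fun a => by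
    rw [Functor.map_comp, based_map y, hmi]
    simp
  haveI hPiso : 𝒴.p.IsHomLift (𝟙 P.obj.fst.left) P.obj.iso.hom := P.property
  have hmP : 𝒴.p.map P.obj.iso.hom = eqToHom ((y.w_obj _).trans (((f.w_obj _).trans hPs).symm)) :=
    map_eq_of_vert 𝒴.p (R := P.obj.fst.left) P.obj.iso.hom
  have hb : eqToHom hPs.symm ≫ StMod.baseOver f P.obj.snd α₀ = P.obj.fst.hom := by
    have h1 : 𝒴.p.map P.obj.iso.hom ≫ 𝒴.p.map α₀ = 𝒴.p.map (y.map (toId P.obj.fst) ≫ i.hom) := by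
      rw [← Functor.map_comp, Iso.hom_inv_id_assoc]
    rw [hta, hmP] at h1
    have h2 := congrArg (fun k => eqToHom (y.w_obj P.obj.fst).symm ≫ k) h1
    simpa [StMod.baseOver] using h2
  let x₀ : (StMod.fibCat f η).obj := CostructuredArrow.mk α₀
  refine ⟨x₀, ⟨?_⟩, hqa⟩
  -- an object over `η` as an object of the fibre product
  let a : (StMod.fibCat f η).obj → (overCat U).obj := fun x => Over.mk (StMod.baseOver f x.left x.hom)
  have hι : ∀ x : (StMod.fibCat f η).obj, ∃ ι : y.obj (a x) ≅ f.obj x.left,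
      𝒴.p.map ι.hom = eqToHom ((y.w_obj (a x)).trans (f.w_obj x.left).symm) ∧
        ι.hom ≫ x.hom = y.map (toId (a x)) ≫ i.hom := fun x => by
    obtain ⟨g, ⟨hg1, hg2⟩, -⟩ := fibGrpd_fac h𝒴 x.hom (y.map (toId (a x)) ≫ i.hom)
      (eqToHom ((y.w_obj (a x)).trans (f.w_obj x.left).symm)) (by
        rw [hta]
        simp [a, StMod.baseOver])
    obtain ⟨g', ⟨hg1', hg2'⟩, -⟩ := fibGrpd_fac h𝒴 (y.map (toId (a x)) ≫ i.hom) x.hom
      (eqToHom ((y.w_obj (a x)).trans (f.w_obj x.left).symm).symm) (by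
        rw [hta]
        simp [a, StMod.baseOver])
    refine ⟨⟨g, g', fibGrpd_ext h𝒴 (y.map (toId (a x)) ≫ i.hom) ?_ ?_, fibGrpd_ext h𝒴 x.hom ?_ ?_⟩, hg1, hg2⟩
    · rw [Functor.map_comp, hg1, hg1']; simp
    · rw [Category.assoc, hg2', hg2, Category.id_comp]
    · rw [Functor.map_comp, hg1, hg1']; simp
    · rw [Category.assoc, hg2, hg2', Category.id_comp]
  choose ι hι₁ hι₂ using hι
  let X : (StMod.fibCat f η).obj → (fp y f).obj := fun x =>
    ⟨⟨a x, x.left, ι x⟩, vert_change 𝒴.p _ (vert_of_map_eq 𝒴.p (hι₁ x)) (y.w_obj (a x))⟩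
  refine IsTerminal.ofUniqueHom (fun x => CostructuredArrow.homMk (hP.from (X x)).hom.snd ?_) fun x m => ?_
  · let t := (hP.from (X x)).hom
    have w : y.map t.fst ≫ P.obj.iso.hom = (ι x).hom ≫ f.map t.snd := t.w
    refine (Iso.cancel_iso_hom_left (ι x) _ _).1 ?_
    show (ι x).hom ≫ f.map t.snd ≫ α₀ = (ι x).hom ≫ x.hom
    rw [← reassoc_of% w, hι₂]
    simp only [α₀, Iso.hom_inv_id_assoc]
    rw [← Functor.map_comp_assoc, toId_natural]
  · have hm : f.map m.left ≫ α₀ = x.hom := CostructuredArrow.w m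
    have hbm : 𝒳.p.map m.left ≫ StMod.baseOver f P.obj.snd α₀ = StMod.baseOver f x.left x.hom :=
      (StMod.map_comp_baseOver f m.left α₀).trans (congrArg (StMod.baseOver f x.left) hm)
    let k : a x ⟶ P.obj.fst := Over.homMk (𝒳.p.map m.left ≫ eqToHom hPs) (by
      rw [← hb]; simpa [a] using hbm)
    let f' : X x ⟶ P := ObjectProperty.homMk
      { fst := k
        snd := m.left
        w := fibGrpd_ext h𝒴 α₀ (by
            rw [Functor.map_comp, Functor.map_comp, based_map y, based_map f, hmP, hι₁]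
            simp [k, a])
          (by
            show (y.map k ≫ P.obj.iso.hom) ≫ α₀ = ((ι x).hom ≫ f.map m.left) ≫ α₀
            rw [Category.assoc ((ι x).hom), hm, hι₂]
            simp only [α₀, Category.assoc, Iso.hom_inv_id_assoc]
            rw [← Functor.map_comp_assoc, toId_natural]) }
    refine CostructuredArrow.hom_ext _ _ ?_
    exact congrArg (fun r => r.hom.snd) (hP.hom_ext f' (hP.from (X x)))

theorem isRelGenFam_O (h𝒴 : AlgSt.IsAlgStack Scheme.fppfPrecoverage 𝒴) {f : 𝒳 ⥤ᵇ 𝒴}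
    (hf : AlgSt.RepByAlgSpWith AlgSp.IsQuasiAffineMor f) :
    StMod.IsRelGenFam f (fun _ : PUnit.{u + 1} => StMod.OQ 𝒳) := by
  intro η hη
  obtain ⟨x₀, ⟨hx⟩, hqa⟩ := exists_terminal h𝒴.isStack.1 hf η hη
  rw [StMod.isGenFam_iff]
  intro M N u hu
  refine InducedCategory.hom_ext ?_
  refine eq_zero_of_terminal x₀ hx M.property.1 M.property.2 u.hom fun φ => ?_
  have h := hu PUnit.unit ((StMod.comapOIso (StMod.fibFst f η)).hom ≫ φ)
  have h' : (StMod.comapOIso (StMod.fibFst f η)).hom ≫ (φ ≫ u.hom) = 0 := (Category.assoc _ _ _).symm.trans h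
  exact (cancel_epi (StMod.comapOIso (StMod.fibFst f η)).hom).1 (h'.trans comp_zero.symm)

end Main

end Groth.Agent.ResProp20
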