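import Groth.Agent.ResProp20.Atlas
import Groth.Agent.TameGood19.Sections
import Groth.Agent.Desc19b.QDesc.FF
import Groth.Agent.AmpleLib.Generated
import Groth.Agent.ResProp20.QuasiAffine

/-! Morphisms of quasi-coherent modules on a category over schemes are determined by, and extend from, an atlas. -/

set_option autoImplicit false
set_option backward.isDefEq.respectTransparency false
set_option backward.isDefEq.respectTransparency.types false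
set_option linter.style.haveILetI false

universe u

open CategoryTheory CategoryTheory.Limits AlgebraicGeometry Opposite FibCat Groth.Agent.Desc19 Groth.Agent.Stk19
open Groth.Agent.Coherent Groth.Agent.PicLib Groth.Agent.Desc19b.QDesc Groth.Agent.TameGood19
open StMod

noncomputable section

namespace Groth.Agent.ResProp20

variable {S : Scheme.{u}} {𝒵 : AlgSt.Cat S}

/-- Compatibility of morphisms of restrictions along an arrow. -/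
def Rel (E M : Mod 𝒵) {ξ' ξ : 𝒵.obj} (r : ξ' ⟶ ξ) (ψ : E.obj ξ ⟶ M.obj ξ) (χ : E.obj ξ' ⟶ M.obj ξ') : Prop :=
  E.map r rfl ≫ (Scheme.Modules.pushforward (bmap 𝒵 r)).map χ = ψ ≫ M.map r rfl

theorem rel_iff_theta (E M : Mod 𝒵) {ξ' ξ : 𝒵.obj} (r : ξ' ⟶ ξ) (ψ : E.obj ξ ⟶ M.obj ξ) (χ : E.obj ξ' ⟶ M.obj ξ') :
    Rel E M r ψ χ ↔ theta E r rfl ≫ χ = (Scheme.Modules.pullback (bmap 𝒵 r)).map ψ ≫ theta M r rfl := by
  let adj := Scheme.Modules.pullbackPushforwardAdjunction (bmap 𝒵 r)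
  have h1 : adj.homEquiv _ _ (theta E r rfl ≫ χ) = E.map r rfl ≫ (Scheme.Modules.pushforward (bmap 𝒵 r)).map χ := by
    rw [adj.homEquiv_naturality_right]
    exact congrArg (· ≫ _) (Equiv.apply_symm_apply _ _)
  have h2 : adj.homEquiv _ _ ((Scheme.Modules.pullback (bmap 𝒵 r)).map ψ ≫ theta M r rfl) = ψ ≫ M.map r rfl := by
    rw [adj.homEquiv_naturality_left]
    exact congrArg (ψ ≫ ·) (Equiv.apply_symm_apply _ _)
  unfold Rel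
  rw [← h1, ← h2]
  exact (adj.homEquiv _ _).injective.eq_iff

theorem rel_of_hom {E M : Mod 𝒵} (φ : E ⟶ M) {ξ' ξ : 𝒵.obj} (r : ξ' ⟶ ξ) : Rel E M r (φ.app ξ) (φ.app ξ') :=
  φ.comm r rfl

theorem rel_app {E M : Mod 𝒵} {ξ' ξ : 𝒵.obj} {r : ξ' ⟶ ξ} {ψ : E.obj ξ ⟶ M.obj ξ} {χ : E.obj ξ' ⟶ M.obj ξ'}
    (h : Rel E M r ψ χ) (e : Γ(E.obj ξ, ⊤)) : χ.app ⊤ (E.mapTop r e) = M.mapTop r (ψ.app ⊤ e) := by
  have h' := congrArg (fun k => Scheme.Modules.Hom.app k ⊤ e) h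
  simp only [Scheme.Modules.Hom.comp_app, Scheme.Modules.pushforward_map_app] at h'
  exact h'

theorem rel_comp {E M : Mod 𝒵} {ξ'' ξ' ξ : 𝒵.obj} {s : ξ'' ⟶ ξ'} {r : ξ' ⟶ ξ} {ψ : E.obj ξ ⟶ M.obj ξ}
    {χ : E.obj ξ' ⟶ M.obj ξ'} {ρ : E.obj ξ'' ⟶ M.obj ξ''} (h₁ : Rel E M r ψ χ) (h₂ : Rel E M s χ ρ) :
    Rel E M (s ≫ r) ψ ρ := by
  unfold Rel at *
  have key : ∀ {g : sch 𝒵 ξ'' ⟶ sch 𝒵 ξ} (hg : bmap 𝒵 (s ≫ r) = g) (_ : g = bmap 𝒵 s ≫ bmap 𝒵 r),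
      E.map (s ≫ r) hg ≫ (Scheme.Modules.pushforward g).map ρ = ψ ≫ M.map (s ≫ r) hg := by
    intro g hg eg
    subst eg
    rw [E.map_comp s r rfl rfl, M.map_comp s r rfl rfl]
    simp only [Category.assoc]
    rw [← reassoc_of% h₁, ← Functor.map_comp_assoc]
    congr 1
    rw [← h₂, Functor.map_comp, Category.assoc]
    exact congrArg (_ ≫ ·) ((Scheme.Modules.pushforwardComp (bmap 𝒵 s) (bmap 𝒵 r)).hom.naturality ρ).symm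
  exact key rfl (bmap_comp s r)

variable {E M : QCoh 𝒵}

theorem exists_rel {ξ' ξ : 𝒵.obj} (r : ξ' ⟶ ξ) (ψ : E.obj.obj ξ ⟶ M.obj.obj ξ) :
    ∃ χ, Rel E.obj M.obj r ψ χ := by
  haveI : IsIso (theta E.obj r rfl) := E.property.1 r rfl
  exact ⟨inv (theta E.obj r rfl) ≫ (Scheme.Modules.pullback (bmap 𝒵 r)).map ψ ≫ theta M.obj r rfl,
    (rel_iff_theta _ _ _ _ _).2 (IsIso.hom_inv_id_assoc _ _)⟩

theorem rel_right_unique {ξ' ξ : 𝒵.obj} {r : ξ' ⟶ ξ} {ψ : E.obj.obj ξ ⟶ M.obj.obj ξ}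
    {χ χ' : E.obj.obj ξ' ⟶ M.obj.obj ξ'} (h : Rel E.obj M.obj r ψ χ) (h' : Rel E.obj M.obj r ψ χ') : χ = χ' := by
  haveI : IsIso (theta E.obj r rfl) := E.property.1 r rfl
  exact (cancel_epi (theta E.obj r rfl)).1 (((rel_iff_theta _ _ _ _ _).1 h).trans ((rel_iff_theta _ _ _ _ _).1 h').symm)

/-- A morphism of restrictions to an affine object is determined on the pulled back sections. -/
theorem rel_of_app {ξ' ξ : 𝒵.obj} [IsAffine (sch 𝒵 ξ)] {r : ξ' ⟶ ξ} {ψ : E.obj.obj ξ ⟶ M.obj.obj ξ}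
    {χ : E.obj.obj ξ' ⟶ M.obj.obj ξ'} (h : ∀ e, χ.app ⊤ (E.obj.mapTop r e) = M.obj.mapTop r (ψ.app ⊤ e)) :
    Rel E.obj M.obj r ψ χ := by
  haveI : Coh.IsQCoh (E.obj.obj ξ) := E.property.2 ξ
  refine sub_eq_zero.1 (eq_zero_of_generated (AmpleLib.globallyGenerated_of_isQuasiAffine _) _ fun e => ?_)
  exact sub_eq_zero.2 (h e)

theorem cov_bmap {ζ ξ : 𝒵.obj} {n : ζ ⟶ ξ} (h : IsCov n) : Cov (fun _ : PUnit.{u + 1} => bmap 𝒵 n) := by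
  haveI := h.1
  haveI := h.2
  exact cov_single _

theorem rel_left_unique {ζ ξ : 𝒵.obj} {n : ζ ⟶ ξ} (hn : IsCov n) {ψ ψ' : E.obj.obj ξ ⟶ M.obj.obj ξ}
    {χ : E.obj.obj ζ ⟶ M.obj.obj ζ} (h : Rel E.obj M.obj n ψ χ) (h' : Rel E.obj M.obj n ψ' χ) : ψ = ψ' := by
  haveI : IsIso (theta M.obj n rfl) := M.property.1 n rfl
  haveI : Coh.IsQCoh (M.obj.obj ξ) := M.property.2 ξ
  refine map_injective (cov_bmap hn) fun _ => (cancel_mono (theta M.obj n rfl)).1 ?_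
  exact ((rel_iff_theta _ _ _ _ _).1 h).symm.trans ((rel_iff_theta _ _ _ _ _).1 h')

theorem theta_comp_name (F : Mod 𝒵) {b a ξ : 𝒵.obj} (l : b ⟶ a) (n : a ⟶ ξ) {h : sch 𝒵 b ⟶ sch 𝒵 a}
    (hh : bmap 𝒵 l = h) {q : sch 𝒵 b ⟶ sch 𝒵 ξ} (hk : h ≫ bmap 𝒵 n = q) {m : b ⟶ ξ} (hm : l ≫ n = m) :
    (Scheme.Modules.pullback h).map (theta F n rfl) ≫ theta F l hh =
      mcI (bmap 𝒵 n) h q hk (F.obj ξ) ≫ theta F m (g := q) (by rw [← hm, bmap_comp, hh, hk]) := by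
  subst hk hm
  exact theta_comp F l n hh rfl

variable (hZ : IsFibGrpd 𝒵.p)
include hZ

theorem exists_descend {ζ ξ : 𝒵.obj} (n : ζ ⟶ ξ) (hn : IsCov n) (χ : E.obj.obj ζ ⟶ M.obj.obj ζ)
    (hχ : ∀ (b : 𝒵.obj) (l k : b ⟶ ζ), l ≫ n = k ≫ n →
      ∃ ρ, Rel E.obj M.obj l χ ρ ∧ Rel E.obj M.obj k χ ρ) :
    ∃ ψ, Rel E.obj M.obj n ψ χ := by
  haveI : Coh.IsQCoh (M.obj.obj ξ) := M.property.2 ξ
  haveI : IsIso (theta M.obj n rfl) := M.property.1 n rfl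
  let g := bmap 𝒵 n
  let α : (Scheme.Modules.pullback g).obj (E.obj.obj ξ) ⟶ (Scheme.Modules.pullback g).obj (M.obj.obj ξ) :=
    theta E.obj n rfl ≫ χ ≫ inv (theta M.obj n rfl)
  -- the overlap as an object
  let P : Over S := Over.mk (pullback.fst g g ≫ (𝒵.p.obj ζ).hom)
  let p₁ : P ⟶ 𝒵.p.obj ζ := Over.homMk (pullback.fst g g) rfl
  let p₂ : P ⟶ 𝒵.p.obj ζ := Over.homMk (pullback.snd g g) (by
    show pullback.snd g g ≫ (𝒵.p.obj ζ).hom = pullback.fst g g ≫ (𝒵.p.obj ζ).hom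
    rw [← Over.w (𝒵.p.map n), ← Category.assoc, ← Category.assoc, pullback.condition])
  obtain ⟨b, l, eb, hl⟩ := fibGrpd_lift hZ ζ p₁
  obtain ⟨k, ⟨hk, hkn⟩, -⟩ := fibGrpd_fac hZ n (l ≫ n) (eqToHom eb ≫ p₂) (by
    rw [𝒵.p.map_comp, hl, Category.assoc, Category.assoc]
    congr 1
    exact Over.OverMorphism.ext pullback.condition.symm)
  obtain ⟨ρ, hρl, hρk⟩ := hχ b l k hkn.symm
  have key : ∀ (Z : Scheme.{u}) (eZ : sch 𝒵 b = Z) (z z' : Z ⟶ sch 𝒵 ζ) (q : Z ⟶ sch 𝒵 ξ)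
      (_ : bmap 𝒵 l = eqToHom eZ ≫ z) (_ : bmap 𝒵 k = eqToHom eZ ≫ z') (hz : z ≫ g = q) (hz' : z' ≫ g = q),
      (Scheme.Modules.pullback z).map α ≫ mcI g z q hz (M.obj.obj ξ) ≫ mcH g z' q hz' (M.obj.obj ξ) =
        (mcI g z q hz (E.obj.obj ξ) ≫ mcH g z' q hz' (E.obj.obj ξ)) ≫ (Scheme.Modules.pullback z').map α := by
    intro Z eZ z z' q hl' hk' hz hz'
    subst eZ
    simp only [eqToHom_refl, Category.id_comp] at hl' hk'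
    subst hl' hk'
    have hq : bmap 𝒵 (l ≫ n) = q := (bmap_comp l n).trans hz
    haveI : IsIso (theta M.obj (l ≫ n) hq) := M.property.1 (l ≫ n) hq
    let C : (Scheme.Modules.pullback q).obj (E.obj.obj ξ) ⟶ (Scheme.Modules.pullback q).obj (M.obj.obj ξ) :=
      theta E.obj (l ≫ n) hq ≫ ρ ≫ inv (theta M.obj (l ≫ n) hq)
    have half : ∀ (s : b ⟶ ζ) (hs : bmap 𝒵 s ≫ g = q) (hsn : s ≫ n = l ≫ n) (_ : Rel E.obj M.obj s χ ρ),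
        (Scheme.Modules.pullback (bmap 𝒵 s)).map α ≫ mcI g (bmap 𝒵 s) q hs (M.obj.obj ξ) =
          mcI g (bmap 𝒵 s) q hs (E.obj.obj ξ) ≫ C := by
      intro s hs hsn hρ
      have e1 := theta_comp_name E.obj s n (h := bmap 𝒵 s) rfl hs hsn
      have e2 := theta_comp_name M.obj s n (h := bmap 𝒵 s) rfl hs hsn
      have e3 := (rel_iff_theta _ _ _ _ _).1 hρ
      rw [← cancel_mono (theta M.obj (l ≫ n) hq)]
      simp only [C, Category.assoc, IsIso.inv_hom_id, Category.comp_id]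
      rw [← e2]
      simp only [α, Functor.map_comp, Category.assoc]
      rw [← Functor.map_comp_assoc (Scheme.Modules.pullback (bmap 𝒵 s)) (inv (theta M.obj n rfl)),
        IsIso.inv_hom_id, CategoryTheory.Functor.map_id, Category.id_comp, ← e3, ← reassoc_of% e1]
    have h1 := half l hz rfl hρl
    have h2 := half k hz' hkn hρk
    haveI : IsIso (mcI g (bmap 𝒵 k) q hz' (M.obj.obj ξ)) :=
      ⟨mcH _ _ _ _ _, mcI_mcH _ _ _ _ _, mcH_mcI _ _ _ _ _⟩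
    rw [← Category.assoc ((Scheme.Modules.pullback (bmap 𝒵 l)).map α), h1, ← cancel_mono (mcI g (bmap 𝒵 k) q hz' (M.obj.obj ξ))]
    simp only [Category.assoc, mcH_mcI, Category.comp_id, h2]
    rw [reassoc_of% (mcH_mcI g (bmap 𝒵 k) q hz' (E.obj.obj ξ))]
  obtain ⟨ψ, hψ⟩ := exists_hom_of_family (cov_bmap hn) (M := E.obj.obj ξ) (N := M.obj.obj ξ) (fun _ => α)
    fun _ _ => key _ (congrArg Comma.left eb) _ _ _ (by
      show (𝒵.p.map l).left = _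
      rw [hl, Over.comp_left, Over.eqToHom_left]; rfl) (by
      show (𝒵.p.map k).left = _
      rw [hk, Over.comp_left, Over.eqToHom_left]; rfl) _ _
  refine ⟨ψ, (rel_iff_theta _ _ _ _ _).2 ?_⟩
  rw [hψ ⟨⟩]
  simp [α]

/-- A fibre product of a morphism with a morphism. -/
theorem exists_square {a a' a'' : 𝒵.obj} (n : a' ⟶ a) (m : a'' ⟶ a) :
    ∃ (b : 𝒵.obj) (k : b ⟶ a'') (l : b ⟶ a'), k ≫ m = l ≫ n ∧
      IsPullback (bmap 𝒵 l) (bmap 𝒵 k) (bmap 𝒵 n) (bmap 𝒵 m) := by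
  have sq := IsPullback.of_hasPullback (𝒵.p.map n) (𝒵.p.map m)
  obtain ⟨b, l, eb, hl⟩ := fibGrpd_lift hZ a' (pullback.fst (𝒵.p.map n) (𝒵.p.map m))
  obtain ⟨k, ⟨hk, hkm⟩, -⟩ := fibGrpd_fac hZ m (l ≫ n) (eqToHom eb ≫ pullback.snd _ _) (by
    rw [Category.assoc, ← pullback.condition, 𝒵.p.map_comp, hl, Category.assoc])
  refine ⟨b, k, l, hkm, ?_⟩
  refine IsPullback.map (Over.forget S) ?_
  rw [hl, hk]
  exact sq.of_iso (eqToIso eb).symm (Iso.refl _) (Iso.refl _) (Iso.refl _) (by simp) (by simp) (by simp) (by simp)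

variable (A : Atlas 𝒵)

theorem Atlas.agree {φ₀ : E.obj.obj A.ξ₀ ⟶ M.obj.obj A.ξ₀} {ρ₀ : E.obj.obj A.ω ⟶ M.obj.obj A.ω}
    (hp : Rel E.obj M.obj A.p φ₀ ρ₀) (hq : Rel E.obj M.obj A.q φ₀ ρ₀) {ζ : 𝒵.obj} (φ φ' : ζ ⟶ A.ξ₀)
    {χ : E.obj.obj ζ ⟶ M.obj.obj ζ} (h : Rel E.obj M.obj φ φ₀ χ) : Rel E.obj M.obj φ' φ₀ χ := by
  obtain ⟨ζ', n, r, hn, h₁, h₂⟩ := A.sep ζ φ φ'
  obtain ⟨χ', hχ'⟩ := exists_rel φ' φ₀
  obtain ⟨σ, hσ⟩ := exists_rel r ρ₀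
  obtain ⟨τ, hτ⟩ := exists_rel n χ
  obtain ⟨τ', hτ'⟩ := exists_rel n χ'
  have e₁ : τ = σ := rel_right_unique (rel_comp h hτ) (h₁ ▸ rel_comp hp hσ)
  have e₂ : τ' = σ := rel_right_unique (rel_comp hχ' hτ') (h₂ ▸ rel_comp hq hσ)
  rw [rel_left_unique hn hτ (e₁.trans e₂.symm ▸ hτ')]
  exact hχ'

/-- A morphism on the chart compatible on the overlaps extends. -/
theorem Atlas.exists_hom {φ₀ : E.obj.obj A.ξ₀ ⟶ M.obj.obj A.ξ₀} {ρ₀ : E.obj.obj A.ω ⟶ M.obj.obj A.ω}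
    (hp : Rel E.obj M.obj A.p φ₀ ρ₀) (hq : Rel E.obj M.obj A.q φ₀ ρ₀) :
    ∃ Φ : E.obj ⟶ M.obj, Φ.app A.ξ₀ = φ₀ := by
  have hex : ∀ ξ, ∃ ψ : E.obj.obj ξ ⟶ M.obj.obj ξ, ∀ (ζ : 𝒵.obj) (n : ζ ⟶ ξ) (φ : ζ ⟶ A.ξ₀) χ,
      Rel E.obj M.obj φ φ₀ χ → Rel E.obj M.obj n ψ χ := by
    intro ξ
    obtain ⟨a', n, φ, hn⟩ := A.cover ξ
    obtain ⟨χ, hχ⟩ := exists_rel φ φ₀
    obtain ⟨ψ, hψ⟩ := exists_descend hZ n hn χ fun b l k _ => by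
      obtain ⟨ρ, hρ⟩ := exists_rel l χ
      obtain ⟨ρ', hρ'⟩ := exists_rel k χ
      obtain rfl : ρ = ρ' := rel_right_unique (A.agree hZ hp hq (l ≫ φ) (k ≫ φ) (rel_comp hχ hρ)) (rel_comp hχ hρ')
      exact ⟨ρ, hρ, hρ'⟩
    refine ⟨ψ, fun a'' n' φ' χ' hχ' => ?_⟩
    obtain ⟨b, k, l, hc, sq⟩ := exists_square hZ n n'
    have hk : IsCov k := ⟨MorphismProperty.IsStableUnderBaseChange.of_isPullback sq hn.1,
      MorphismProperty.IsStableUnderBaseChange.of_isPullback sq hn.2⟩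
    obtain ⟨χ₁, hχ₁⟩ := exists_rel n' ψ
    obtain ⟨τ, hτ⟩ := exists_rel k χ'
    obtain ⟨τ₁, hτ₁⟩ := exists_rel k χ₁
    obtain ⟨σ, hσ⟩ := exists_rel l χ
    have e₁ : τ₁ = σ := rel_right_unique (rel_comp hχ₁ hτ₁) (hc ▸ rel_comp hψ hσ)
    have e₂ : τ = σ := rel_right_unique (A.agree hZ hp hq (k ≫ φ') (l ≫ φ) (rel_comp hχ' hτ)) (rel_comp hχ hσ)
    rw [rel_left_unique hk hτ (e₂.trans e₁.symm ▸ hτ₁)]
    exact hχ₁
  choose ψ hψ using hex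
  refine ⟨{ app := ψ, comm := fun {ξ' ξ} m g hg => ?_ }, ?_⟩
  · subst hg
    obtain ⟨a', n, φ, hn⟩ := A.cover ξ'
    obtain ⟨χ, hχ⟩ := exists_rel φ φ₀
    obtain ⟨χ₁, hχ₁⟩ := exists_rel m (ψ ξ)
    obtain ⟨τ, hτ⟩ := exists_rel n χ₁
    obtain rfl : χ = τ := rel_right_unique (hψ ξ a' (n ≫ m) φ χ hχ) (rel_comp hχ₁ hτ)
    rw [rel_left_unique hn (hψ ξ' a' n φ χ hχ) hτ]
    exact hχ₁
  · have hid : ∀ (ζ : 𝒵.obj) (v : E.obj.obj ζ ⟶ M.obj.obj ζ), Rel E.obj M.obj (𝟙 ζ) v v := by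
      intro ζ v
      show E.obj.map (𝟙 ζ) rfl ≫ _ = v ≫ M.obj.map (𝟙 ζ) rfl
      have hk : ∀ {g : sch 𝒵 ζ ⟶ sch 𝒵 ζ} (hg : bmap 𝒵 (𝟙 ζ) = g) (_ : g = 𝟙 _),
          E.obj.map (𝟙 ζ) hg ≫ (Scheme.Modules.pushforward g).map v = v ≫ M.obj.map (𝟙 ζ) hg := by
        intro g hg eg
        subst eg
        rw [← cancel_mono ((Scheme.Modules.pushforwardId (sch 𝒵 ζ)).hom.app (M.obj.obj ζ))]
        simp only [Category.assoc, Mod.map_id, Category.comp_id]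
        erw [(Scheme.Modules.pushforwardId (sch 𝒵 ζ)).hom.naturality v]
        rw [← Category.assoc, Mod.map_id, Category.id_comp]
        rfl
      exact hk rfl (bmap_id ζ)
    exact rel_right_unique (hψ A.ξ₀ A.ξ₀ (𝟙 _) (𝟙 _) φ₀ (hid _ φ₀)) (hid _ _) |>.symm

end Groth.Agent.ResProp20
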