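import Groth.Agent.ResProp20.BaseChange
import Groth.Agent.Stk19.AlgSt.PointsTop

/-! Generating families relative to a morphism are local on the target for flat covers. -/

set_option autoImplicit false
set_option backward.isDefEq.respectTransparency false
set_option backward.isDefEq.respectTransparency.types false
set_option linter.style.haveILetI false

universe u

open CategoryTheory CategoryTheory.Limits AlgebraicGeometry Opposite FibCat TensorProduct Groth.Agent.Desc19 Groth.Agent.Stk19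
open Groth.Agent.Coherent Groth.Agent.PicLib Groth.Agent.Desc19b.QDesc Groth.Agent.TameGood19 Groth.Agent.CohAff19
open StMod

noncomputable section

namespace Groth.Agent.ResProp20

variable {S : Scheme.{u}}

theorem rel_zero {𝒵 : AlgSt.Cat S} (E M : Mod 𝒵) {ξ' ξ : 𝒵.obj} (r : ξ' ⟶ ξ) : Rel E M r 0 0 := by
  simp [Rel]

/-- A morphism of quasi-coherent modules vanishing on the chart vanishes. -/
theorem Atlas.eq_zero {𝒵 : AlgSt.Cat S} (A : Atlas 𝒵) {M N : QCoh 𝒵} (u : M.obj ⟶ N.obj) (h : u.app A.ξ₀ = 0) :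
    u = 0 := by
  ext1 ξ
  obtain ⟨ζ, n, φ, hn⟩ := A.cover ξ
  have h1 : u.app ζ = 0 := rel_right_unique (rel_of_hom u φ) (h ▸ rel_zero _ _ φ)
  exact rel_left_unique hn (rel_of_hom u n) (h1 ▸ rel_zero _ _ n)

/-- Sections over an affine object are detected on jointly surjective flat affine base changes. -/
theorem app_eq_zero_of_cover {𝒵 : AlgSt.Cat S} {M N : QCoh 𝒵} (u : M.obj ⟶ N.obj) {ξ₀ : 𝒵.obj}
    [IsAffine (sch 𝒵 ξ₀)] {U : Scheme.{u}} [IsAffine U] (b₀ : sch 𝒵 ξ₀ ⟶ U)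
    (h : ∀ t : U, ∃ (Z : Scheme.{u}) (g : Z ⟶ U) (_ : IsAffine Z) (_ : Flat g) (_ : t ∈ Set.range g)
      (ξ₁ : 𝒵.obj) (_ : IsAffine (sch 𝒵 ξ₁)) (k₀ : ξ₁ ⟶ ξ₀) (c₀ : sch 𝒵 ξ₁ ⟶ Z)
      (_ : IsPullback (bmap 𝒵 k₀) c₀ b₀ g), u.app ξ₁ = 0) :
    u.app ξ₀ = 0 := by
  haveI : Coh.IsQCoh (M.obj.obj ξ₀) := M.property.2 _
  refine eq_zero_of_generated (AmpleLib.globallyGenerated_of_isQuasiAffine _) _ fun s => ?_
  let v : Sects N ξ₀ b₀ := (u.app ξ₀).app ⊤ s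
  suffices hv : v ∈ (⊥ : Submodule Γ(U, ⊤) (Sects N ξ₀ b₀)) from hv
  refine mem_of_forall_tensor ⊥ v fun P => ?_
  obtain ⟨Z, g, hZ, hg, ⟨z, hz⟩, ξ₁, hξ₁, k₀, c₀, sq, h0⟩ := h (U.isoSpec.inv P)
  haveI hflat : Module.Flat Γ(U, ⊤) (Fn g) := Scheme.Hom.flat_appTop g
  refine ⟨Γ(Z, ⊤), inferInstance, g.appTop.hom.toAlgebra, hflat, ⟨Z.isoSpec.hom z, ?_⟩, ?_⟩
  · show Spec.map g.appTop (Z.isoSpec.hom z) = P
    rw [← Scheme.Hom.comp_apply, Scheme.isoSpec_hom_naturality, Scheme.Hom.comp_apply, hz,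
      ← Scheme.Hom.comp_apply, Iso.inv_hom_id]
    rfl
  · obtain ⟨L, hL, hL'⟩ := exists_bc N k₀ g b₀ c₀ sq
    have hzero : (1 : Fn g) ⊗ₜ[Γ(U, ⊤)] v = 0 := hL.1 (by
      rw [hL', map_zero, Mod.mapTop_app, h0]
      exact smul_zero _)
    exact ⟨0, (map_zero _).trans hzero.symm⟩

variable {𝒳 𝒴 𝒲 : AlgSt.Cat S} {f : 𝒳 ⥤ᵇ 𝒴} {w : 𝒲 ⥤ᵇ 𝒴} {η : 𝒴.obj} {η' : 𝒲.obj} (β : w.obj η' ⟶ η)

/-- The morphism of bases under a morphism over the target. -/
abbrev baseMap : 𝒲.p.obj η' ⟶ 𝒴.p.obj η := StMod.baseOver w η' β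

/-- The category of the base change over `η'` mapped to the category over `η`. -/
def toFib : StMod.fibCat (fpSnd f w) η' ⥤ᵇ StMod.fibCat f η where
  obj z := CostructuredArrow.mk (z.left.obj.iso.hom ≫ w.map z.hom ≫ β)
  map {z z'} m := CostructuredArrow.homMk m.left.hom.fst (by
    show f.map m.left.hom.fst ≫ z'.left.obj.iso.hom ≫ w.map z'.hom ≫ β = z.left.obj.iso.hom ≫ w.map z.hom ≫ β
    have h : f.map m.left.hom.fst ≫ z'.left.obj.iso.hom = z.left.obj.iso.hom ≫ w.map m.left.hom.snd := m.left.hom.w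
    rw [reassoc_of% h, ← w.toFunctor.map_comp_assoc]
    exact congrArg (fun k => z.left.obj.iso.hom ≫ w.map k ≫ β) (CostructuredArrow.w m))
  w := rfl

/-- The base of an object of the base change, as a map to the base of `η'`. -/
def toBase (z : (StMod.fibCat (fpSnd f w) η').obj) : (StMod.fibCat f η).p.obj ((toFib β).obj z) ⟶ 𝒲.p.obj η' :=
  StMod.baseOver (fpSnd f w) z.left z.hom

theorem toBase_comp (z : (StMod.fibCat (fpSnd f w) η').obj) :
    toBase β z ≫ baseMap β = StMod.baseOver f ((toFib β).obj z).left ((toFib β).obj z).hom := by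
  have hz : 𝒴.p.IsHomLift (𝟙 _) z.left.obj.iso.hom := z.left.property
  have h1 := @map_eq_of_vert _ _ _ _ 𝒴.p _ _ _ z.left.obj.iso.hom hz
  show StMod.baseOver (fpSnd f w) z.left z.hom ≫ _ = StMod.baseOver f z.left.obj.fst (z.left.obj.iso.hom ≫ w.map z.hom ≫ β)
  simp only [StMod.baseOver, baseMap, Functor.map_comp, h1, based_map w, Category.assoc, eqToHom_trans_assoc]

variable (h𝒳 : IsFibGrpd 𝒳.p) (h𝒴 : IsFibGrpd 𝒴.p) (h𝒲 : IsFibGrpd 𝒲.p)

include h𝒴 h𝒲 in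
/-- Objects over `η` with a lift of the base come from the base change. -/
theorem exists_lift (ξ : (StMod.fibCat f η).obj) (c : (StMod.fibCat f η).p.obj ξ ⟶ 𝒲.p.obj η')
    (hc : c ≫ baseMap β = StMod.baseOver f ξ.left ξ.hom) :
    ∃ z, ∃ h : (toFib β).obj z = ξ, toBase β z = eqToHom (congrArg (StMod.fibCat f η).p.obj h) ≫ c := by
  obtain ⟨η₁, l, el, hl⟩ := fibGrpd_lift h𝒲 η' c
  have e0 : 𝒴.p.obj (f.obj ξ.left) = 𝒴.p.obj (w.obj η₁) :=
    (f.w_obj ξ.left).trans (el.symm.trans (w.w_obj η₁).symm)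
  have hb : eqToHom e0 ≫ 𝒴.p.map (w.map l ≫ β) = 𝒴.p.map ξ.hom := by
    have : 𝒴.p.map ξ.hom = eqToHom (f.w_obj ξ.left) ≫ c ≫ baseMap β := by
      rw [hc]; simp [StMod.baseOver]
    rw [this, Functor.map_comp, based_map w, hl]
    simp [baseMap, StMod.baseOver]
  obtain ⟨χ, ⟨hχ, hχl⟩, -⟩ := fibGrpd_fac h𝒴 (w.map l ≫ β) ξ.hom (eqToHom e0) hb
  have hv := vert_of_map_eq 𝒴.p (h := e0.symm ▸ rfl) hχ
  haveI := fibGrpd_isIso_vert h𝒴 (R := 𝒴.p.obj (f.obj ξ.left)) χ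
  let a : (fp f w).obj := ⟨⟨ξ.left, η₁, asIso χ⟩, vert_change 𝒴.p _ hv (f.w_obj ξ.left)⟩
  refine ⟨CostructuredArrow.mk (S := (fpSnd f w).toFunctor) (Y := a) l, ?_, ?_⟩
  · rw [CostructuredArrow.eq_mk ξ]
    exact congrArg CostructuredArrow.mk hχl
  · show eqToHom _ ≫ 𝒲.p.map l = _
    rw [hl]
    simp

include h𝒴 h𝒲 in
/-- Morphisms over the base lift. -/
theorem exists_lift_hom {z z' : (StMod.fibCat (fpSnd f w) η').obj} (m : (toFib β).obj z ⟶ (toFib β).obj z')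
    (hm : (StMod.fibCat f η).p.map m ≫ toBase β z' = toBase β z) :
    ∃ m' : z ⟶ z', (toFib β).map m' = m := by
  have hz : 𝒴.p.IsHomLift (𝟙 _) z.left.obj.iso.hom := z.left.property
  have hz' : 𝒴.p.IsHomLift (𝟙 _) z'.left.obj.iso.hom := z'.left.property
  have h1 := @map_eq_of_vert _ _ _ _ 𝒴.p _ _ _ z.left.obj.iso.hom hz
  have h2 := @map_eq_of_vert _ _ _ _ 𝒴.p _ _ _ z'.left.obj.iso.hom hz'
  have e := (fpSnd f w).w_obj z.left
  have e' := (fpSnd f w).w_obj z'.left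
  have hm' : 𝒳.p.map m.left ≫ eqToHom e'.symm ≫ 𝒲.p.map z'.hom = eqToHom e.symm ≫ 𝒲.p.map z.hom := hm
  obtain ⟨s, ⟨hs, hsz⟩, -⟩ := fibGrpd_fac h𝒲 z'.hom z.hom (eqToHom e ≫ 𝒳.p.map m.left ≫ eqToHom e'.symm) (by
    simp only [Category.assoc, hm']
    exact eqToHom_trans_assoc _ _ _)
  have hw : f.map m.left ≫ z'.left.obj.iso.hom = z.left.obj.iso.hom ≫ w.map s := by
    refine fibGrpd_ext h𝒴 (w.map z'.hom ≫ β) ?_ ?_
    · rw [Functor.map_comp, Functor.map_comp, h1, h2, based_map f, based_map w, hs]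
      simp
    · rw [Category.assoc, Category.assoc, ← w.toFunctor.map_comp_assoc, hsz]
      exact CostructuredArrow.w m
  exact ⟨CostructuredArrow.homMk (ObjectProperty.homMk { fst := m.left, snd := s, w := hw }) hsz, rfl⟩

variable (A : Atlas (StMod.fibCat f η)) [IsAffine (sch 𝒴 η)] [IsAffine (sch 𝒲 η')]

include h𝒳 h𝒴 h𝒲 in
/-- On a flat affine base change a morphism killed by the family vanishes. -/
theorem app_eq_zero_baseChange {ι : Type u} (E : ι → QCoh 𝒳) (hE : ∀ i, (E i).obj.IsFinPres)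
    (hgen : IsGenFam (fun i => (comapQ (fibFst (fpSnd f w) η')).obj ((comapQ (fpFst f w)).obj (E i))))
    [Flat (baseMap β).left] {M N : QCoh (StMod.fibCat f η)} (u : M ⟶ N)
    (hu : ∀ (i : ι) (φ : ((comapQ (fibFst f η)).obj (E i)).obj ⟶ M.obj), φ ≫ u.hom = 0) :
    ∃ (ξ₁ : (StMod.fibCat f η).obj) (_ : IsAffine (sch _ ξ₁)) (k₀ : ξ₁ ⟶ A.ξ₀) (c₀ : sch _ ξ₁ ⟶ sch 𝒲 η')
      (_ : IsPullback (bmap _ k₀) c₀ (StMod.baseOver f A.ξ₀.left A.ξ₀.hom).left (baseMap β).left),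
      u.hom.app ξ₁ = 0 := by
  let G : 𝒲.p.obj η' ⟶ 𝒴.p.obj η := baseMap β
  have hZ := isFibGrpd_fibCat h𝒳 f η
  haveI := A.affine₀
  haveI := A.affineω
  haveI : IsAffine (𝒴.p.obj η).left := ‹IsAffine (sch 𝒴 η)›
  haveI : IsAffine (𝒲.p.obj η').left := ‹IsAffine (sch 𝒲 η')›
  let 𝒵 := StMod.fibCat f η
  let B : ∀ ξ : 𝒵.obj, 𝒵.p.obj ξ ⟶ 𝒴.p.obj η := fun ξ => StMod.baseOver f ξ.left ξ.hom
  have hB : ∀ {ξ' ξ : 𝒵.obj} (m : ξ' ⟶ ξ), 𝒵.p.map m ≫ B ξ = B ξ' := fun {ξ' ξ} m => by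
    show 𝒳.p.map m.left ≫ _ = _
    rw [StMod.map_comp_baseOver]
    exact congrArg (StMod.baseOver f ξ'.left) (CostructuredArrow.w m)
  -- base change of the objects of the atlas
  have bc : ∀ ξ : 𝒵.obj, IsAffine (sch 𝒵 ξ) → ∃ (z : (StMod.fibCat (fpSnd f w) η').obj)
      (k : (toFib β).obj z ⟶ ξ), IsPullback (𝒵.p.map k) (toBase β z) (B ξ) G ∧
        IsAffine (sch 𝒵 ((toFib β).obj z)) ∧
        IsPullback (bmap 𝒵 k) (toBase β z).left (B ξ).left G.left := by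
    intro ξ hξ
    haveI : IsAffine (𝒵.p.obj ξ).left := hξ
    have sq := IsPullback.of_hasPullback (B ξ) G
    obtain ⟨ξ', k, ek, hk⟩ := fibGrpd_lift hZ ξ (pullback.fst (B ξ) G)
    obtain ⟨z, hz, hzb⟩ := exists_lift β h𝒴 h𝒲 ξ' (eqToHom ek ≫ pullback.snd (B ξ) G) (by
      show _ = B ξ'
      rw [← hB k, hk, Category.assoc, Category.assoc, pullback.condition])
    subst hz
    simp only [eqToHom_refl, Category.id_comp] at hzb
    have sq' : IsPullback (𝒵.p.map k) (toBase β z) (B ξ) G := by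
      rw [hk, hzb]
      exact sq.of_iso (eqToIso ek).symm (Iso.refl _) (Iso.refl _) (Iso.refl _) (by simp) (by simp) (by simp) (by simp)
    have sq'' : IsPullback (bmap 𝒵 k) (toBase β z).left (B ξ).left G.left := sq'.map (Over.forget S)
    haveI := hξ
    exact ⟨z, k, sq', .of_isIso sq''.isoPullback.hom, sq''⟩
  obtain ⟨z₁, k₀, sq₁, hξ₁, sq₀⟩ := bc A.ξ₀ A.affine₀
  obtain ⟨zω, kω, sq₂, hω₁, sqω⟩ := bc A.ω A.affineω
  haveI := hξ₁
  haveI := hω₁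
  refine ⟨_, hξ₁, k₀, (toBase β z₁).left, sq₀, ?_⟩
  have lift : ∀ r : A.ω ⟶ A.ξ₀, ∃ m : zω ⟶ z₁, (toFib β).map m ≫ k₀ = kω ≫ r ∧
      bmap 𝒵 ((toFib β).map m) ≫ (toBase β z₁).left = (toBase β zω).left := by
    intro r
    obtain ⟨m, ⟨hm, hmk⟩, -⟩ := fibGrpd_fac hZ k₀ (kω ≫ r)
      (sq₁.lift (𝒵.p.map (kω ≫ r)) (toBase β zω) (by
        rw [Functor.map_comp, Category.assoc, hB]
        exact sq₂.w)) (sq₁.lift_fst _ _ _)
    have hmb : 𝒵.p.map m ≫ toBase β z₁ = toBase β zω := by rw [hm]; exact sq₁.lift_snd _ _ _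
    obtain ⟨m', rfl⟩ := exists_lift_hom β h𝒴 h𝒲 m hmb
    exact ⟨m', hmk, congrArg CommaMorphism.left hmb⟩
  obtain ⟨p', hp₁, hp₂⟩ := lift A.p
  obtain ⟨q', hq₁, hq₂⟩ := lift A.q
  have hu' : (comapQ (toFib β)).map u = 0 := by
    refine (isGenFam_iff _).1 hgen ((comapQ (toFib β)).map u) fun i φ => ?_
    let E' := (comapQ (fibFst f η)).obj (E i)
    have hE' : E'.obj.IsFinPres := fun ξ => hE i ξ.left
    have eM : ∀ (F : QCoh (StMod.fibCat f η)) {z z' : (StMod.fibCat (fpSnd f w) η').obj} (m : z ⟶ z'),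
        ((comapQ (toFib β)).obj F).obj.map m rfl = F.obj.map ((toFib β).map m) rfl := fun F {z z'} m => by
      exact castMap_rfl_self (bmap_map_comm (toFib β) m rfl) _
    have eE : ∀ {z z' : (StMod.fibCat (fpSnd f w) η').obj} (m : z ⟶ z'),
        ((comapQ (fibFst (fpSnd f w) η')).obj ((comapQ (fpFst f w)).obj (E i))).obj.map m rfl =
          E'.obj.map ((toFib β).map m) rfl := fun {z z'} m => by
      exact (castMap_rfl_self (bmap_map_comm (fibFst (fpSnd f w) η') m rfl) _).trans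
        ((castMap_rfl_self (bmap_map_comm (fpFst f w) m.left rfl) _).trans
          (castMap_rfl_self (bmap_map_comm (fibFst f η) ((toFib β).map m) rfl) _).symm)
    have hφ : ∀ {z z' : (StMod.fibCat (fpSnd f w) η').obj} (m : z ⟶ z'),
        Rel E'.obj M.obj ((toFib β).map m) (φ.app z') (φ.app z) := fun m => by
      have h := φ.comm m rfl
      rw [eE m, eM M m] at h
      exact h
    have h0 : φ.app z₁ ≫ u.hom.app ((toFib β).obj z₁) = 0 :=
      A.kill (E := E') (M := M) (N := N) hZ hE' u.hom (hu i) G.left (B A.ξ₀).left (B A.ω).left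
        (congrArg CommaMorphism.left (hB A.p)) (congrArg CommaMorphism.left (hB A.q)) sq₀ sqω hp₁ hq₁ hp₂ hq₂
        (χ := φ.app z₁) (ρ := φ.app zω) (hφ p') (hφ q')
    ext1 z
    let ψ : ∀ z : (StMod.fibCat (fpSnd f w) η').obj, E'.obj.obj ((toFib β).obj z) ⟶ N.obj.obj ((toFib β).obj z) :=
      fun z => φ.app z ≫ u.hom.app ((toFib β).obj z)
    have hψ : ∀ {z z' : (StMod.fibCat (fpSnd f w) η').obj} (m : z ⟶ z'),
        Rel E'.obj N.obj ((toFib β).map m) (ψ z') (ψ z) := fun m => by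
      have h := (φ ≫ ((comapQ (toFib β)).map u).hom).comm m rfl
      rw [eE m, eM N m] at h
      exact h
    show ψ z = 0
    obtain ⟨ζ, n, φ₀, hn⟩ := A.cover ((toFib β).obj z)
    obtain ⟨zζ, hzζ, hb⟩ := exists_lift β h𝒴 h𝒲 ζ (𝒵.p.map n ≫ toBase β z) (by
      rw [Category.assoc, toBase_comp]
      exact hB n)
    subst hzζ
    simp only [eqToHom_refl, Category.id_comp] at hb
    obtain ⟨n', rfl⟩ := exists_lift_hom β h𝒴 h𝒲 n hb.symm
    obtain ⟨k, ⟨hk, hkk⟩, -⟩ := fibGrpd_fac hZ k₀ φ₀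
      (sq₁.lift (𝒵.p.map φ₀) (toBase β zζ) (by rw [hB]; exact (toBase_comp β zζ).symm)) (sq₁.lift_fst _ _ _)
    obtain ⟨k', rfl⟩ := exists_lift_hom β h𝒴 h𝒲 k (by rw [hk]; exact sq₁.lift_snd _ _ _)
    have hζ : ψ zζ = 0 :=
      rel_right_unique (hψ k') ((show ψ z₁ = 0 from h0) ▸ rel_zero _ _ _)
    exact rel_left_unique hn (hψ n') (hζ ▸ rel_zero _ _ _)
  exact congrArg (fun k => k.hom.app z₁) hu'

include h𝒳 h𝒴 in
omit 𝒲 w η' β h𝒲 in
/-- Generation over `η` is local for jointly surjective flat affine base changes. -/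
theorem isGenFam_of_flat_cover {ι : Type u} (E : ι → QCoh 𝒳) (hE : ∀ i, (E i).obj.IsFinPres)
    (A : Atlas (StMod.fibCat f η))
    (h : ∀ t : sch 𝒴 η, ∃ (𝒲 : AlgSt.Cat S) (_ : IsFibGrpd 𝒲.p) (w : 𝒲 ⥤ᵇ 𝒴) (η' : 𝒲.obj) (β : w.obj η' ⟶ η),
      IsAffine (sch 𝒲 η') ∧ Flat (baseMap β).left ∧ t ∈ Set.range (baseMap β).left ∧
      IsGenFam (fun i => (comapQ (fibFst (fpSnd f w) η')).obj ((comapQ (fpFst f w)).obj (E i)))) :
    IsGenFam (fun i => (comapQ (fibFst f η)).obj (E i)) := by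
  rw [isGenFam_iff]
  intro M N u hu
  haveI := A.affine₀
  haveI : IsAffine (𝒴.p.obj η).left := ‹IsAffine (sch 𝒴 η)›
  refine ObjectProperty.hom_ext _ (A.eq_zero u.hom ?_)
  refine app_eq_zero_of_cover u.hom (StMod.baseOver f A.ξ₀.left A.ξ₀.hom).left fun t => ?_
  obtain ⟨𝒲, h𝒲, w, η', β, haff, hfl, ht, hgen⟩ := h t
  haveI := haff
  haveI := hfl
  obtain ⟨ξ₁, hξ₁, k₀, c₀, sq, h0⟩ := app_eq_zero_baseChange β h𝒳 h𝒴 h𝒲 A E hE hgen u hu
  exact ⟨_, (baseMap β).left, haff, hfl, ht, ξ₁, hξ₁, k₀, c₀, sq, h0⟩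

omit 𝒳 f w η' β A in
/-- A flat family of morphisms jointly surjective on points gives flat affine pieces over every affine object. -/
theorem exists_flat_piece (h𝒴 : AlgSt.IsAlgStack Scheme.fppfPrecoverage 𝒴) (h𝒲 : IsFibGrpd 𝒲.p) (w : 𝒲 ⥤ᵇ 𝒴)
    (hfl : AlgSt.LocQ (AlgSp.LocP @Flat) w) {T : Over S} (yη : overCat T ⥤ᵇ 𝒴)
    (iη : yη.obj (Over.mk (𝟙 T)) ≅ η) (hT : 𝒴.p.obj η = T) (hiη : 𝒴.p.IsHomLift (𝟙 T) iη.hom) (t : T.left)
    (ht : ∃ q, AlgSt.Points.map w q = AlgSt.Points.ofChart yη t) :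
    ∃ (η' : 𝒲.obj) (β : w.obj η' ⟶ η), IsAffine (sch 𝒲 η') ∧ Flat (baseMap β).left ∧
      eqToHom (congrArg Comma.left hT.symm) t ∈ Set.range (baseMap β).left := by
  subst hT
  obtain ⟨U, V, x, y, h, I, -, hxs, hy, hh⟩ := hfl
  haveI : Flat h.left := AlgSp.locP_yon_map hh
  obtain ⟨W, p, q, ⟨J⟩, hq, -, hsurj⟩ :=
    exists_chart_fp h𝒴.isStack.1 (x := y) yη (repByAlgSp1_of_with hy)
  obtain ⟨pt, hpt⟩ := ht
  obtain ⟨s, rfl⟩ := ofChart_surjective h𝒲 hxs pt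
  rw [map_ofChart, ofChart_congr I, ofChart_overMap] at hpt
  obtain ⟨v, hv₁, hv₂⟩ := hsurj _ _ hpt
  haveI : Smooth q.left := hq AlgSpLib.etLocal_smooth hy
  obtain ⟨z, -, hz₂⟩ := Scheme.Pullback.exists_preimage_pullback (f := h.left) (g := p.left) s v hv₁.symm
  obtain ⟨O, hO, hzO, -⟩ :=
    exists_isAffineOpen_mem_and_subset (x := z) (U := (⊤ : (pullback h.left p.left).Opens)) trivial
  let Z : Over S := Over.mk (O.ι ≫ pullback.fst h.left p.left ≫ U.hom)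
  let o : Z ⟶ U := Over.homMk (O.ι ≫ pullback.fst _ _) (by simp [Z])
  let b : Z ⟶ W := Over.homMk (O.ι ≫ pullback.snd _ _) (by
    simp only [Z, Over.mk_hom, Category.assoc]
    rw [← Over.w h, ← Category.assoc (pullback.fst _ _), pullback.condition, Category.assoc, Over.w p])
  have hob : o ≫ h = b ≫ p := Over.OverMorphism.ext (by simp [o, b, pullback.condition])
  let o' : (overCat U).obj := Over.mk o
  let b' : (overCat W).obj := Over.mk b
  have e₁ : (AlgSt.overMap h).obj o' = (AlgSt.overMap p).obj b' := congrArg (fun k => Over.mk k) hob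
  let β : w.obj (x.obj o') ⟶ η := (Stk19.appIso I o').hom ≫ y.map (eqToHom e₁) ≫ (Stk19.appIso J b').hom ≫
    yη.map (toId ((AlgSt.overMap q).obj b')) ≫ iη.hom
  have hβ : baseMap β = eqToHom (x.w_obj o') ≫ (b ≫ q) := by
    haveI := hiη
    have h1 : 𝒴.p.map (Stk19.appIso I o').hom = _ := based_app_map I.hom o'
    have h2 : 𝒴.p.map (Stk19.appIso J b').hom = _ := based_app_map J.hom b'
    have h3 := map_eq_of_vert 𝒴.p (R := 𝒴.p.obj η) iη.hom
    simp only [baseMap, StMod.baseOver, β, Functor.map_comp, h1, h2, h3, based_map y, based_map yη]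
    simp [eqToHom_map]
    show eqToHom _ ≫ (eqToHom e₁).left ≫ b ≫ q = _
    rw [Over.eqToHom_left, eqToHom_trans_assoc]
  haveI : IsAffine (O : Scheme.{u}) := hO
  refine ⟨x.obj o', β, ?_, ?_, ?_⟩
  · show IsAffine (𝒲.p.obj (x.obj o')).left
    rw [show 𝒲.p.obj (x.obj o') = Z from x.w_obj o']
    exact hO
  · rw [hβ, Over.comp_left, Over.eqToHom_left]
    refine (MorphismProperty.cancel_left_of_respectsIso @Flat _ _).2 ?_
    show Flat ((O.ι ≫ pullback.snd h.left p.left) ≫ q.left)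
    infer_instance
  · rw [hβ]
    refine ⟨(eqToHom (congrArg Comma.left (x.w_obj o').symm) : Z.left ⟶ _) ⟨z, hzO⟩, ?_⟩
    rw [← Scheme.Hom.comp_apply, Over.comp_left, Over.eqToHom_left, eqToHom_trans_assoc, eqToHom_refl]
    show q.left (pullback.snd h.left p.left (O.ι ⟨z, hzO⟩)) = t
    rw [← hv₂, ← hz₂]
    rfl

end Groth.Agent.ResProp20
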