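import Groth.Agent.ResProp20.AffineBase
import Groth.Agent.Formal2Lib.ModSysAlgz
import Groth.Agent.ArtFunLib.QuotLift.StalkUnit

/-! Comparison maps between inverse images, and inverse images to a section. -/

set_option autoImplicit false
set_option backward.isDefEq.respectTransparency false
set_option backward.isDefEq.respectTransparency.types false
set_option linter.style.haveILetI false

universe u

open CategoryTheory CategoryTheory.Limits AlgebraicGeometry Opposite TopologicalSpace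
open Groth.Agent.Coherent Groth.Agent.PicLib Groth.Agent.Coherent.Existence

noncomputable section

namespace Groth.Agent.ResProp20

variable {X Q Q' : Scheme.{u}}

/-- The comparison of inverse images along a triangle. -/
def pc {φ : Q ⟶ X} {φ' : Q' ⟶ X} {t : Q' ⟶ Q} (w : t ≫ φ = φ') (N : X.Modules) :
    (Scheme.Modules.pullback φ).obj N ⟶ (Scheme.Modules.pushforward t).obj ((Scheme.Modules.pullback φ').obj N) :=
  (Scheme.Modules.pullbackPushforwardAdjunction t).homEquiv _ _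
    ((Scheme.Modules.pullbackComp t φ).app N ≪≫ (Scheme.Modules.pullbackCongr w).app N).hom

theorem isIso_adjunct_pc {φ : Q ⟶ X} {φ' : Q' ⟶ X} {t : Q' ⟶ Q} (w : t ≫ φ = φ') (N : X.Modules) :
    IsIso (((Scheme.Modules.pullbackPushforwardAdjunction t).homEquiv _ _).symm (pc w N)) := by
  rw [pc, Equiv.symm_apply_apply]
  infer_instance

/-- The pulled back section. -/
def usec (φ : Q ⟶ X) {N : X.Modules} {U : X.Opens} (s : Γ(N, U)) :
    Γ((Scheme.Modules.pullback φ).obj N, φ ⁻¹ᵁ U) :=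
  ((Scheme.Modules.pullbackPushforwardAdjunction φ).unit.app N).app U s

theorem pb_ext {φ : Q ⟶ X} {N : X.Modules} {K : Q.Modules} {a b : (Scheme.Modules.pullback φ).obj N ⟶ K}
    (h : ∀ (U : X.Opens) (s : Γ(N, U)), a.app (φ ⁻¹ᵁ U) (usec φ s) = b.app (φ ⁻¹ᵁ U) (usec φ s)) : a = b := by
  apply ((Scheme.Modules.pullbackPushforwardAdjunction φ).homEquiv N K).injective
  rw [Adjunction.homEquiv_unit, Adjunction.homEquiv_unit]
  apply Scheme.Modules.hom_ext
  intro U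
  exact CategoryTheory.ConcreteCategory.hom_ext _ _ fun s => h U s

theorem usec_natural (φ : Q ⟶ X) {M N : X.Modules} (v : M ⟶ N) {U : X.Opens} (s : Γ(M, U)) :
    ((Scheme.Modules.pullback φ).map v).app (φ ⁻¹ᵁ U) (usec φ s) = usec φ (v.app U s) :=
  (congrArg (fun k => Scheme.Modules.Hom.app k U s)
    ((Scheme.Modules.pullbackPushforwardAdjunction φ).unit.naturality v)).symm

theorem pc_usec {φ : Q ⟶ X} {φ' : Q' ⟶ X} {t : Q' ⟶ Q} (w : t ≫ φ = φ') {N : X.Modules} {U : X.Opens}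
    (s : Γ(N, U)) :
    resM ((Scheme.Modules.pullback φ').obj N) (le_of_eq (congrArg (· ⁻¹ᵁ U) w).symm)
      ((pc w N).app (φ ⁻¹ᵁ U) (usec φ s) : Γ((Scheme.Modules.pullback φ').obj N, t ⁻¹ᵁ (φ ⁻¹ᵁ U))) =
      usec φ' s := by
  let adb := Scheme.Modules.pullbackPushforwardAdjunction φ
  let ada := Scheme.Modules.pullbackPushforwardAdjunction φ'
  let θ := ((Scheme.Modules.pullbackComp t φ).app N ≪≫ (Scheme.Modules.pullbackCongr w).app N)
  have h := Formal2Lib.ModSysAlgz.transpose_comm (F := N) w θ.hom (adb.unit.app N) _ rfl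
  have e0 : ((Scheme.Modules.pullbackPushforwardAdjunction φ).homEquiv N ((Scheme.Modules.pullback φ).obj N)).symm
      (adb.unit.app N) = 𝟙 _ := by
    refine (Equiv.symm_apply_eq _).2 ?_
    exact (adb.homEquiv_id N).symm
  rw [e0, CategoryTheory.Functor.map_id] at h
  have h' : θ.hom = θ.hom ≫ (ada.homEquiv N _).symm (adb.unit.app N ≫ pushOver φ' φ t w (pc w N)) :=
    (Category.id_comp θ.hom).symm.trans h
  have h2 : (ada.homEquiv N _).symm (adb.unit.app N ≫ pushOver φ' φ t w (pc w N)) = 𝟙 _ :=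
    (cancel_epi θ.hom).1 (h'.symm.trans (Category.comp_id _).symm)
  have h2 : adb.unit.app N ≫ pushOver φ' φ t w (pc w N) = ada.unit.app N :=
    ((Equiv.symm_apply_eq _).1 h2).trans (ada.homEquiv_id N)
  have h3 : ((adb.unit.app N ≫ pushOver φ' φ t w (pc w N)).app U s :
      Γ((Scheme.Modules.pullback φ').obj N, φ' ⁻¹ᵁ U)) = usec φ' s :=
    congrArg (fun k => Scheme.Modules.Hom.app k U s) h2
  refine Eq.trans ?_ h3
  simp only [pushOver, Scheme.Modules.Hom.comp_app, Scheme.Modules.pushforwardComp_hom_app_app,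
    Scheme.Modules.pushforwardCongr_hom_app_app, Scheme.Modules.pushforward_map_app]
  rfl

theorem pc_natural {φ : Q ⟶ X} {φ' : Q' ⟶ X} {t : Q' ⟶ Q} (w : t ≫ φ = φ') {M N : X.Modules} (v : M ⟶ N) :
    pc w M ≫ (Scheme.Modules.pushforward t).map ((Scheme.Modules.pullback φ').map v) =
      (Scheme.Modules.pullback φ).map v ≫ pc w N := by
  subst w
  refine pb_ext fun U s => ?_
  have h1 := pc_usec (rfl : t ≫ φ = t ≫ φ) s
  have h2 := pc_usec (rfl : t ≫ φ = t ≫ φ) (v.app U s)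
  rw [resM_self] at h1 h2
  have a1 : ((Scheme.Modules.pullback (t ≫ φ)).map v).app (t ⁻¹ᵁ (φ ⁻¹ᵁ U))
      ((pc (rfl : t ≫ φ = t ≫ φ) M).app (φ ⁻¹ᵁ U) (usec φ s)) = usec (t ≫ φ) (v.app U s) :=
    (congrArg _ h1).trans (usec_natural _ v s)
  have a2 : (pc (rfl : t ≫ φ = t ≫ φ) N).app (φ ⁻¹ᵁ U) (((Scheme.Modules.pullback φ).map v).app (φ ⁻¹ᵁ U) (usec φ s)) =
      usec (t ≫ φ) (v.app U s) := (congrArg _ (usec_natural φ v s)).trans h2
  exact a1.trans a2.symm

theorem pc_id {φ : Q ⟶ X} {t : Q ⟶ Q} (w : t ≫ φ = φ) (e : t = 𝟙 Q) (N : X.Modules) :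
    pc w N ≫ (Scheme.Modules.pushforwardCongr e).hom.app _ ≫ (Scheme.Modules.pushforwardId Q).hom.app _ = 𝟙 _ := by
  subst e
  rw [StMod.pushforwardCongr_hom_app_self, Category.id_comp]
  refine pb_ext fun U s => ?_
  have h1 := pc_usec w s
  exact (resM_self _ _ _).symm.trans h1

theorem pc_comp {Q'' : Scheme.{u}} {φ : Q ⟶ X} {φ' : Q' ⟶ X} {φ'' : Q'' ⟶ X} {t : Q' ⟶ Q} {h : Q'' ⟶ Q'}
    {k : Q'' ⟶ Q} (w : t ≫ φ = φ') (w' : h ≫ φ' = φ'') (w'' : k ≫ φ = φ'') (e : k = h ≫ t) (N : X.Modules) :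
    pc w'' N ≫ (Scheme.Modules.pushforwardCongr e).hom.app _ =
      pc w N ≫ (Scheme.Modules.pushforward t).map (pc w' N) ≫ (Scheme.Modules.pushforwardComp h t).hom.app _ := by
  subst e
  subst w
  subst w'
  rw [StMod.pushforwardCongr_hom_app_self, Category.comp_id]
  refine pb_ext fun U s => ?_
  have h1 := pc_usec (rfl : t ≫ φ = t ≫ φ) s
  have h2 := pc_usec (rfl : h ≫ t ≫ φ = h ≫ t ≫ φ) s
  have h3 := pc_usec w'' s
  rw [resM_self] at h1 h2
  refine ((resM_self _ _ _).symm.trans h3).trans ?_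
  show _ = (pc (rfl : h ≫ t ≫ φ = h ≫ t ≫ φ) N).app (t ⁻¹ᵁ (φ ⁻¹ᵁ U))
    ((pc (rfl : t ≫ φ = t ≫ φ) N).app (φ ⁻¹ᵁ U) (usec φ s))
  exact (h2.symm.trans (congrArg _ h1.symm))

theorem pc_congr {φ : Q ⟶ X} {φ' : Q' ⟶ X} {k k' : Q' ⟶ Q} (w : k ≫ φ = φ') (w' : k' ≫ φ = φ') (e : k = k')
    (N : X.Modules) : pc w N ≫ (Scheme.Modules.pushforwardCongr e).hom.app _ = pc w' N := by
  subst e
  rw [StMod.pushforwardCongr_hom_app_self, Category.comp_id]

theorem pc_square {Q'' P : Scheme.{u}} {φ : Q ⟶ X} {φ' : Q' ⟶ X} {φ'' : Q'' ⟶ X} {ψ : P ⟶ X} {t : Q' ⟶ Q}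
    {h : Q'' ⟶ Q'} {t' : P ⟶ Q} {h' : Q'' ⟶ P} (w : t ≫ φ = φ') (w' : h ≫ φ' = φ'') (v : t' ≫ φ = ψ)
    (v' : h' ≫ ψ = φ'') (e : h ≫ t = h' ≫ t') (N : X.Modules) :
    pc w N ≫ (Scheme.Modules.pushforward t).map (pc w' N) ≫ (Scheme.Modules.pushforwardComp h t).hom.app _ ≫
        (Scheme.Modules.pushforwardCongr e).hom.app _ =
      pc v N ≫ (Scheme.Modules.pushforward t').map (pc v' N) ≫ (Scheme.Modules.pushforwardComp h' t').hom.app _ := by
  have w1 : (h ≫ t) ≫ φ = φ'' := by rw [Category.assoc, w, w']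
  have v1 : (h' ≫ t') ≫ φ = φ'' := by rw [Category.assoc, v, v']
  have l1 := pc_comp w w' w1 rfl N
  have l2 := pc_comp v v' v1 rfl N
  rw [StMod.pushforwardCongr_hom_app_self, Category.comp_id] at l1 l2
  rw [← reassoc_of% l1, ← l2]
  exact pc_congr w1 v1 e N

theorem pc_retract {φ : Q ⟶ X} {φ' : Q' ⟶ X} {t : Q' ⟶ Q} {σ : Q ⟶ Q'} (w : t ≫ φ = φ') (w' : σ ≫ φ' = φ)
    (e : σ ≫ t = 𝟙 Q) (N : X.Modules) :
    pc w N ≫ (Scheme.Modules.pushforward t).map (pc w' N) ≫ (Scheme.Modules.pushforwardComp σ t).hom.app _ ≫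
        (Scheme.Modules.pushforwardCongr e).hom.app _ ≫ (Scheme.Modules.pushforwardId Q).hom.app _ = 𝟙 _ := by
  have w1 : (σ ≫ t) ≫ φ = φ := by rw [Category.assoc, w, w']
  have l1 := pc_comp w w' w1 rfl N
  rw [StMod.pushforwardCongr_hom_app_self, Category.comp_id] at l1
  rw [← reassoc_of% l1]
  exact pc_id w1 e N

theorem sqMap_map_comp {A B A' B' : Scheme.{u}} {π : A ⟶ B} {π' : A' ⟶ B'} {g : B' ⟶ B} {g' : A' ⟶ A}
    (w : g' ≫ π = π' ≫ g) {L M : A.Modules} {M' : A'.Modules} (θ : L ⟶ M)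
    (m : M ⟶ (Scheme.Modules.pushforward g').obj M') :
    sqMap w (θ ≫ m) = (Scheme.Modules.pushforward π).map θ ≫ sqMap w m := by
  simp [sqMap]

open Groth.Agent.ArtFunLib.QuotLift in
/-- The adjoint of an epimorphism to a closed immersion is an epimorphism. -/
theorem epi_adjoint_closed {Z Y : Scheme.{u}} (σ : Z ⟶ Y) [IsClosedImmersion σ]
    {F : Y.Modules} {N : Z.Modules} (φ : (Scheme.Modules.pullback σ).obj F ⟶ N) [Epi φ] :
    Epi ((Scheme.Modules.pullbackPushforwardAdjunction σ).homEquiv _ _ φ) := by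
  let ad := Scheme.Modules.pullbackPushforwardAdjunction σ
  haveI := DCat.ClosedPush.isIso_counit σ N
  refine Coherent.CohBC.epi_of_surjective_stalks _ fun w m => ?_
  by_cases hw : w ∈ Set.range σ
  · obtain ⟨z, rfl⟩ := hw
    let m' : St ((Scheme.Modules.pushforward σ).obj N) (σ z) := m
    obtain ⟨v, hv⟩ := surjective_stk φ z (stk (ad.counit.app N) z (unitSt σ z _ m'))
    obtain ⟨e, rfl⟩ := unitSt_surjective σ z _ v
    refine ⟨e, ?_⟩
    show stk (ad.homEquiv _ _ φ) (σ z) e = m'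
    rw [← sub_eq_zero]
    have he : φ = (Scheme.Modules.pullback σ).map (ad.homEquiv _ _ φ) ≫ ad.counit.app N :=
      ((ad.homEquiv _ _).symm_apply_apply φ).symm.trans (ad.homEquiv_counit _ _ _)
    generalize ad.homEquiv _ _ φ = ψ at he ⊢
    subst he
    rw [stk_comp, unitSt_natural] at hv
    have h0 : unitSt σ z _ (stk ψ (σ z) e - m') = 0 := by
      rw [map_sub, sub_eq_zero]
      exact injective_stk (ad.counit.app N) z hv
    rw [unitSt_eq_zero_iff] at h0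
    exact Submodule.smul_induction_on h0 (fun r hr s _ => DCat.ClosedPush.smul_stalk_push σ N z r hr s)
      fun a b ha hb => by rw [ha, hb, add_zero]
  · refine ⟨0, ?_⟩
    obtain ⟨V, hwV, c, rfl⟩ := ModStalk.exists_germP_eq (DCoh.toP.obj ((Scheme.Modules.pushforward σ).obj N)) m
    let W : Y.Opens := V ⊓ ⟨(Set.range σ)ᶜ, σ.isClosedEmbedding.isClosed_range.isOpen_compl⟩
    have hW : σ ⁻¹ᵁ W = ⊥ := eq_bot_iff.2 fun t ht => ht.2 ⟨t, rfl⟩
    haveI : Subsingleton Γ(N, σ ⁻¹ᵁ W) := by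
      rw [hW]
      exact ⟨fun a b => TopCat.Presheaf.section_ext (⟨N.presheaf, N.isSheaf⟩ : TopCat.Sheaf Ab Z) ⊥ a b
        fun z hz => hz.elim⟩
    have hc : resM ((Scheme.Modules.pushforward σ).obj N) (inf_le_left : W ≤ V) c = 0 :=
      Subsingleton.elim (α := Γ(N, σ ⁻¹ᵁ W)) _ _
    rw [map_zero]
    exact ((congrArg _ hc).trans (map_zero _)).symm.trans
      (ModStalk.germP_res (DCoh.toP.obj ((Scheme.Modules.pushforward σ).obj N)) (homOfLE (inf_le_left : W ≤ V))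
        (⟨hwV, hw⟩ : w ∈ W) c)

end Groth.Agent.ResProp20
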