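import Groth.Agent.ResProp20.PullComp
import Groth.Agent.ResProp20.FiniteEpi
import Groth.Agent.Stk19b.Quot.Torsor
import Groth.Agent.DQCoh.FlatQCohCover17
import Groth.Agent.EGA43.InjFibre.Scheme
import Groth.Agent.StkDesc11.LocFreeBridge
import Groth.Prelude.Def_PerfAux

/-! Direct image along `X ⟶ [X/G]` and the resolution property. -/

set_option autoImplicit false
set_option backward.isDefEq.respectTransparency false
set_option backward.isDefEq.respectTransparency.types false
set_option linter.style.haveILetI false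

universe u

open CategoryTheory CategoryTheory.Limits AlgebraicGeometry Opposite TopologicalSpace MonoidalCategory
open CartesianMonoidalCategory MonObj GrpObj
open Groth.Agent.Coherent Groth.Agent.PicLib
open StMod

noncomputable section

namespace Groth.Agent.ResProp20.QuotPush

variable {S : Scheme.{u}} {G X : Over S} [GrpObj G] [IsAffineHom G.hom] (aX : AlgGrp.Action G X)

/-- The quotient category. -/
abbrev QS : AlgSt.Cat S := AlgSt.QuotSt Scheme.fppfPrecoverage G aX

instance : Scheme.fppfPrecoverage.{u}.HasIsos :=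
  ⟨fun f _ => Scheme.zariskiPrecoverage_le_fppfPrecoverage _ (Precoverage.mem_coverings_of_isIso f)⟩

theorem isAffineHom_π (A : (QS aX).obj) : IsAffineHom A.π.left :=
  Stk19b.Quot.isAffineHom_π Scheme.fppfPrecoverage_le_fpqcPrecoverage A

theorem top_π {A B : (QS aX).obj} (f : A ⟶ B) {g : sch (QS aX) A ⟶ sch (QS aX) B} (hg : bmap (QS aX) f = g) :
    f.top.left ≫ B.π.left = A.π.left ≫ g := by
  subst hg
  exact congrArg CommaMorphism.left f.cart.w

theorem top_φ {A B : (QS aX).obj} (f : A ⟶ B) : f.top.left ≫ B.φ.left = A.φ.left :=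
  congrArg CommaMorphism.left f.wφ

/-- Direct image of a module on `X`. -/
def pushMod (N : X.left.Modules) : Mod (QS aX) where
  obj A := (Scheme.Modules.pushforward A.π.left).obj ((Scheme.Modules.pullback A.φ.left).obj N)
  map f _ hg := sqMap (top_π aX f hg) (pc (top_φ aX f) N)
  map_id A := sqMap_id _ (rfl : (𝟙 A : A ⟶ A).top.left = 𝟙 A.P.left) _ (pc_id _ _ N)
  map_comp {C B A} ψ φ h g hh hg :=
    sqMap_comp _ _ _ _ _ _ (rfl : (ψ ≫ φ).top.left = ψ.top.left ≫ φ.top.left) (pc_comp _ _ _ _ N)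

/-- Direct image of a quasi-coherent module. -/
def pushQ (N : X.left.Modules) [Coh.IsQCoh N] : QCoh (QS aX) :=
  ⟨pushMod aX N, fun {A' A} f g hg => by
    haveI := isAffineHom_π aX A
    haveI := EGA43.InjFibre.isQCoh_pullback A.φ.left N
    subst hg
    exact isIso_adjunct_sqMap
      (show IsPullback f.top.left A'.π.left A.π.left f.base.left from f.cart.map (Over.forget S)) _ _ (isIso_adjunct_pc (top_φ aX f) N),
  fun A => by
    haveI := isAffineHom_π aX A
    haveI := EGA43.InjFibre.isQCoh_pullback A.φ.left N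
    exact isQCoh_push A.π.left _⟩

/-- Functoriality of the direct image. -/
def pushHom {M N : X.left.Modules} [Coh.IsQCoh M] [Coh.IsQCoh N] (v : M ⟶ N) : pushQ aX M ⟶ pushQ aX N :=
  ObjectProperty.homMk
    { app := fun A => (Scheme.Modules.pushforward A.π.left).map ((Scheme.Modules.pullback A.φ.left).map v)
      comm := fun {A' A} f g hg => by
        show sqMap (top_π aX f hg) (pc (top_φ aX f) M) ≫ _ = _ ≫ sqMap (top_π aX f hg) (pc (top_φ aX f) N)
        exact (sqMap_comp_map _ _ _).symm.trans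
          ((congrArg (sqMap (top_π aX f hg)) (pc_natural (top_φ aX f) v)).trans (sqMap_map_comp _ _ _)) }

/-- The tautological point. -/
abbrev ptX : (AlgSt.ofSch X).obj := ⟨X, ⟨𝟙 X⟩⟩

/-- The trivial torsor over the total space of a torsor. -/
abbrev qObj (A : (QS aX).obj) : (QS aX).obj :=
  (AlgSt.quotMap Scheme.fppfPrecoverage G aX).obj ⟨A.P, ⟨A.φ⟩⟩

/-- The trivial torsor over `X`. -/
abbrev x₀ : (QS aX).obj := (AlgSt.quotMap Scheme.fppfPrecoverage G aX).obj (ptX (X := X))

/-- The map from the trivial torsor over the total space to the one over `X`. -/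
def toX₀ (A : (QS aX).obj) : qObj aX A ⟶ x₀ aX :=
  (AlgSt.quotMap Scheme.fppfPrecoverage G aX).map
    (⟨A.φ, congrArg ULift.up (Category.comp_id A.φ)⟩ :
      (⟨A.P, ⟨A.φ⟩⟩ : (AlgSt.ofSch X).obj) ⟶ ptX (X := X))

/-- A torsor pulled back to its total space is trivial. -/
def θ (A : (QS aX).obj) : qObj aX A ⟶ A where
  base := A.π
  top := A.act.act
  eqv := by
    have hμ : fst (G ⊗ G) A.P ≫ μ[G] = (fst _ _ ≫ fst G G) * (fst _ _ ≫ snd G G) := by
      rw [Hom.mul_def, ← comp_lift, lift_fst_snd, Category.comp_id]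
    have h : (AlgSt.leftMul G A.P).act = (α_ G G A.P).inv ≫ (μ[G] ▷ A.P) := by
      apply CartesianMonoidalCategory.hom_ext
      · simp [AlgSt.leftMul, hμ, comp_mul]
      · simp [AlgSt.leftMul]
    show (AlgSt.leftMul G A.P).act ≫ A.act.act = (G ◁ A.act.act) ≫ A.act.act
    rw [h, Category.assoc, A.act.mul_act, Iso.inv_hom_id_assoc]
  cart := A.cart
  wφ := A.eqv

/-- The unit section. -/
abbrev unitSec (T : Over S) : T ⟶ G ⊗ T := lift (toUnit T ≫ η[G]) (𝟙 T)

theorem unitSec_act {P : Over S} (a : AlgGrp.Action G P) : unitSec (G := G) P ≫ a.act = 𝟙 P := by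
  have h : unitSec (G := G) P = (λ_ P).inv ≫ (η[G] ▷ P) := by
    apply CartesianMonoidalCategory.hom_ext <;> simp
  rw [h, Category.assoc, a.one_act, Iso.inv_hom_id]

theorem unitSec_π (T : Over S) : (unitSec (G := G) T).left ≫ (snd G T).left = 𝟙 T.left :=
  congrArg CommaMorphism.left (lift_snd (toUnit T ≫ η[G]) (𝟙 T))

theorem unitSec_φ {P : Over S} (x : P ⟶ X) :
    (unitSec (G := G) P).left ≫ ((G ◁ x) ≫ aX.act).left = x.left := by
  have h : unitSec (G := G) P ≫ (G ◁ x) ≫ aX.act = x := by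
    have h' : unitSec (G := G) P ≫ (G ◁ x) = x ≫ unitSec (G := G) X := by
      apply CartesianMonoidalCategory.hom_ext <;> simp
    rw [reassoc_of% h', unitSec_act, Category.comp_id]
  exact congrArg CommaMorphism.left h

/-- Evaluation at the unit section. -/
def ev {P : Over S} (x : P ⟶ X) (N : X.left.Modules) :
    (Scheme.Modules.pushforward (snd G P).left).obj ((Scheme.Modules.pullback ((G ◁ x) ≫ aX.act).left).obj N) ⟶
      (Scheme.Modules.pullback x.left).obj N :=
  evMap (unitSec_π P) (pc (unitSec_φ aX x) N)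

theorem ev_natural {M N : X.left.Modules} (v : M ⟶ N) :
    ev aX (𝟙 X) M ≫ (Scheme.Modules.pullback (𝟙 X : X ⟶ X).left).map v =
      (Scheme.Modules.pushforward (snd G X).left).map
        ((Scheme.Modules.pullback ((G ◁ 𝟙 X) ≫ aX.act).left).map v) ≫ ev aX (𝟙 X) N := by
  simp only [ev, evMap, ← Category.assoc, ← Functor.map_comp, ← pc_natural]
  simp only [Functor.map_comp, Category.assoc]
  have h1 := (Scheme.Modules.pushforwardComp (unitSec (G := G) X).left (snd G X).left).hom.naturality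
    ((Scheme.Modules.pullback (𝟙 X : X ⟶ X).left).map v)
  have h2 := (Scheme.Modules.pushforwardCongr (unitSec_π (G := G) X)).hom.naturality
    ((Scheme.Modules.pullback (𝟙 X : X ⟶ X).left).map v)
  have h3 := (Scheme.Modules.pushforwardId X.left).hom.naturality
    ((Scheme.Modules.pullback (𝟙 X : X ⟶ X).left).map v)
  erw [reassoc_of% h1, reassoc_of% h2, h3]

theorem epi_ev (N : X.left.Modules) [Coh.IsQCoh N] : Epi (ev aX (𝟙 X) N) := by
  have hπ : IsAffineHom (snd G X).left :=
    MorphismProperty.of_isPullback (P := @IsAffineHom) (Stk19b.Quot.isPullback_left_snd (G := G) X) inferInstance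
  haveI : IsClosedImmersion (unitSec (G := G) X).left := by
    haveI : IsClosedImmersion ((unitSec (G := G) X).left ≫ (snd G X).left) := by
      rw [unitSec_π]; infer_instance
    exact IsClosedImmersion.of_comp _ (snd G X).left
  haveI := EGA43.InjFibre.isQCoh_pullback ((G ◁ 𝟙 X) ≫ aX.act).left N
  haveI := EGA43.InjFibre.isQCoh_pullback (𝟙 X : X ⟶ X).left N
  haveI : Epi (pc (unitSec_φ aX (𝟙 X)) N) := epi_adjoint_closed _ _
  haveI := isQCoh_push (unitSec (G := G) X).left ((Scheme.Modules.pullback (𝟙 X : X ⟶ X).left).obj N)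
  haveI := DQCoh.FlatQCoh17.epi_push (snd G X).left (pc (unitSec_φ aX (𝟙 X)) N)
  rw [ev, evMap]
  infer_instance

/-- A morphism into a direct image vanishes if its evaluation at the trivial torsor does. -/
theorem eq_zero_of_eval {E : QCoh (QS aX)} {N : X.left.Modules} [Coh.IsQCoh N] (ψ : E ⟶ pushQ aX N)
    (h : ψ.hom.app (x₀ aX) ≫ ev aX (𝟙 X) N = 0) : ψ = 0 := by
  have hq : ∀ A : (QS aX).obj, ψ.hom.app (qObj aX A) ≫ ev aX A.φ N = 0 := fun A => by
    have eσ : (unitSec (G := G) A.P).left ≫ (G ◁ A.φ).left = A.φ.left ≫ (unitSec (G := G) X).left := by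
      have h' : unitSec (G := G) A.P ≫ (G ◁ A.φ) = A.φ ≫ unitSec (G := G) X := by
        apply CartesianMonoidalCategory.hom_ext <;> simp
      exact congrArg CommaMorphism.left h'
    have wmz : A.φ.left ≫ (𝟙 X : X ⟶ X).left = A.φ.left := Category.comp_id _
    have hnat : sqMap (top_π aX (toX₀ aX A) rfl) (pc (top_φ aX (toX₀ aX A)) N) ≫
        (Scheme.Modules.pushforward A.φ.left).map (ev aX A.φ N) = ev aX (𝟙 X) N ≫ pc wmz N := by
      exact evMap_natural _ _ _ eσ _ _ _ _
        (pc_square (top_φ aX (toX₀ aX A)) (unitSec_φ aX A.φ) (unitSec_φ aX (𝟙 X)) wmz eσ N)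
    have hc := ψ.hom.comm (toX₀ aX A) (g := A.φ.left) rfl
    have hz : E.obj.map (toX₀ aX A) (g := A.φ.left) rfl ≫
        (Scheme.Modules.pushforward A.φ.left).map (ψ.hom.app (qObj aX A) ≫ ev aX A.φ N) = 0 := by
      rw [Functor.map_comp, ← Category.assoc]
      refine (congrArg (· ≫ _) hc).trans ((Category.assoc _ _ _).trans ?_)
      refine (congrArg (ψ.hom.app (x₀ aX) ≫ ·) hnat).trans ?_
      rw [← Category.assoc]
      exact (congrArg (· ≫ _) h).trans zero_comp
    let ad := Scheme.Modules.pullbackPushforwardAdjunction A.φ.left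
    haveI : IsIso ((ad.homEquiv _ _).symm (E.obj.map (toX₀ aX A) (g := A.φ.left) rfl)) :=
      E.property.1 (toX₀ aX A) (g := A.φ.left) rfl
    refine (cancel_epi ((ad.homEquiv _ _).symm (E.obj.map (toX₀ aX A) (g := A.φ.left) rfl))).1 ?_
    rw [← Adjunction.homEquiv_naturality_right_symm, hz, comp_zero, Adjunction.homEquiv_counit, Functor.map_zero,
      zero_comp]
  refine ObjectProperty.hom_ext _ (Mod.Hom.ext (funext fun A => ?_))
  have hid : sqMap (top_π aX (θ aX A) rfl) (pc (top_φ aX (θ aX A)) N) ≫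
      (Scheme.Modules.pushforward A.π.left).map (ev aX A.φ N) = 𝟙 _ := by
    have eσ : (unitSec (G := G) A.P).left ≫ A.act.act.left = 𝟙 A.P.left :=
      congrArg CommaMorphism.left (unitSec_act A.act)
    exact sqMap_evMap_eq_id _ _ eσ _ _ (pc_retract (top_φ aX (θ aX A)) (unitSec_φ aX A.φ) eσ N)
  have hc := ψ.hom.comm (θ aX A) (g := A.π.left) rfl
  show ψ.hom.app A = 0
  refine (Category.comp_id _).symm.trans ((congrArg (ψ.hom.app A ≫ ·) hid.symm).trans ?_)
  refine (Category.assoc _ _ _).symm.trans ((congrArg (· ≫ _) hc.symm).trans ?_)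
  rw [Category.assoc, ← Functor.map_comp, hq, Functor.map_zero, comp_zero]

theorem hasResolutionProperty [IsAffine S] [QuasiCompact X.hom] [QuasiSeparated X.hom]
    (h : ∀ (M N : QCoh (QS aX)) (a b : M ⟶ N),
      (∀ E : QCoh (QS aX), E.obj.IsLocFree → E.obj.IsFinType → ∀ φ : E ⟶ M, φ ≫ a = φ ≫ b) → a = b) :
    PerfAux.HasResolutionProperty X.left := fun M hM hft => by
  haveI : CompactSpace X.left := QuasiCompact.compactSpace_of_compactSpace X.hom
  haveI : QuasiSeparatedSpace X.left := quasiSeparatedSpace_of_quasiSeparated X.hom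
  haveI := hM
  let K := Σ E : {E : QCoh (QS aX) // E.obj.IsLocFree ∧ E.obj.IsFinType}, E.1 ⟶ pushQ aX M
  let idp : ∀ L : X.left.Modules, (Scheme.Modules.pullback (𝟙 X : X ⟶ X).left).obj L ⟶ L :=
    fun L => (Scheme.Modules.pullbackId X.left).hom.app L
  haveI : ∀ k : K, Coh.IsQCoh (k.1.1.obj.obj (x₀ aX) : X.left.Modules) := fun k => k.1.1.property.2 _
  refine exists_epi_finLocFree (X := X.left) M (E := fun k : K => (k.1.1.obj.obj (x₀ aX) : X.left.Modules))
    (fun k => (k.2.hom.app (x₀ aX) ≫ ev aX (𝟙 X) M) ≫ idp M) ?_ hft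
    (fun k => StkDesc11.isFinLocFree_of_isLocallyFree _ (k.1.2.1 _) (k.1.2.2 _))
  intro N v hN hv
  haveI := hN
  haveI : ∀ L, IsIso (idp L) := fun L => inferInstanceAs (IsIso ((Scheme.Modules.pullbackId X.left).hom.app L))
  let v' := (Scheme.Modules.pullback (𝟙 X : X ⟶ X).left).map v
  have hnat : v' ≫ idp N = idp M ≫ v := (Scheme.Modules.pullbackId X.left).hom.naturality v
  have ha : pushHom aX v = 0 := h _ _ _ _ fun E hE hE' φ => by
    rw [comp_zero]
    refine eq_zero_of_eval aX _ ?_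
    refine (cancel_mono (idp N)).1 (Eq.trans ?_ zero_comp.symm)
    refine Eq.trans ?_ (hv ⟨⟨E, hE, hE'⟩, φ⟩)
    show ((φ.hom.app (x₀ aX) ≫ (pushHom aX v).hom.app (x₀ aX)) ≫ ev aX (𝟙 X) N) ≫ idp N =
      ((φ.hom.app (x₀ aX) ≫ ev aX (𝟙 X) M) ≫ idp M) ≫ v
    simp only [Category.assoc]
    refine congrArg (φ.hom.app (x₀ aX) ≫ ·) ?_
    rw [← hnat, ← Category.assoc, ← Category.assoc]
    exact congrArg (· ≫ idp N) (ev_natural aX v).symm
  haveI := epi_ev aX M
  have h2 : v' = 0 := by
    refine (cancel_epi (ev aX (𝟙 X) M)).1 ((ev_natural aX v).trans ?_)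
    rw [comp_zero]
    exact (congrArg (fun a : pushQ aX M ⟶ pushQ aX N => a.hom.app (x₀ aX) ≫ ev aX (𝟙 X) N) ha).trans zero_comp
  exact (cancel_epi (idp M)).1 (by rw [← hnat, h2, zero_comp, comp_zero])

end Groth.Agent.ResProp20.QuotPush
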