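import Groth.Agent.ResProp20.AffineRep
import Groth.Agent.CohAff19.DescendThm
import Groth.Agent.Stk19b.Quot.Induced
import Groth.Agent.Stk19b.Theta.QuotChart
import Groth.Agent.EGA43.Limit.Basic

/-! Cohomological affineness passes from the classifying stack of a group to that of a quotient. -/

set_option autoImplicit false
set_option backward.isDefEq.respectTransparency false
set_option backward.isDefEq.respectTransparency.types false
set_option linter.style.haveILetI false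
set_option linter.unusedSectionVars false

universe u

open CategoryTheory CategoryTheory.Limits AlgebraicGeometry Opposite FibCat MonoidalCategory CartesianMonoidalCategory MonObj GrpObj
open Groth.Agent.Stk19 Groth.Agent.Desc19 Groth.Agent.Stk19b.QuotTriv Groth.Agent.TameGood19 Groth.Agent.CohAff19

noncomputable section

namespace Groth.Agent.ResProp20.QuotRed

section Cov

variable {S : Scheme.{u}} {𝒳 : AlgSt.Cat S}

/-- A morphism over a flat, finitely presented, surjective morphism of the bases. -/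
def Cv {a b : 𝒳.obj} (n : a ⟶ b) : Prop :=
  Flat (StMod.bmap 𝒳 n) ∧ LocallyOfFinitePresentation (StMod.bmap 𝒳 n) ∧ Surjective (StMod.bmap 𝒳 n)

theorem cv_of_pullback {a a' a'' b : 𝒳.obj} {n : a' ⟶ a} {m : a'' ⟶ a} {k : b ⟶ a''} {l : b ⟶ a'}
    (sq : IsPullback (StMod.bmap 𝒳 l) (StMod.bmap 𝒳 k) (StMod.bmap 𝒳 n) (StMod.bmap 𝒳 m)) (h : Cv n) : Cv k :=
  ⟨MorphismProperty.IsStableUnderBaseChange.of_isPullback sq h.1,
    MorphismProperty.IsStableUnderBaseChange.of_isPullback sq h.2.1,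
    MorphismProperty.IsStableUnderBaseChange.of_isPullback sq h.2.2⟩

variable (h𝒳 : IsFibGrpd 𝒳.p) (F : StMod.QCoh 𝒳)
include h𝒳

theorem mapTop_injective {a a' : 𝒳.obj} (n : a' ⟶ a) (h : Cv n) : Function.Injective (F.obj.mapTop n) := by
  intro s s' e
  obtain ⟨b, k, l, hc, sq⟩ := exists_square h𝒳 n n
  haveI := h.1; haveI := h.2.1; haveI := h.2.2
  exact (existsUnique_mapTop F n l k hc.symm sq (F.obj.mapTop n s) (by
    rw [← StMod.Mod.mapTop_comp, ← StMod.Mod.mapTop_comp, hc])).unique rfl e.symm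

variable {𝒴 : AlgSt.Cat S} {τ : 𝒳 ⥤ᵇ 𝒴} {ee : 𝒴.obj} {Ix : Type (u + 1)} (o : Ix → 𝒳.obj)

theorem exists_relSect (hcov : ∀ x : 𝒳.obj, ∃ (i : Ix) (n : o i ⟶ x), Cv n)
    (v : ∀ i, (τ.obj (o i) ⟶ ee) → Γ(F.obj.obj (o i), ⊤))
    (hv : ∀ i j (ψ : o i ⟶ o j) α, F.obj.mapTop ψ (v j α) = v i (τ.map ψ ≫ α)) :
    ∃ t : StMod.Mod.RelSect τ F.obj ee, ∀ i (x : 𝒳.obj) (n : o i ⟶ x) α,
      F.obj.mapTop n (t.1 x α) = v i (τ.map n ≫ α) := by
  have agree : ∀ {x : 𝒳.obj} (α : τ.obj x ⟶ ee) {i j : Ix} (n : o i ⟶ x) (_ : Cv n) (m : o j ⟶ x) (s : Γ(F.obj.obj x, ⊤)),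
      F.obj.mapTop n s = v i (τ.map n ≫ α) → F.obj.mapTop m s = v j (τ.map m ≫ α) := by
    intro x α i j n hn m s hs
    obtain ⟨b, k, l, hc, sq⟩ := exists_square h𝒳 n m
    obtain ⟨r, e, he⟩ := hcov b
    apply mapTop_injective h𝒳 F k (cv_of_pullback sq hn)
    apply mapTop_injective h𝒳 F e he
    rw [← StMod.Mod.mapTop_comp F.obj k m, hc, StMod.Mod.mapTop_comp F.obj l n, hs, ← StMod.Mod.mapTop_comp, hv,
      ← StMod.Mod.mapTop_comp, hv, ← Category.assoc, ← Category.assoc, ← τ.toFunctor.map_comp,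
      ← τ.toFunctor.map_comp, Category.assoc, Category.assoc, hc]
  have hex : ∀ x α, ∃ s : Γ(F.obj.obj x, ⊤), ∀ i (n : o i ⟶ x), F.obj.mapTop n s = v i (τ.map n ≫ α) := by
    intro x α
    obtain ⟨i, n, hn⟩ := hcov x
    haveI := hn.1; haveI := hn.2.1; haveI := hn.2.2
    obtain ⟨b, k, l, hc, sq⟩ := exists_square h𝒳 n n
    obtain ⟨r, e, he⟩ := hcov b
    obtain ⟨s, hs, -⟩ := existsUnique_mapTop F n l k hc.symm sq (v i (τ.map n ≫ α)) (by
      apply mapTop_injective h𝒳 F e he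
      rw [← StMod.Mod.mapTop_comp, ← StMod.Mod.mapTop_comp, hv, hv, ← Category.assoc, ← Category.assoc,
        ← τ.toFunctor.map_comp, ← τ.toFunctor.map_comp, Category.assoc, Category.assoc, hc])
    exact ⟨s, fun j m => agree α n hn m s hs⟩
  choose s hs using hex
  refine ⟨⟨s, fun x' x φ α => ?_⟩, fun i x n α => hs x α i n⟩
  obtain ⟨i, n, hn⟩ := hcov x'
  apply mapTop_injective h𝒳 F n hn
  rw [hs x' _ i n, ← StMod.Mod.mapTop_comp, hs x α i (n ≫ φ), τ.toFunctor.map_comp, Category.assoc]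

end Cov

variable {S : Scheme.{u}} {G H : Over S} [GrpObj G] [GrpObj H] (q : G ⟶ H) [IsMonHom q]

/-- The trivial torsor over a scheme. -/
abbrev obT (T : Over S) : AlgSt.QuotObj Scheme.fppfPrecoverage H (AlgSt.trivAction H) :=
  triv Scheme.fppfPrecoverage (AlgSt.trivAction H) (toUnit T)

theorem map_cond {Z W : Over S} (k : Z ⟶ W) (h : Z ⟶ H) :
    smulPt (AlgSt.trivAction H) h (k ≫ toUnit W) = toUnit Z := toUnit_unique _ _

/-- The morphism of trivial torsors of a group element. -/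
def qMap {Z W : Over S} (k : Z ⟶ W) (h : Z ⟶ H) : obT (H := H) Z ⟶ obT W :=
  (exists_hom_of_smul (K := Scheme.fppfPrecoverage) (toUnit Z) (toUnit W) k h (map_cond k h)).choose

theorem qMap_base {Z W : Over S} (k : Z ⟶ W) (h : Z ⟶ H) : (qMap k h).base = k :=
  (exists_hom_of_smul (K := Scheme.fppfPrecoverage) (toUnit Z) (toUnit W) k h (map_cond k h)).choose_spec.1

theorem qMap_top {Z W : Over S} (k : Z ⟶ W) (h : Z ⟶ H) :
    (qMap k h).top = lift (fst H Z * (snd H Z ≫ h)) (snd H Z ≫ k) :=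
  (exists_hom_of_smul (K := Scheme.fppfPrecoverage) (toUnit Z) (toUnit W) k h (map_cond k h)).choose_spec.2

theorem qMap_comp {Z W V : Over S} (k : Z ⟶ W) (h : Z ⟶ H) (l : W ⟶ V) (h' : W ⟶ H) :
    qMap k h ≫ qMap l h' = qMap (k ≫ l) (h * (k ≫ h')) := by
  refine AlgSt.QuotObj.hom_ext ?_ ?_
  · show (qMap k h).base ≫ (qMap l h').base = _
    rw [qMap_base, qMap_base, qMap_base]
  · show (qMap k h).top ≫ (qMap l h').top = _
    rw [qMap_top, qMap_top, qMap_top, comp_lift, comp_mul, lift_fst, lift_snd_assoc, lift_snd_assoc, comp_mul,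
      _root_.mul_assoc, Category.assoc, Category.assoc]

/-- The datum of the extension of the structure group. -/
def datum : Stk19b.Quot.ActDatum (AlgSt.trivAction G) (AlgSt.BG Scheme.fppfPrecoverage H) where
  obj {Z} _ := obT Z
  obj_p _ := rfl
  map _ _ k g _ := qMap k (g ≫ q)⁻¹
  map_p z w k g h := by
    show (qMap k _).base = _
    rw [qMap_base]
    simp
  map_id {T} z h := by
    refine AlgSt.QuotObj.hom_ext (qMap_base _ _) ?_
    rw [qMap_top, MonObj.one_comp, inv_one, MonObj.comp_one, _root_.mul_one, Category.comp_id, lift_fst_snd]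
    rfl
  map_comp {T W V} z w v k g hh l g' hh' hh'' := by
    show qMap _ _ ≫ qMap _ _ = qMap _ _
    rw [qMap_comp, MonObj.mul_comp, _root_.mul_inv_rev, Category.assoc, comp_inv k]

variable [IsAffineHom H.hom]

/-- Extension of the structure group. -/
def ext : AlgSt.BG Scheme.fppfPrecoverage G ⥤ᵇ AlgSt.BG Scheme.fppfPrecoverage H :=
  (datum q).functor (Stk19b.Quot.isStack_fppf (AlgSt.trivAction H))

/-- The trivial torsor with group `G`. -/
abbrev obS (T : Over S) : AlgSt.QuotObj Scheme.fppfPrecoverage G (AlgSt.trivAction G) :=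
  triv Scheme.fppfPrecoverage (AlgSt.trivAction G) (toUnit T)

/-- The comparison of the trivial torsors. -/
def unitHom (T : Over S) : (obT T : (AlgSt.BG Scheme.fppfPrecoverage H).obj) ⟶ (ext q).obj (obS T) :=
  (datum q).inj (obS T) (Stk19b.Quot.isStack_fppf (AlgSt.trivAction H)) (unitSec T)

theorem unitHom_p (T : Over S) : (AlgSt.BG Scheme.fppfPrecoverage H).p.map (unitHom q T) =
    eqToHom ((ext q).w_obj (obS T)).symm := by
  have e : unitSec (G := G) T ≫ (obS (G := G) T).π = 𝟙 T := lift_snd _ _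
  refine ((datum q).inj_p (obS T) _ (unitSec T)).trans ?_
  rw [reassoc_of% e]
  simp

theorem exists_qMap_unit {Z W : Over S} (k : Z ⟶ W) (g : Z ⟶ G) :
    ∃ h : obS (G := G) Z ⟶ obS W, h.base = k ∧ qMap k (g ≫ q)⁻¹ ≫ unitHom q W = unitHom q Z ≫ (ext q).map h := by
  let hS := Stk19b.Quot.isStack_fppf (AlgSt.trivAction H)
  let B := obS (G := G) W
  let p : Z ⟶ B.P := smulPt B.act g⁻¹ (k ≫ unitSec W)
  have hg : smulPt B.act g p = k ≫ unitSec W := smulPt_smul_inv _ _ _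
  have hk : k ≫ unitSec W ≫ B.π = p ≫ B.π := by rw [smulPt_π, Category.assoc]
  have hpk : p ≫ B.π = k := by
    rw [← hk, show unitSec W ≫ B.π = 𝟙 W from lift_snd _ _, Category.comp_id]
  obtain ⟨h, hb, ht⟩ := exists_hom_of_point B p k hpk (toUnit Z) (toUnit_unique _ _)
  refine ⟨h, hb, ?_⟩
  have hu : unitSec Z ≫ h.top = p := by
    rw [ht, comp_smulPt, lift_fst, lift_snd_assoc, Category.id_comp, smulPt_one]
  have h1 : (datum q).E B p (unitSec W) k hk ≫ (datum q).inj B hS (unitSec W) = (datum q).inj B hS p :=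
    (datum q).inj_E B hS p (unitSec W) k hk
  rw [(datum q).E_eq B p (unitSec W) k hk hg] at h1
  refine h1.trans ?_
  refine Eq.trans ?_ ((datum q).inj_gMap (A := obS Z) hS h (unitSec Z)).symm
  rw [← (datum q).inj_congr B hS hu, eqToHom_trans_assoc]
  simp

variable [Flat q.left] [LocallyOfFinitePresentation q.left] [Surjective q.left]

theorem exists_lift {T T' : Over S} (ψ : obT (H := H) T ⟶ obT T') :
    ∃ (W : Over S) (n : W ⟶ T) (g : W ⟶ G), Flat n.left ∧ LocallyOfFinitePresentation n.left ∧ Surjective n.left ∧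
      qMap n ((1 : W ⟶ G) ≫ q)⁻¹ ≫ ψ = qMap (n ≫ ψ.base) (g ≫ q)⁻¹ := by
  obtain ⟨h, -, ht⟩ := exists_smul_of_hom (K := Scheme.fppfPrecoverage) ψ ψ.base rfl
  have hψ : ψ = qMap ψ.base h := AlgSt.QuotObj.hom_ext (qMap_base _ _).symm (ht.trans (qMap_top _ _).symm)
  have sq := (IsPullback.of_hasPullback h⁻¹ q).map (Over.forget S)
  refine ⟨pullback h⁻¹ q, pullback.fst _ _, pullback.snd _ _,
    MorphismProperty.IsStableUnderBaseChange.of_isPullback (P := @Flat) sq.flip ‹_›,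
    MorphismProperty.IsStableUnderBaseChange.of_isPullback (P := @LocallyOfFinitePresentation) sq.flip ‹_›,
    MorphismProperty.IsStableUnderBaseChange.of_isPullback (P := @Surjective) sq.flip ‹_›, ?_⟩
  conv_lhs => rw [hψ]
  rw [qMap_comp, MonObj.one_comp, inv_one, _root_.one_mul, ← pullback.condition, ← comp_inv, _root_.inv_inv]

variable (σ : AlgSt.BG Scheme.fppfPrecoverage G ⥤ᵇ AlgSt.ofSch (Over.mk (𝟙 S)))
  (τ : AlgSt.BG Scheme.fppfPrecoverage H ⥤ᵇ AlgSt.ofSch (Over.mk (𝟙 S)))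

theorem map_hom {C : AlgSt.Cat S} (ρ : C ⥤ᵇ AlgSt.ofSch (Over.mk (𝟙 S))) {z' z : C.obj} (ψ : z' ⟶ z)
    {ee : (AlgSt.ofSch (Over.mk (𝟙 S))).obj} (β : ρ.obj z ⟶ ee) :
    (ρ.map ψ ≫ β).hom = eqToHom (ρ.w_obj z') ≫ C.p.map ψ ≫ eqToHom (ρ.w_obj z).symm ≫ β.hom := by
  show (ρ.map ψ).hom ≫ β.hom = _
  rw [show (ρ.map ψ).hom = eqToHom (ρ.w_obj z') ≫ C.p.map ψ ≫ eqToHom (ρ.w_obj z).symm from Functor.congr_hom ρ.w ψ]
  simp

theorem toE_map {C D : AlgSt.Cat S} (ρ : C ⥤ᵇ AlgSt.ofSch (Over.mk (𝟙 S))) (θ : D ⥤ᵇ AlgSt.ofSch (Over.mk (𝟙 S)))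
    {a' a : C.obj} {x' x : D.obj} (m : a' ⟶ a) (ψ : x' ⟶ x) (e : C.p.obj a = D.p.obj x) (e' : C.p.obj a' = D.p.obj x')
    (hm : C.p.map m = eqToHom e' ≫ D.p.map ψ ≫ eqToHom e.symm)
    {ee : (AlgSt.ofSch (Over.mk (𝟙 S))).obj} (β : θ.obj x ⟶ ee) :
    ρ.map m ≫ AffineRep.toE ρ a (eqToHom e ≫ eqToHom (θ.w_obj x).symm ≫ β.hom) =
      AffineRep.toE ρ a' (eqToHom e' ≫ eqToHom (θ.w_obj x').symm ≫ (θ.map ψ ≫ β).hom) := by
  refine AffineRep.ofSch_hom_ext ?_
  rw [map_hom]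
  simp only [AffineRep.toE]
  rw [map_hom θ ψ β, hm]
  simp

variable [Flat H.hom] [LocallyOfFinitePresentation H.hom]

theorem exists_cover_obT (x : (AlgSt.BG Scheme.fppfPrecoverage H).obj) :
    ∃ (T : Over S) (n : (obT T : (AlgSt.BG Scheme.fppfPrecoverage H).obj) ⟶ x),
      Cv (𝒳 := AlgSt.BG Scheme.fppfPrecoverage H) n := by
  haveI : Scheme.fppfPrecoverage.{u}.IsStableUnderBaseChange :=
    inferInstanceAs (Scheme.precoverage (@Flat ⊓ @LocallyOfFinitePresentation)).IsStableUnderBaseChange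
  have hK := Scheme.fppfPrecoverage_le_fpqcPrecoverage.{u}
  obtain ⟨n, hn, -⟩ := exists_hom_of_point x (𝟙 x.P) x.π (Category.id_comp _) (toUnit x.P) (toUnit_unique _ _)
  refine ⟨x.P, n, ?_, ?_, ?_⟩
  · show Flat n.base.left
    rw [hn]; exact Stk19b.Quot.π_prop hK @Flat AlgSpLib.descends_flat inferInstance x
  · show LocallyOfFinitePresentation n.base.left
    rw [hn]; exact Stk19b.Quot.π_prop hK @LocallyOfFinitePresentation inferInstance inferInstance x
  · show Surjective n.base.left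
    rw [hn]; exact Stk19b.Quot.π_prop hK @Surjective inferInstance Stk19b.Quot.surjective_hom x

include q in
theorem isCohAffine (h : StMod.IsCohAffine σ) : StMod.IsCohAffine τ := by
  intro F K u hu E hE
  show Function.Surjective _
  intro t
  let X := AlgSt.BG Scheme.fppfPrecoverage H
  let f := ext q
  have hX : IsFibGrpd X.p := (Stk19b.Quot.isStack_fppf (AlgSt.trivAction H)).1
  let ee := StMod.etaOf E
  let aa : ∀ a, (σ.obj a ⟶ ee) → (τ.obj (f.obj a) ⟶ ee) := fun a β =>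
    AffineRep.toE τ _ (eqToHom (f.w_obj a) ≫ eqToHom (σ.w_obj a).symm ≫ β.hom)
  have fmap : ∀ {a' a : (AlgSt.BG Scheme.fppfPrecoverage G).obj} (k : a' ⟶ a),
      X.p.map (f.map k) = eqToHom (f.w_obj a') ≫ (AlgSt.BG Scheme.fppfPrecoverage G).p.map k ≫ eqToHom (f.w_obj a).symm :=
    fun k => Functor.congr_hom f.w k
  let t' : StMod.Mod.RelSect σ ((StMod.comapQ f).obj K).obj ee := ⟨fun a β => pb f K.obj a (t.1 (f.obj a) (aa a β)),
    fun a' a k β => by
      refine (mapTop_pb f K.obj k _).trans (congrArg (pb f K.obj a') ((t.2 (f.map k) _).trans (congrArg (t.1 _) ?_)))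
      exact toE_map τ σ (f.map k) k (f.w_obj a) (f.w_obj a') (fmap k) β⟩
  obtain ⟨s', hs'⟩ := h ((StMod.comapQ f).map u) (isSurj_comapMap f F.obj hu) E hE t'
  choose w hw using fun a β => (pb_bijective f F.obj a).2 (s'.1 a β)
  let bb : ∀ T : Over S, (τ.obj (obT T) ⟶ ee) → (σ.obj (obS T) ⟶ ee) := fun T α =>
    AffineRep.toE σ _ (eqToHom (rfl : (AlgSt.BG Scheme.fppfPrecoverage G).p.obj (obS T) = X.p.obj (obT T)) ≫
      eqToHom (τ.w_obj (obT (H := H) T)).symm ≫ α.hom)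
  let v : ∀ T, (τ.obj (obT T) ⟶ ee) → Γ(F.obj.obj (obT T), ⊤) := fun T α =>
    F.obj.mapTop (unitHom q T) (w (obS T) (bb T α))
  have hbb : ∀ T α, τ.map (unitHom q T) ≫ aa (obS T) (bb T α) = α := fun T α => by
    refine AffineRep.ofSch_hom_ext ?_
    rw [map_hom, unitHom_p]
    simp [aa, bb, AffineRep.toE]
  have hv0 : ∀ {Z W : Over S} (k : Z ⟶ W) (g : Z ⟶ G) α,
      F.obj.mapTop (qMap k (g ≫ q)⁻¹ : (obT Z : X.obj) ⟶ obT W) (v W α) = v Z (τ.map (qMap k (g ≫ q)⁻¹) ≫ α) := by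
    intro Z W k g α
    obtain ⟨m, hm, he⟩ := exists_qMap_unit q k g
    show F.obj.mapTop _ (F.obj.mapTop _ _) = F.obj.mapTop _ _
    rw [← StMod.Mod.mapTop_comp, he, StMod.Mod.mapTop_comp]
    refine congrArg (F.obj.mapTop (unitHom q Z)) ((pb_bijective f F.obj (obS Z)).1 ?_)
    rw [hw, ← mapTop_pb f F.obj m, hw]
    refine (s'.2 m (bb W α)).trans (congrArg (s'.1 _) (toE_map σ τ m
      (qMap k (g ≫ q)⁻¹ : (obT Z : X.obj) ⟶ obT W) rfl rfl ?_ α))
    show m.base = 𝟙 Z ≫ (qMap k (g ≫ q)⁻¹).base ≫ 𝟙 W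
    rw [qMap_base, hm]
    exact ((Category.id_comp _).trans (Category.comp_id k)).symm
  have hv : ∀ T T' (ψ : (obT T : X.obj) ⟶ obT T') α, F.obj.mapTop ψ (v T' α) = v T (τ.map ψ ≫ α) := by
    intro T T' ψ α
    obtain ⟨W, n, g, h1, h2, h3, he⟩ := exists_lift q ψ
    let c : (obT W : X.obj) ⟶ obT T := qMap n ((1 : W ⟶ G) ≫ q)⁻¹
    have hc : Cv (𝒳 := X) c := by
      have e : StMod.bmap X c = n.left := congrArg Over.Hom.left (qMap_base _ _)
      unfold Cv
      rw [e]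
      exact ⟨h1, h2, h3⟩
    apply mapTop_injective hX F c hc
    rw [← StMod.Mod.mapTop_comp, hv0 n 1, ← Category.assoc, ← τ.toFunctor.map_comp]
    show F.obj.mapTop (c ≫ ψ) _ = v W (τ.map (c ≫ ψ) ≫ α)
    rw [show c ≫ ψ = qMap (n ≫ ψ.base) (g ≫ q)⁻¹ from he]
    exact hv0 _ _ α
  obtain ⟨s, hs⟩ := exists_relSect hX F (τ := τ) (ee := ee) (fun T : Over S => (obT T : X.obj)) exists_cover_obT v hv
  refine ⟨s, StMod.Mod.RelSect.ext τ K.obj ee fun x α => ?_⟩
  obtain ⟨T, n, hn⟩ := exists_cover_obT x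
  apply mapTop_injective hX K n hn
  show K.obj.mapTop n ((u.hom.app x).app ⊤ (s.1 x α)) = _
  rw [StMod.Mod.mapTop_app, hs T x n α]
  show (u.hom.app (obT T)).app ⊤ (F.obj.mapTop _ _) = _
  rw [← StMod.Mod.mapTop_app]
  have key : (u.hom.app _).app ⊤ (w (obS T) (bb T (τ.map n ≫ α))) = t.1 _ (aa _ (bb T (τ.map n ≫ α))) := by
    refine (pb_bijective f K.obj (obS T)).1 ?_
    rw [← app_pb, hw]
    exact congrArg (fun r : StMod.Mod.RelSect σ ((StMod.comapQ f).obj K).obj ee => r.1 _ _) hs'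
  rw [key, t.2, hbb, ← t.2]

end Groth.Agent.ResProp20.QuotRed
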